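import Cfsg.Agent.Lib.Helper15.BG13CDefs
import Cfsg.Agent.S1407

/-!
# B&G Corollary 13.3(b) (row S1428, architect helper15): piece C-CS

`cs : CSStmt G`: for a maximal subgroup `H`, `p ∈ β(H)`, a prime `t ∉ σ(H)` with `H` of `t`-rank at
most one and `Z ≤ H` of order `t`, every `p`-subgroup of `H_β ∩ C(Z)` is cyclic.
-/

set_option autoImplicit false

open Cfsg Cfsg.Agent.Lib.Helper32 Cfsg.Agent.Lib.Helper32.BG10 Cfsg.Agent.Lib.Helper3.BG12

namespace Cfsg.Agent.Lib.Helper15.BG13C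

universe u

theorem cs_piCore_mono {π π' : Set ℕ} (h : π ⊆ π') (X : Type u) [Group X] :
    piCore π X ≤ piCore π' X := by
  unfold piCore
  apply sSup_le_sSup
  rintro N ⟨hN, hNp⟩
  exact ⟨hN, fun p hp hpd => h (hNp p hp hpd)⟩

theorem cs_norm_map {G : Type u} [Group G] {H : Subgroup G} (K : Subgroup ↥H) [K.Normal] :
    H ≤ Subgroup.normalizer ((K.map H.subtype : Subgroup G) : Set G) := by
  intro h hh
  rw [Subgroup.mem_normalizer_iff]
  intro n
  constructor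
  · rintro ⟨k, hk, rfl⟩
    refine ⟨⟨h, hh⟩ * k * ⟨h, hh⟩⁻¹, ‹K.Normal›.conj_mem k hk ⟨h, hh⟩, rfl⟩
  · rintro ⟨k, hk, hkn⟩
    refine ⟨⟨h, hh⟩⁻¹ * k * ⟨h, hh⟩, ?_, ?_⟩
    · have := ‹K.Normal›.conj_mem k hk ⟨h, hh⟩⁻¹
      rwa [inv_inv] at this
    · have h2 : (H.subtype k : G) = h * n * h⁻¹ := hkn
      show h⁻¹ * (H.subtype k : G) * h = n
      rw [h2]; group

/-- the elementary abelian subgroup used for the rank argument -/
def cs_elemAb {G : Type u} [Group G] (H : Subgroup G) (t : ℕ) (x z : G) : Subgroup G where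
  carrier := {a | a ∈ H ∧ a ∈ Subgroup.centralizer ({x, z} : Set G) ∧
    (∀ b ∈ Subgroup.centralizer ({x, z} : Set G), a * b = b * a) ∧ a ^ t = 1}
  one_mem' := ⟨H.one_mem, Subgroup.one_mem _, fun b _ => by rw [one_mul, mul_one], one_pow t⟩
  mul_mem' := by
    rintro a a' ⟨h1, h2, h3, h4⟩ ⟨h1', h2', h3', h4'⟩
    refine ⟨H.mul_mem h1 h1', Subgroup.mul_mem _ h2 h2', fun b hb => ?_, ?_⟩
    · rw [mul_assoc, h3' b hb, ← mul_assoc, h3 b hb, mul_assoc]
    · have hc : Commute a a' := h3 a' h2'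
      rw [hc.mul_pow, h4, h4', one_mul]
  inv_mem' := by
    rintro a ⟨h1, h2, h3, h4⟩
    refine ⟨H.inv_mem h1, Subgroup.inv_mem _ h2, fun b hb => ?_, ?_⟩
    · have hc : Commute a b := h3 b hb
      exact hc.inv_left.eq
    · rw [inv_pow, h4, inv_one]

theorem cs_generic {G : Type u} [Group G] [Finite G] (H N : Subgroup G)
    (hN : H ≤ Subgroup.normalizer (N : Set G)) (p t : ℕ) [Fact p.Prime] [Fact t.Prime]
    (S : Sylow t ↥H) (x : G)
    (hx : x ∈ ((Subgroup.center ↥(S : Subgroup H)).map (S : Subgroup H).subtype).map H.subtype)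
    (hxo : orderOf x = t)
    (hZG : IsZGroup ↥(N ⊓ Subgroup.centralizer ({x} : Set G)))
    (hr : PRankLE t 1 ↥H) (Z : Subgroup G) (hZH : Z ≤ H) (hZt : Nat.card Z = t)
    (T : Subgroup G) (hT : T ≤ N ⊓ Subgroup.centralizer (Z : Set G)) (hTp : IsPGroup p T) :
    IsCyclic T := by
  have htp : t.Prime := Fact.out
  -- x commutes with the elements of S
  obtain ⟨y, ⟨c, hc, rfl⟩, rfl⟩ := hx
  have hxS : ∀ s : ↥H, s ∈ (S : Subgroup ↥H) → (s : G) * ((c : ↥H) : G) = ((c : ↥H) : G) * (s : G) := by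
    intro s hs
    have h1 := Subgroup.mem_center_iff.mp hc ⟨s, hs⟩
    have h2 := congrArg (fun w : ↥(S : Subgroup ↥H) => ((w : ↥H) : G)) h1
    exact h2
  set x : G := ((c : ↥H) : G) with hxdef
  have hxH : x ∈ H := (c : ↥H).2
  have hxt : x ^ t = 1 := by rw [← hxo]; exact pow_orderOf_eq_one x
  -- Z is conjugate into S
  have hZ'card : Nat.card (Z.subgroupOf H) = t ^ 1 := by
    rw [Nat.card_congr (Subgroup.subgroupOfEquivOfLe hZH).toEquiv, hZt, pow_one]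
  have hZ'p : IsPGroup t (Z.subgroupOf H) := IsPGroup.of_card hZ'card
  obtain ⟨Q, hQ⟩ := hZ'p.exists_le_sylow
  obtain ⟨g, hg⟩ := MulAction.exists_smul_eq ↥H S Q
  have key : ∀ y : ↥H, y ∈ (Q : Subgroup ↥H) ↔ g⁻¹ * y * g ∈ (S : Subgroup ↥H) := by
    intro y
    have h := congrArg (fun P : Sylow t ↥H => y ∈ (P : Subgroup ↥H)) hg
    simp only [Sylow.coe_subgroup_smul] at h
    rw [← h, Subgroup.mem_pointwise_smul_iff_inv_smul_mem]
    simp [MulAut.smul_def]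
  -- a nontrivial element of Z
  have hZne : ∃ z₀ ∈ Z, z₀ ≠ 1 := by
    by_contra hcon
    have hcon' : ∀ z ∈ Z, z = 1 := by
      intro z hz
      by_contra h
      exact hcon ⟨z, hz, h⟩
    have hbot : Z = ⊥ := (Subgroup.eq_bot_iff_forall Z).mpr hcon'
    rw [hbot, Subgroup.card_bot] at hZt
    exact htp.one_lt.ne hZt
  obtain ⟨z₀, hz₀, hz₀1⟩ := hZne
  have hz₀t : z₀ ^ t = 1 := by
    have h1 : (⟨z₀, hz₀⟩ : ↥Z) ^ Nat.card ↥Z = 1 := pow_card_eq_one'
    rw [hZt] at h1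
    exact congrArg Subtype.val h1
  set z₁ : G := (g : G)⁻¹ * z₀ * (g : G) with hz₁def
  have hz₁S : (g⁻¹ * ⟨z₀, hZH hz₀⟩ * g : ↥H) ∈ (S : Subgroup ↥H) :=
    (key ⟨z₀, hZH hz₀⟩).mp (hQ (Subgroup.mem_subgroupOf.mpr hz₀))
  have hz₁H : z₁ ∈ H := H.mul_mem (H.mul_mem (H.inv_mem g.2) (hZH hz₀)) g.2
  have hz₁x : z₁ * x = x * z₁ := hxS _ hz₁S
  have hz₁t : z₁ ^ t = 1 := by
    have h1 : z₁ = MulAut.conj (g : G)⁻¹ z₀ := by
      rw [MulAut.conj_apply, inv_inv]
    rw [h1, ← map_pow, hz₀t, map_one]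
  have hz₁1 : z₁ ≠ 1 := by
    intro h
    apply hz₀1
    have h2 : z₀ = (g : G) * z₁ * (g : G)⁻¹ := by rw [hz₁def]; group
    rw [h2, h, mul_one, mul_inv_cancel]
  -- the rank argument
  have hxE : x ∈ cs_elemAb H t x z₁ := by
    refine ⟨hxH, ?_, ?_, hxt⟩
    · rw [Subgroup.mem_centralizer_iff]
      intro b hb
      rcases hb with rfl | rfl
      · rfl
      · exact hz₁x
    · intro b hb
      exact (Subgroup.mem_centralizer_iff.mp hb) x (by simp)
  have hzE : z₁ ∈ cs_elemAb H t x z₁ := by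
    refine ⟨hz₁H, ?_, ?_, hz₁t⟩
    · rw [Subgroup.mem_centralizer_iff]
      intro b hb
      rcases hb with rfl | rfl
      · exact hz₁x.symm
      · rfl
    · intro b hb
      exact (Subgroup.mem_centralizer_iff.mp hb) z₁ (by simp)
  have hEH : cs_elemAb H t x z₁ ≤ H := fun a ha => ha.1
  have hEcard : Nat.card (cs_elemAb H t x z₁) ≤ t := by
    have h1 := hr ((cs_elemAb H t x z₁).subgroupOf H) ⟨⟨?_⟩⟩ ?_
    · rw [Nat.card_congr (Subgroup.subgroupOfEquivOfLe hEH).toEquiv, pow_one] at h1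
      exact h1
    · rintro ⟨a, ha⟩ ⟨b, hb⟩
      rw [Subgroup.mem_subgroupOf] at ha hb
      exact Subtype.ext (Subtype.ext (ha.2.2.1 _ hb.2.1))
    · intro a ha
      rw [Subgroup.mem_subgroupOf] at ha
      exact Subtype.ext ha.2.2.2
  have hzpE : Subgroup.zpowers z₁ ≤ cs_elemAb H t x z₁ := (Subgroup.zpowers_le).mpr hzE
  have hzpcard : Nat.card (Subgroup.zpowers z₁) = t := by
    rw [Nat.card_zpowers]
    exact orderOf_eq_prime hz₁t hz₁1
  have hEq : Subgroup.zpowers z₁ = cs_elemAb H t x z₁ :=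
    Subgroup.eq_of_le_of_card_ge hzpE (by rw [hzpcard]; exact hEcard)
  have hxz : x ∈ Subgroup.zpowers z₁ := by rw [hEq]; exact hxE
  obtain ⟨k, hk⟩ := Subgroup.mem_zpowers_iff.mp hxz
  -- g x g⁻¹ ∈ Z
  have hgx : (g : G) * x * (g : G)⁻¹ ∈ Z := by
    have h1 : (g : G) * x * (g : G)⁻¹ = z₀ ^ k := by
      rw [← hk, hz₁def]
      have h2 : ((g : G)⁻¹ * z₀ * (g : G)) ^ k = (g : G)⁻¹ * z₀ ^ k * (g : G) := by
        have h3 : (g : G)⁻¹ * z₀ * (g : G) = MulAut.conj (g : G)⁻¹ z₀ := by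
          rw [MulAut.conj_apply, inv_inv]
        have h4 : (g : G)⁻¹ * z₀ ^ k * (g : G) = MulAut.conj (g : G)⁻¹ (z₀ ^ k) := by
          rw [MulAut.conj_apply, inv_inv]
        rw [h3, h4, map_zpow]
      rw [h2]; group
    rw [h1]
    exact Z.zpow_mem hz₀ k
  -- the conjugate of T
  set K : Subgroup G := N ⊓ Subgroup.centralizer ({x} : Set G) with hKdef
  set T' : Subgroup G := T.map (MulAut.conj (g : G)⁻¹).toMonoidHom with hT'def
  have hT'K : T' ≤ K := by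
    rintro _ ⟨τ, hτ, rfl⟩
    have hτN : τ ∈ N := (hT hτ).1
    have hτZ := Subgroup.mem_centralizer_iff.mp (hT hτ).2 _ hgx
    refine ⟨?_, Subgroup.mem_centralizer_iff.mpr ?_⟩
    · show (g : G)⁻¹ * τ * (g : G)⁻¹⁻¹ ∈ N
      have h1 := (Subgroup.mem_normalizer_iff.mp (hN (H.inv_mem g.2))) τ
      exact h1.mp hτN
    · intro b hb
      rw [Set.mem_singleton_iff] at hb
      subst hb
      show x * ((g : G)⁻¹ * τ * (g : G)⁻¹⁻¹) = (g : G)⁻¹ * τ * (g : G)⁻¹⁻¹ * x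
      rw [inv_inv]
      have h2 : (g : G) * x * (g : G)⁻¹ * τ = τ * ((g : G) * x * (g : G)⁻¹) := hτZ
      calc x * ((g : G)⁻¹ * τ * (g : G))
          = (g : G)⁻¹ * ((g : G) * x * (g : G)⁻¹ * τ) * (g : G) := by group
        _ = (g : G)⁻¹ * (τ * ((g : G) * x * (g : G)⁻¹)) * (g : G) := by rw [h2]
        _ = (g : G)⁻¹ * τ * (g : G) * x := by group
  have hT'p : IsPGroup p T' := hTp.map _
  have hT''p : IsPGroup p (T'.subgroupOf K) := hT'p.comap_subtype
  obtain ⟨P, hP⟩ := hT''p.exists_le_sylow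
  have hPc : IsCyclic ↥(P : Subgroup ↥K) := hZG.isZGroup p Fact.out P
  have hcyc'' : IsCyclic ↥(T'.subgroupOf K) := Subgroup.isCyclic_of_le hP
  let e : ↥(T'.subgroupOf K) ≃* ↥T :=
    (Subgroup.subgroupOfEquivOfLe hT'K).trans
      (T.equivMapOfInjective (MulAut.conj (g : G)⁻¹).toMonoidHom (MulAut.conj (g : G)⁻¹).injective).symm
  exact isCyclic_of_surjective e e.surjective

variable {G : Type u} [Group G] [Finite G]

theorem cs : CSStmt G := by
  intro hG H hH p _ hp t _ ht hr Z hZH hZt T hT hTp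
  have hle : piCoreOf (beta H) H ≤ alphaCore H :=
    Subgroup.map_mono (cs_piCore_mono (fun q hq => hq.1) ↥H)
  have hTle : T ≤ alphaCore H ⊓ Subgroup.centralizer (Z : Set G) :=
    le_trans hT (inf_le_inf_right _ hle)
  by_cases hα : alphaCore H = ⊥
  · have hsub : Subsingleton ↥T := by
      constructor
      intro a b
      have ha : (a : G) ∈ alphaCore H := (hTle a.2).1
      have hb : (b : G) ∈ alphaCore H := (hTle b.2).1
      rw [hα, Subgroup.mem_bot] at ha hb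
      exact Subtype.ext (ha.trans hb.symm)
    exact isCyclic_of_subsingleton
  · have htdvd : t ∣ Nat.card H := by
      rw [← hZt]
      exact Subgroup.card_dvd_of_le hZH
    obtain ⟨S⟩ : Nonempty (Sylow t ↥H) := inferInstance
    obtain ⟨x, hx, hxo, hZG, -⟩ := Cfsg.Agent.S1407.result hG H hH hα t htdvd ht S
    exact cs_generic H (alphaCore H) (cs_norm_map (piCore (alpha H) ↥H)) p t S x hx hxo hZG hr Z hZH
      hZt T hTle hTp

end Cfsg.Agent.Lib.Helper15.BG13C
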