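import Mathlib

/-!
Verified coset-enumeration certificates (involution generators), part 1: the packed certificate,
the kernel-friendly checker and its soundness for an abstract action.

A certificate describes a Todd–Coxeter run statically.  Raw vertices `0 … m-1` are the cosets ever
defined (each one a tree child of an earlier one).  For each raw vertex `x` and letter `s` there is
at most one edge fact `x·s = y`, and for each raw vertex at most one merge fact `v = p`; every fact
carries a rank (a time stamp) and a justification: a relator (or subgroup word) scan that only uses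
facts of smaller rank.  All the data is packed into natural numbers; the checker only uses
operations which the kernel evaluates natively.
-/

namespace Cfsg.Agent.Lib.Helper38

/-! ### Kernel-friendly booleans and loops -/

/-- `sel c t e` is `if c then t else e`, written with the recursor. -/
noncomputable def sel {α : Type} (c : Bool) (t e : α) : α := @Bool.rec (fun _ => α) e t c

theorem sel_true {α : Type} (t e : α) : sel true t e = t := rfl
theorem sel_false {α : Type} (t e : α) : sel false t e = e := rfl

noncomputable def band (a b : Bool) : Bool := sel a b false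
noncomputable def bor (a b : Bool) : Bool := sel a true b

theorem band_iff {a b : Bool} : band a b = true ↔ a = true ∧ b = true := by
  cases a <;> simp [band, sel_true, sel_false]

theorem bor_iff {a b : Bool} : bor a b = true ↔ a = true ∨ b = true := by
  cases a <;> simp [bor, sel_true, sel_false]

theorem blt_iff {a b : Nat} : Nat.blt a b = true ↔ a < b := by
  simp [Nat.blt]

theorem beq_iff {a b : Nat} : Nat.beq a b = true ↔ a = b := by
  simp

theorem ble_iff {a b : Nat} : Nat.ble a b = true ↔ a ≤ b := by
  simp

noncomputable def allB (n : Nat) (p : Nat → Bool) : Bool :=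
  Nat.rec true (fun k ih => band (p k) ih) n

theorem allB_succ (n : Nat) (p : Nat → Bool) : allB (n + 1) p = band (p n) (allB n p) := rfl

theorem allB_iff {n : Nat} {p : Nat → Bool} : allB n p = true ↔ ∀ i < n, p i = true := by
  induction n with
  | zero => simp [allB]
  | succ n ih =>
    rw [allB_succ, band_iff, ih]
    constructor
    · rintro ⟨h1, h2⟩ i hi
      rcases Nat.lt_succ_iff_lt_or_eq.mp hi with h | h
      · exact h2 i h
      · subst h; exact h1
    · intro h
      exact ⟨h n (Nat.lt_succ_self n), fun i hi => h i (Nat.lt_succ_of_lt hi)⟩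

/-- `p i` for all `lo ≤ i < lo + len`. -/
noncomputable def allFrom (lo len : Nat) (p : Nat → Bool) : Bool :=
  allB len (fun i => p (Nat.add lo i))

theorem allFrom_iff {lo len : Nat} {p : Nat → Bool} :
    allFrom lo len p = true ↔ ∀ i, lo ≤ i → i < lo + len → p i = true := by
  unfold allFrom
  rw [allB_iff]
  constructor
  · intro h i h1 h2
    have := h (i - lo) (by omega)
    have e : Nat.add lo (i - lo) = i := by show lo + (i - lo) = i; omega
    rwa [e] at this
  · intro h i hi
    exact h (Nat.add lo i) (by show lo ≤ lo + i; omega) (by show lo + i < lo + len; omega)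

theorem allFrom_join {lo a b : Nat} {p : Nat → Bool} (h1 : allFrom lo a p = true)
    (h2 : allFrom (lo + a) b p = true) : allFrom lo (a + b) p = true := by
  rw [allFrom_iff] at *
  intro i hi1 hi2
  rcases lt_or_ge i (lo + a) with h | h
  · exact h1 i hi1 h
  · exact h2 i h (by omega)

/-- apply `f` to the value of `x`; in the kernel the argument handed to `f` is a literal. -/
noncomputable def strict (x : Nat) (f : Nat → Nat) : Nat :=
  Nat.rec (f 0) (fun n _ => f n) (Nat.succ x)

theorem strict_eq (x : Nat) (f : Nat → Nat) : strict x f = f x := rfl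

/-- Boolean-valued variant of `strict`. -/
noncomputable def strictB (x : Nat) (f : Nat → Bool) : Bool :=
  Nat.rec (f 0) (fun n _ => f n) (Nat.succ x)

theorem strictB_eq (x : Nat) (f : Nat → Bool) : strictB x f = f x := rfl

/-! ### Packed tables -/

/-- record `k` (width `w` bits) of the packed number `T` -/
noncomputable def rcd (T w k : Nat) : Nat :=
  Nat.land (Nat.shiftRight T (Nat.mul w k)) (Nat.sub (Nat.pow 2 w) 1)

/-- field at bit offset `o` with mask `mask` of the record `r` -/
noncomputable def fld (r o mask : Nat) : Nat := Nat.land (Nat.shiftRight r o) mask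

/-- a binary search tree of packed leaves -/
inductive BT where
  | leaf (a : Nat)
  | node (thr : Nat) (l r : BT)

noncomputable def BT.get (t : BT) : Nat → Nat :=
  @BT.rec (fun _ => Nat → Nat) (fun a _ => a)
    (fun thr _ _ ihl ihr k => sel (Nat.ble thr k) (ihr k) (ihl k)) t

/-- A packed coset-enumeration certificate. -/
structure Cert where
  g : Nat
  m : Nat
  n : Nat
  R : Nat
  fuel : Nat
  nw : Nat
  nrel : Nat
  nsub : Nat
  lg : Nat
  lmask : Nat
  rW : Nat
  eW : Nat
  mv : Nat
  mr : Nat
  mw : Nat
  mt : Nat
  ml : Nat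
  oR : Nat
  oK : Nat
  oW : Nat
  oT : Nat
  oU : Nat
  oM : Nat
  oMR : Nat
  oMW : Nat
  oMT : Nat
  oMU : Nat
  oP : Nat
  oL : Nat
  rows : BT
  wW : Nat
  wt : Nat
  wl : Nat
  WD : Nat
  lgN : Nat
  lmaskN : Nat
  nW : Nat
  wv : Nat
  oCan : Nat
  oPN : Nat
  oLN : Nat
  oComp : Nat
  mc : Nat
  oOP : Nat
  oOW : Nat
  oOD : Nat
  md : Nat
  oODir : Nat
  ncomp : Nat
  ROOTS : Nat
  nrows : BT

namespace Cert

variable (C : Cert)

noncomputable def rowL (v : Nat) : Nat :=
  rcd (strict (Nat.shiftRight v C.lg) C.rows.get) C.rW (Nat.land v C.lmask)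

/-- the packed row of the raw vertex `v` -/
noncomputable def row (v : Nat) : Nat := strict v C.rowL

noncomputable def eF (r s o mask : Nat) : Nat :=
  Nat.land (Nat.shiftRight r (Nat.add (Nat.mul C.eW s) o)) mask

noncomputable def eTgt (r s : Nat) : Nat := C.eF r s 0 C.mv
noncomputable def eRinv (r s : Nat) : Nat := C.eF r s C.oR C.mr
noncomputable def eKind (r s : Nat) : Nat := C.eF r s C.oK 3
noncomputable def eWid (r s : Nat) : Nat := C.eF r s C.oW C.mw
noncomputable def eT (r s : Nat) : Nat := C.eF r s C.oT C.mt
noncomputable def eU (r s : Nat) : Nat := C.eF r s C.oU C.mv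

noncomputable def mP (r : Nat) : Nat := fld r C.oM C.mv
noncomputable def mRinv (r : Nat) : Nat := fld r C.oMR C.mr
noncomputable def mWid (r : Nat) : Nat := fld r C.oMW C.mw
noncomputable def mT (r : Nat) : Nat := fld r C.oMT C.mt
noncomputable def mU (r : Nat) : Nat := fld r C.oMU C.mv

noncomputable def par (r : Nat) : Nat := fld r C.oP C.mv
noncomputable def lab (r : Nat) : Nat := fld r C.oL C.ml

noncomputable def wLen (wid : Nat) : Nat := fld (rcd C.WD C.wW wid) 0 C.mt
noncomputable def letter (wid i : Nat) : Nat :=
  fld (rcd C.WD C.wW wid) (Nat.add C.wt (Nat.mul C.wl i)) C.ml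

noncomputable def nrowL (c : Nat) : Nat :=
  rcd (strict (Nat.shiftRight c C.lgN) C.nrows.get) C.nW (Nat.land c C.lmaskN)

/-- the packed row of the coset `c` -/
noncomputable def nrow (c : Nat) : Nat := strict c C.nrowL

noncomputable def tn (c s : Nat) : Nat := fld (C.nrow c) (Nat.mul C.wv s) C.mv
noncomputable def can (c : Nat) : Nat := fld (C.nrow c) C.oCan C.mv
noncomputable def parN (c : Nat) : Nat := fld (C.nrow c) C.oPN C.mv
noncomputable def labN (c : Nat) : Nat := fld (C.nrow c) C.oLN C.ml

/-- a fact with inverted rank `ri` is usable at time `τ` -/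
noncomputable def vis (τ ri : Nat) : Bool := Nat.blt (Nat.sub C.R ri) τ

/-- follow merge facts usable at time `τ` -/
noncomputable def chase (τ : Nat) (fuel : Nat) : Nat → Nat :=
  Nat.rec (fun y => y)
    (fun _ ih y => sel (band (Nat.blt y C.m) (C.vis τ (C.mRinv (C.row y))))
      (ih (C.mP (C.row y))) y) fuel

/-- one scanning step at time `τ`; the value `C.m` means failure -/
noncomputable def step (τ x s : Nat) : Nat :=
  sel (band (Nat.blt x C.m) (Nat.blt s C.g))
    (sel (C.vis τ (C.eRinv (C.row x) s)) (C.chase τ C.fuel (C.eTgt (C.row x) s)) C.m)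
    C.m

/-- scan letters `t - cnt, …, t - 1` of word `wid` -/
noncomputable def fwd (τ wid t : Nat) (cnt : Nat) : Nat → Nat :=
  Nat.rec (fun x => x)
    (fun c ih x => ih (C.step τ x (C.letter wid (Nat.sub t (Nat.succ c))))) cnt

/-- scan letters `lo + cnt - 1, …, lo` of word `wid` (in this order) -/
noncomputable def bwd (τ wid lo : Nat) (cnt : Nat) : Nat → Nat :=
  Nat.rec (fun x => x)
    (fun c ih x => ih (C.step τ x (C.letter wid (Nat.add lo c)))) cnt

noncomputable def kindSel (k : Nat) (a b c : Bool) : Bool :=
  Nat.rec a (fun k0 _ => Nat.rec b (fun k1 _ => Nat.rec c (fun _ _ => false) k1) k0) k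

noncomputable def endsOK (x y f b : Nat) : Bool :=
  bor (band (Nat.beq x b) (Nat.beq y f)) (band (Nat.beq x f) (Nat.beq y b))

/-- kind 0: the target `y` is a tree child of `x` -/
noncomputable def chkDown (x s y : Nat) : Bool :=
  band (Nat.blt 0 y) (band (Nat.blt y C.m) (band (Nat.beq (C.par (C.row y)) x)
    (band (Nat.beq (C.lab (C.row y)) s) (Nat.blt x y))))

/-- kind 1: `x` is a tree child of the target `y` -/
noncomputable def chkUp (x s y : Nat) : Bool :=
  band (Nat.blt 0 x) (band (Nat.beq (C.par (C.row x)) y)
    (band (Nat.beq (C.lab (C.row x)) s) (Nat.blt y x)))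

/-- kind 2: relator scan with one gap -/
noncomputable def chkScan (x s y τ wid t u : Nat) : Bool :=
  band (Nat.blt y C.m) (band (Nat.blt t (C.wLen wid)) (band (Nat.beq (C.letter wid t) s)
    (band (bor (Nat.blt wid C.nsub) (band (Nat.beq u 0) (Nat.blt wid C.nw)))
      (endsOK x y (C.chase τ C.fuel (C.fwd τ wid t t u))
        (C.chase τ C.fuel (C.bwd τ wid (Nat.succ t) (Nat.sub (C.wLen wid) (Nat.succ t)) u))))))

/-- check of the edge fact stored for `(x, s)` -/
noncomputable def chkE (x s : Nat) : Bool :=
  sel (Nat.beq (C.eRinv (C.row x) s) 0) true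
    (kindSel (C.eKind (C.row x) s) (C.chkDown x s (C.eTgt (C.row x) s))
      (C.chkUp x s (C.eTgt (C.row x) s))
      (C.chkScan x s (C.eTgt (C.row x) s) (Nat.sub C.R (C.eRinv (C.row x) s))
        (C.eWid (C.row x) s) (C.eT (C.row x) s) (C.eU (C.row x) s)))

noncomputable def chkMScan (v p τ wid t u : Nat) : Bool :=
  band (Nat.blt p v) (band (Nat.ble t (C.wLen wid)) (band (bor (Nat.blt wid C.nsub) (band (Nat.beq u 0) (Nat.blt wid C.nw)))
    (endsOK v p (C.chase τ C.fuel (C.fwd τ wid t t u))
      (C.chase τ C.fuel (C.bwd τ wid t (Nat.sub (C.wLen wid) t) u)))))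

/-- check of the merge fact stored for `v` -/
noncomputable def chkM (v : Nat) : Bool :=
  sel (Nat.beq (C.mRinv (C.row v)) 0) true
    (C.chkMScan v (C.mP (C.row v)) (Nat.sub C.R (C.mRinv (C.row v))) (C.mWid (C.row v))
      (C.mT (C.row v)) (C.mU (C.row v)))

/-- all facts of the raw vertex `v` are justified -/
noncomputable def chkV (v : Nat) : Bool := band (C.chkM v) (allB C.g (fun s => C.chkE v s))

/-- the final table: the canonical vertex of the coset `c` is mapped by every generator to the
canonical vertex of the right coset -/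
noncomputable def chkFin (c : Nat) : Bool :=
  allB C.g (fun s => strictB (C.step C.R (C.can c) s)
    (fun y => band (Nat.blt y C.m) (Nat.beq y (C.can (C.tn c s)))))

/-- the square words `[s, s]` are stored at positions `nrel + s` -/
noncomputable def chkSq : Bool :=
  band (Nat.beq (Nat.add C.nrel C.g) C.nsub)
    (allB C.g (fun s => band (Nat.beq (C.wLen (Nat.add C.nrel s)) 2)
      (band (Nat.beq (C.letter (Nat.add C.nrel s) 0) s) (Nat.beq (C.letter (Nat.add C.nrel s) 1) s))))

/-! ### The permutation side -/

/-- one step in the final table; the value `C.n` means failure -/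
noncomputable def pstep (c s : Nat) : Nat :=
  sel (band (Nat.blt c C.n) (Nat.blt s C.g)) (C.tn c s) C.n

/-- apply the letters `cnt - 1, …, 0` of the word `wid` (in this order) in the final table -/
noncomputable def pdn (wid : Nat) (cnt : Nat) : Nat → Nat :=
  Nat.rec (fun x => x) (fun k ih x => ih (C.pstep x (C.letter wid k))) cnt

/-- the generators act as involutions on the final table -/
noncomputable def chkInv (c : Nat) : Bool :=
  allB C.g (fun s => band (Nat.blt (C.tn c s) C.n) (Nat.beq (C.tn (C.tn c s) s) c))

/-- the relators act trivially on the final table -/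
noncomputable def chkRelP (c : Nat) : Bool :=
  allB C.nrel (fun wid => Nat.beq (C.pdn wid (C.wLen wid) c) c)

/-- the coset `c` is reached from an earlier one -/
noncomputable def chkTree (c : Nat) : Bool :=
  bor (Nat.beq c 0) (band (Nat.blt (C.parN c) c) (band (Nat.blt (C.labN c) C.g)
    (Nat.beq (C.tn (C.parN c) (C.labN c)) c)))

/-- all checks attached to the coset `c` -/
noncomputable def chkN (c : Nat) : Bool :=
  band (C.chkFin c) (band (C.chkInv c) (band (C.chkRelP c) (C.chkTree c)))

/-- the global checks -/
noncomputable def chkG : Bool :=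
  band C.chkSq (band (Nat.beq (C.can 0) 0) (band (Nat.blt 0 C.n)
    (allFrom C.nsub (Nat.sub C.nw C.nsub) (fun wid => Nat.beq (C.pdn wid (C.wLen wid) 0) 0))))

/-! ### Orbits of the subgroup on the cosets -/

noncomputable def comp (c : Nat) : Nat := fld (C.nrow c) C.oComp C.mc
noncomputable def opar (c : Nat) : Nat := fld (C.nrow c) C.oOP C.mv
noncomputable def oword (c : Nat) : Nat := fld (C.nrow c) C.oOW C.mw
noncomputable def odepth (c : Nat) : Nat := fld (C.nrow c) C.oOD C.md
noncomputable def odir (c : Nat) : Nat := fld (C.nrow c) C.oODir 1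
noncomputable def root (k : Nat) : Nat := rcd C.ROOTS C.wv k

/-- the subgroup words preserve the component of `c` -/
noncomputable def chkOrbInv (c : Nat) : Bool :=
  allFrom C.nsub (Nat.sub C.nw C.nsub) (fun wid => strictB (C.pdn wid (C.wLen wid) c)
    (fun y => band (Nat.blt y C.n) (Nat.beq (C.comp y) (C.comp c))))

/-- `c` is the root of its component or is reached from a coset of smaller depth by a subgroup
word or its inverse -/
noncomputable def chkOrbTree (c : Nat) : Bool :=
  band (Nat.blt (C.comp c) C.ncomp)
    (bor (Nat.beq (C.root (C.comp c)) c)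
      (band (Nat.blt (C.opar c) C.n) (band (Nat.blt (C.odepth (C.opar c)) (C.odepth c))
        (band (Nat.ble C.nsub (C.oword c)) (band (Nat.blt (C.oword c) C.nw)
          (sel (Nat.beq (C.odir c) 0)
            (Nat.beq (C.pdn (C.oword c) (C.wLen (C.oword c)) (C.opar c)) c)
            (Nat.beq (C.pdn (C.oword c) (C.wLen (C.oword c)) c) (C.opar c))))))))

noncomputable def chkO (c : Nat) : Bool := band (C.chkOrbInv c) (C.chkOrbTree c)

noncomputable def chkRoots : Bool :=
  allB C.ncomp (fun k => band (Nat.blt (C.root k) C.n) (Nat.beq (C.comp (C.root k)) k))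

/-- the number of cosets `c < N` in the component `k` -/
noncomputable def cntUpTo (k : Nat) (N : Nat) : Nat :=
  Nat.rec 0 (fun c ih => sel (Nat.beq (C.comp c) k) (Nat.succ ih) ih) N

noncomputable def cnt (k : Nat) : Nat := C.cntUpTo k C.n

end Cert

end Cfsg.Agent.Lib.Helper38
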