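import Cfsg.Agent.Lib.Helper38.CosetSimple
import Cfsg.Prelude.Def_SporadicB

/-!
Perfect groups generated by conjugate involutions, and non-split double covers of a simple group.
-/

namespace Cfsg.Agent.Lib.Helper38

/-- a group generated by conjugates of an element of order at most 2, with a trivial word of odd
length in these conjugates, has only trivial homomorphisms into commutative groups -/
theorem hom_comm_trivial {K A : Type*} [Group K] [Group A] (δ : ℕ → K) (g : ℕ)
    (hgen : Subgroup.closure (δ '' {s | s < g}) = ⊤) (s0 : ℕ) (hδ : δ s0 * δ s0 = 1)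
    (hconj : ∀ s < g, δ s = 1 ∨ IsConj (δ s0) (δ s))
    (w : List ℕ) (hwc : ∀ s ∈ w, IsConj (δ s0) (δ s)) (hodd : w.length % 2 = 1)
    (hw : (w.map δ).prod = 1) (f : K →* A) (hA : ∀ x y : A, x * y = y * x) : ∀ k, f k = 1 := by
  have hc : ∀ s, IsConj (δ s0) (δ s) → f (δ s) = f (δ s0) := by
    intro s h
    obtain ⟨x, hx⟩ := isConj_iff.mp h
    rw [← hx, map_mul, map_mul, map_inv, hA (f x) (f (δ s0)), mul_assoc, mul_inv_cancel, mul_one]
  have hε2 : f (δ s0) * f (δ s0) = 1 := by rw [← map_mul, hδ, map_one]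
  have hpow : f (δ s0) ^ w.length = 1 := by
    have h1 := congrArg f hw
    rw [map_list_prod, List.map_map, map_one] at h1
    have h3 := List.prod_eq_pow_card (w.map (⇑f ∘ δ)) (f (δ s0)) (by
      intro y hy
      obtain ⟨s, hs, rfl⟩ := List.mem_map.mp hy
      exact hc s (hwc s hs))
    rw [List.length_map] at h3
    rw [← h3, h1]
  have hε : f (δ s0) = 1 := by
    have e : w.length = 2 * (w.length / 2) + 1 := by omega
    rw [e, pow_succ, pow_mul, pow_two, hε2, one_pow, one_mul] at hpow
    exact hpow
  have hgens : ∀ s < g, f (δ s) = 1 := by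
    intro s hs
    rcases hconj s hs with h | h
    · rw [h, map_one]
    · rw [hc s h, hε]
  intro k
  have hk : k ∈ Subgroup.closure (δ '' {s | s < g}) := by rw [hgen]; exact Subgroup.mem_top k
  induction hk using Subgroup.closure_induction with
  | mem y hy => obtain ⟨s, hs, rfl⟩ := hy; exact hgens s hs
  | one => exact map_one f
  | mul a b _ _ ha hb => rw [map_mul, ha, hb, one_mul]
  | inv a _ ha => rw [map_inv, ha, inv_one]

/-- two involutions whose product has order 3 are conjugate -/
theorem isConj_of_rel {K : Type*} [Group K] {δ : ℕ → K} (hδ : ∀ s, δ s * δ s = 1) (a b : ℕ)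
    (h : (([a, b, a, b, a, b] : List ℕ).map δ).prod = 1) : IsConj (δ a) (δ b) := by
  have h2 := conj_of_word hδ [a, b] a b h
  exact isConj_iff.mpr ⟨_, h2.symm⟩

/-- the image of such a group has no proper normal subgroup with commutative quotient -/
theorem perfect_image {P K : Type*} [Group P] [Group K] (π : P →* K)
    (hπ : Function.Surjective π) (δ : ℕ → P) (g : ℕ)
    (hgen : Subgroup.closure (δ '' {s | s < g}) = ⊤) (s0 : ℕ) (hδ : δ s0 * δ s0 = 1)
    (hconj : ∀ s < g, δ s = 1 ∨ IsConj (δ s0) (δ s))
    (w : List ℕ) (hwc : ∀ s ∈ w, IsConj (δ s0) (δ s)) (hodd : w.length % 2 = 1)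
    (hw : (w.map δ).prod = 1) :
    ∀ (N : Subgroup K) [N.Normal], (∀ x y : K ⧸ N, x * y = y * x) → N = ⊤ := by
  intro N _ hN
  have h := hom_comm_trivial δ g hgen s0 hδ hconj w hwc hodd hw ((QuotientGroup.mk' N).comp π) hN
  rw [eq_top_iff]
  intro k _
  obtain ⟨p, rfl⟩ := hπ k
  exact (QuotientGroup.eq_one_iff _).mp (h p)

/-- the subgroup of a certificate is the image of a smaller presented group -/
theorem exists_hom_onto {G : Type*} [Group G] {C : Cert} {γ : ℕ → G} {H : Subgroup G}
    (hP : Cert.Pres C γ H) (words : List (List ℕ)) (hrelw : ∀ w ∈ words, (w.map γ).prod = 1)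
    (g' : ℕ) (words' : List (List ℕ)) (act : ℕ → Bool)
    (hact : ∀ s, g' ≤ s → act s = false)
    (hw' : ∀ w ∈ words', okw words act w = true)
    (hsub : ∀ wid, C.nsub ≤ wid → wid < C.nw → (C.wordL wid).all act = true)
    (hmem : ∀ s, act s = true → γ s ∈ H) :
    ∃ ψ : WP g' words' →* G, ψ.range = H ∧
      ∀ s, ψ (WP.gen g' words' s) = if act s = true then γ s else 1 := by
  classical
  let f : ℕ → G := fun s => if act s = true then γ s else 1
  have hf2 : ∀ s, f s * f s = 1 := by
    intro s
    show (if act s = true then γ s else 1) * (if act s = true then γ s else 1) = 1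
    split_ifs
    · exact hP.hγ s
    · exact one_mul 1
  have hfge : ∀ s, g' ≤ s → f s = 1 := by
    intro s hs
    show (if act s = true then γ s else 1) = 1
    rw [if_neg (by rw [hact s hs]; exact Bool.false_ne_true)]
  have hfact : ∀ w : List ℕ, w.all act = true → w.map f = w.map γ := by
    intro w hw
    apply List.map_congr_left
    intro s hs
    show (if act s = true then γ s else 1) = γ s
    rw [if_pos (List.all_eq_true.mp hw s hs)]
  have hfw : ∀ w ∈ words', (w.map f).prod = 1 := by
    intro w hw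
    have h := hw' w hw
    unfold okw at h
    rw [Bool.or_eq_true] at h
    rcases h with h | h
    · match w, h with
      | [s], h =>
        have hs : act s = false := by simpa using h
        show (if act s = true then γ s else 1) * 1 = 1
        rw [if_neg (by rw [hs]; exact Bool.false_ne_true), one_mul]
    · rw [Bool.and_eq_true, decide_eq_true_eq] at h
      rw [hfact w h.2]
      exact hrelw w h.1
  have hψg : ∀ s, WP.lift g' words' f hf2 hfge hfw (WP.gen g' words' s) = f s :=
    fun s => WP.lift_gen g' words' f hf2 hfge hfw s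
  refine ⟨WP.lift g' words' f hf2 hfge hfw, le_antisymm ?_ ?_, hψg⟩
  · rw [MonoidHom.range_eq_map, ← WP.closure_gen g' words', MonoidHom.map_closure,
      Subgroup.closure_le]
    rintro _ ⟨_, ⟨s, -, rfl⟩, rfl⟩
    rw [hψg]
    show (if act s = true then γ s else 1) ∈ H
    split_ifs with hs
    · exact hmem s hs
    · exact one_mem H
  · rw [hP.hH, Subgroup.closure_le]
    rintro _ ⟨wid, h1, h2, rfl⟩
    refine ⟨((C.wordL wid).map (WP.gen g' words')).prod, ?_⟩
    rw [map_list_prod, List.map_map]
    have e : (⇑(WP.lift g' words' f hf2 hfge hfw) ∘ WP.gen g' words') = f := by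
      funext s
      exact hψg s
    rw [e, hfact _ (hsub wid h1 h2)]

/-- the generators in the list `L` lie in the subgroup, if they are among its generating words -/
theorem Cert.gens_mem {G : Type*} [Group G] {C : Cert} {γ : ℕ → G} {H : Subgroup G}
    (hP : Cert.Pres C γ H) (L : List ℕ)
    (h : L.all (fun s => (List.range' C.nsub (C.nw - C.nsub)).any
      (fun wid => decide (C.wordL wid = [s]))) = true) :
    ∀ s, actL L s = true → γ s ∈ H := by
  intro s hs
  have hs' : s ∈ L := of_decide_eq_true hs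
  have h1 := List.all_eq_true.mp h s hs'
  obtain ⟨wid, hwid, hw⟩ := List.any_eq_true.mp h1
  rw [List.mem_range'_1] at hwid
  have hw' : C.wordL wid = [s] := of_decide_eq_true hw
  have h2 := Cert.hword_mem hP hwid.1 (by omega)
  rw [hw', List.map_singleton, List.prod_singleton] at h2
  exact h2

/-- a word equal to a palindromic word in involutions, from a word identity -/
theorem eq_of_word_mul {G : Type*} [Group G] {γ : ℕ → G} (hγ : ∀ s, γ s * γ s = 1)
    (c ζ : List ℕ) (hpal : ζ.reverse = ζ) (h : ((c ++ ζ).map γ).prod = 1) :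
    (c.map γ).prod = (ζ.map γ).prod := by
  rw [List.map_append, List.prod_append] at h
  have hz : ((ζ.map γ).prod)⁻¹ = (ζ.map γ).prod := by rw [← prod_reverse_inv hγ, hpal]
  rw [← hz]
  exact eq_inv_of_mul_eq_one_left h

/-- two generators which do not commute on a point do not commute -/
theorem gens_ne_comm {G : Type*} [Group G] {C : Cert} {γ : ℕ → G} {H : Subgroup G}
    (hP : Cert.Pres C γ H) (hC : Cert.Checks C) (s t p : ℕ) (hs : s < C.g) (ht : t < C.g)
    (hp : p < C.n) (h : Nat.beq (C.tn (C.tn p t) s) (C.tn (C.tn p s) t) = false) :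
    γ s * γ t ≠ γ t * γ s := by
  obtain ⟨φ, hφ⟩ := hP.hφ
  have hInv := Cert.hInv_of hC
  intro e
  have h1 : φ (γ s * γ t) p = φ (γ t * γ s) p := by rw [e]
  rw [map_mul, map_mul, Equiv.Perm.mul_apply, Equiv.Perm.mul_apply, hφ s hs, hφ t ht,
    (C.σ_of_lt hInv ht hp).1, (C.σ_of_lt hInv hs hp).1,
    (C.σ_of_lt hInv hs (C.σ_of_lt hInv ht hp).2).1,
    (C.σ_of_lt hInv ht (C.σ_of_lt hInv hs hp).2).1] at h1
  rw [h1] at h
  simp at h

/-- **Non-split double covers.** A group `K` of twice the order of a simple group `F`, which is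
not commutative, has no proper normal subgroup with commutative quotient, and whose central
quotient is an image of `F`, is a non-split double cover of `F`. -/
theorem double_cover_of {K F : Type*} [Group K] [Group F] [IsSimpleGroup F] [Finite F]
    (ψ : F →* K ⧸ Subgroup.center K) (hψ : Function.Surjective ψ)
    (hcard : Nat.card K = 2 * Nat.card F)
    (hnc : ∃ x y : K, x * y ≠ y * x)
    (hperf : ∀ (N : Subgroup K) [N.Normal], (∀ x y : K ⧸ N, x * y = y * x) → N = ⊤) :
    Cfsg.IsNonsplitDoubleCover K F := by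
  have hFpos : 0 < Nat.card F := Nat.card_pos
  have hKfin : Finite K := Nat.finite_of_card_ne_zero (by rw [hcard]; omega)
  have hinj : Function.Injective ψ := by
    rw [← MonoidHom.ker_eq_bot_iff]
    rcases (MonoidHom.normal_ker ψ).eq_bot_or_eq_top with h | h
    · exact h
    · exfalso
      obtain ⟨x, y, hxy⟩ := hnc
      apply hxy
      obtain ⟨f, hf⟩ := hψ (QuotientGroup.mk x)
      have hf1 : ψ f = 1 := by
        have : f ∈ ψ.ker := by rw [h]; exact Subgroup.mem_top f
        exact MonoidHom.mem_ker.mp this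
      rw [hf1] at hf
      have hx : x ∈ Subgroup.center K := (QuotientGroup.eq_one_iff x).mp hf.symm
      exact (Subgroup.mem_center_iff.mp hx y).symm
  have hQ : Nat.card (K ⧸ Subgroup.center K) = Nat.card F :=
    (Nat.card_congr (MulEquiv.ofBijective ψ ⟨hinj, hψ⟩).toEquiv).symm
  have hZ : Nat.card (Subgroup.center K) = 2 := by
    have h1 := Subgroup.card_eq_card_quotient_mul_card_subgroup (Subgroup.center K)
    rw [hQ, hcard] at h1
    have h2 : Nat.card F * 2 = Nat.card F * Nat.card (Subgroup.center K) := by rw [← h1]; ring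
    exact (Nat.eq_of_mul_eq_mul_left hFpos h2).symm
  refine ⟨hZ, ⟨(MulEquiv.ofBijective ψ ⟨hinj, hψ⟩).symm⟩, ?_⟩
  intro L hL
  have hidx : L.index = 2 := by rw [hL.index_eq_card, hZ]
  have : L.Normal := Subgroup.normal_of_index_eq_two hidx
  have hq2 : Nat.card (K ⧸ L) = 2 := by rw [← Subgroup.index_eq_card]; exact hidx
  have : Fact (Nat.Prime 2) := ⟨Nat.prime_two⟩
  have : IsCyclic (K ⧸ L) := isCyclic_of_prime_card hq2
  have hcomm : ∀ x y : K ⧸ L, x * y = y * x :=
    fun x y => (IsCyclic.commGroup (α := K ⧸ L)).mul_comm x y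
  have htop := hperf L hcomm
  rw [htop, Subgroup.index_top] at hidx
  omega

/-- the image of a word in active generators -/
theorem hom_word {P G : Type*} [Group P] [Group G] (ψ : P →* G) (δ : ℕ → P) (γ : ℕ → G)
    (act : ℕ → Bool) (hψ : ∀ s, ψ (δ s) = if act s = true then γ s else 1) (w : List ℕ)
    (hw : w.all act = true) : ψ ((w.map δ).prod) = (w.map γ).prod := by
  rw [map_list_prod, List.map_map]
  congr 1
  apply List.map_congr_left
  intro s hs
  show ψ (δ s) = γ s
  rw [hψ s, if_pos (List.all_eq_true.mp hw s hs)]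

/-- **A subgroup which is a non-split double cover of a presented simple group.** The subgroup
`H` is the image of a group `P` generated by conjugate involutions `δ s` with a trivial word of odd
length; the relator words of the simple group `F`, read in the generators `δ (ι s)`, are trivial
or central in `H`; and `H` has twice the order of `F`. -/
theorem cover_of_hom {G P α : Type*} [Group G] [Group P] (relsF : Set (FreeGroup α))
    [IsSimpleGroup (PresentedGroup relsF)] [Finite (PresentedGroup relsF)]
    (H : Subgroup G) (ψ : P →* G) (hrange : ψ.range = H)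
    (δ : ℕ → P) (g : ℕ) (hgen : Subgroup.closure (δ '' {s | s < g}) = ⊤)
    (hδ2 : ∀ s, δ s * δ s = 1)
    (s0 : ℕ) (hconj : ∀ s < g, δ s = 1 ∨ IsConj (δ s0) (δ s))
    (w : List ℕ) (hwc : ∀ s ∈ w, IsConj (δ s0) (δ s)) (hodd : w.length % 2 = 1)
    (hw : (w.map δ).prod = 1)
    (genF : ℕ → α) (idxF : α → ℕ) (gF : ℕ) (hig : ∀ s < gF, idxF (genF s) = s)
    (wordsF : List (List ℕ))
    (hlift : ∀ σ : ℕ → ↥H ⧸ Subgroup.center ↥H, (∀ s, σ s * σ s = 1) →
      (∀ w ∈ wordsF, (w.map σ).prod = 1) →
      ∀ r ∈ relsF, FreeGroup.lift (fun x => σ (idxF x)) r = 1)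
    (ι : ℕ → ℕ)
    (hsplit : ∀ w ∈ wordsF, ((w.map ι).map δ).prod = 1 ∨
      ∀ h ∈ H, h * ψ (((w.map ι).map δ).prod) = ψ (((w.map ι).map δ).prod) * h)
    (hcover : ∀ t < g, δ t = 1 ∨ ∃ s < gF, ι s = t)
    (hcard : Nat.card H = 2 * Nat.card (PresentedGroup relsF))
    (p q : P) (hnc : ψ p * ψ q ≠ ψ q * ψ p) :
    Cfsg.IsNonsplitDoubleCover ↥H (PresentedGroup relsF) := by
  classical
  -- the homomorphism onto the subgroup
  let π : P →* ↥H := ψ.codRestrict H (fun x => by rw [← hrange]; exact ⟨x, rfl⟩)
  have hπc : ∀ x, ((π x : ↥H) : G) = ψ x := fun x => rfl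
  have hπ : Function.Surjective π := by
    intro y
    have hy : (y : G) ∈ ψ.range := by rw [hrange]; exact y.2
    obtain ⟨x, hx⟩ := hy
    exact ⟨x, Subtype.ext hx⟩
  have hperf := perfect_image π hπ δ g hgen s0 (hδ2 s0) hconj w hwc hodd hw
  -- the homomorphism onto the central quotient
  let χ : P →* ↥H ⧸ Subgroup.center ↥H := (QuotientGroup.mk' (Subgroup.center ↥H)).comp π
  have hχ : Function.Surjective χ := (QuotientGroup.mk'_surjective _).comp hπ
  let σ : ℕ → ↥H ⧸ Subgroup.center ↥H := fun s => χ (δ (ι s))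
  have hσ2 : ∀ s, σ s * σ s = 1 := by
    intro s
    show χ (δ (ι s)) * χ (δ (ι s)) = 1
    rw [← map_mul, hδ2, map_one]
  have hσw : ∀ w ∈ wordsF, (w.map σ).prod = 1 := by
    intro w hw
    have e1 : (w.map σ).prod = χ (((w.map ι).map δ).prod) := by
      rw [map_list_prod, List.map_map, List.map_map]
      rfl
    rw [e1]
    rcases hsplit w hw with h | h
    · rw [h, map_one]
    · show QuotientGroup.mk (π (((w.map ι).map δ).prod)) = 1
      rw [QuotientGroup.eq_one_iff, Subgroup.mem_center_iff]
      intro k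
      apply Subtype.ext
      rw [Subgroup.coe_mul, Subgroup.coe_mul, hπc]
      exact h k k.2
  let ψF : PresentedGroup relsF →* ↥H ⧸ Subgroup.center ↥H :=
    PresentedGroup.toGroup (f := fun x => σ (idxF x)) (hlift σ hσ2 hσw)
  have hψF : ∀ s < gF, ψF (PresentedGroup.of (genF s)) = σ s := by
    intro s hs
    show PresentedGroup.toGroup (hlift σ hσ2 hσw) (PresentedGroup.of (genF s)) = σ s
    rw [PresentedGroup.toGroup.of, hig s hs]
  have hsurj : Function.Surjective ψF := by
    rw [← MonoidHom.range_eq_top, eq_top_iff, ← MonoidHom.range_eq_top.mpr hχ,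
      MonoidHom.range_eq_map χ, ← hgen, MonoidHom.map_closure, Subgroup.closure_le]
    rintro _ ⟨_, ⟨t, ht, rfl⟩, rfl⟩
    rcases hcover t ht with h | ⟨s, hs, rfl⟩
    · rw [h, map_one]; exact one_mem _
    · exact ⟨PresentedGroup.of (genF s), hψF s hs⟩
  refine double_cover_of ψF hsurj hcard ⟨π p, π q, ?_⟩ hperf
  intro e
  apply hnc
  have e2 := congrArg (Subtype.val) e
  rw [Subgroup.coe_mul, Subgroup.coe_mul] at e2
  exact e2

end Cfsg.Agent.Lib.Helper38
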