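import Cfsg.Agent.Lib.Helper38.CosetSound

/-!
Verified coset-enumeration certificates, part 3: the permutation side and the group-theoretic
conclusions (index of the subgroup, its orbits on the cosets).
-/

namespace Cfsg.Agent.Lib.Helper38

namespace Cert

variable (C : Cert)

/-- the word `wid` as a list of letters -/
noncomputable def wordL (wid : ℕ) : List ℕ := (List.range (C.wLen wid)).map (C.letter wid)

theorem wordL_map {K : Type*} (f : ℕ → K) (wid : ℕ) :
    (C.wordL wid).map f = (List.range (C.wLen wid)).map (fun i => f (C.letter wid i)) := by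
  unfold wordL; rw [List.map_map]; rfl

/-! ### The permutations of the final table -/

/-- the action of the generator `s` on the final table, made involutive by definition -/
noncomputable def sfun (s c : ℕ) : ℕ :=
  if s < C.g ∧ c < C.n ∧ C.tn c s < C.n ∧ C.tn (C.tn c s) s = c then C.tn c s else c

theorem sfun_invol (s : ℕ) : Function.Involutive (C.sfun s) := by
  intro c
  unfold sfun
  by_cases h : s < C.g ∧ c < C.n ∧ C.tn c s < C.n ∧ C.tn (C.tn c s) s = c
  · rw [if_pos h]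
    have h' : s < C.g ∧ C.tn c s < C.n ∧ C.tn (C.tn c s) s < C.n ∧
        C.tn (C.tn (C.tn c s) s) s = C.tn c s := by
      refine ⟨h.1, h.2.2.1, ?_, ?_⟩
      · rw [h.2.2.2]; exact h.2.1
      · rw [h.2.2.2]
    rw [if_pos h', h.2.2.2]
  · rw [if_neg h, if_neg h]

/-- the generator `s` as a permutation -/
noncomputable def σ (s : ℕ) : Equiv.Perm ℕ := Function.Involutive.toPerm (C.sfun s) (C.sfun_invol s)

theorem σ_mul_self (s : ℕ) : C.σ s * C.σ s = 1 := by
  ext c
  show C.sfun s (C.sfun s c) = c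
  exact C.sfun_invol s c

theorem σ_of_ge (s : ℕ) {c : ℕ} (h : C.n ≤ c) : C.σ s c = c := by
  show C.sfun s c = c
  unfold sfun
  rw [if_neg]
  intro h'
  exact absurd h'.2.1 (by omega)

theorem chkN_iff {c : ℕ} : C.chkN c = true ↔
    C.chkFin c = true ∧ C.chkInv c = true ∧ C.chkRelP c = true ∧ C.chkTree c = true := by
  unfold chkN; simp only [band_iff]

theorem σ_of_lt (hInv : ∀ c < C.n, C.chkInv c = true) {s c : ℕ} (hs : s < C.g) (hc : c < C.n) :
    C.σ s c = C.tn c s ∧ C.tn c s < C.n := by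
  have h := hInv c hc
  unfold chkInv at h
  rw [allB_iff] at h
  have h2 := h s hs
  rw [band_iff, blt_iff, beq_iff] at h2
  refine ⟨?_, h2.1⟩
  show C.sfun s c = _
  unfold sfun
  rw [if_pos ⟨hs, hc, h2.1, h2.2⟩]

theorem pdn_succ (wid k x : ℕ) :
    C.pdn wid (k + 1) x = C.pdn wid k (C.pstep x (C.letter wid k)) := rfl

theorem pstep_n (s : ℕ) : C.pstep C.n s = C.n := by
  unfold pstep
  rw [sel_eq_ite, if_neg]
  rw [band_iff, blt_iff]
  intro h
  exact lt_irrefl _ h.1

theorem pdn_n (wid : ℕ) : ∀ k, C.pdn wid k C.n = C.n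
  | 0 => rfl
  | k + 1 => by rw [pdn_succ, pstep_n, pdn_n wid k]

theorem pdn_spec (τ : ℕ → Equiv.Perm ℕ) (hτ : ∀ s < C.g, ∀ c < C.n, τ s c = C.tn c s) (wid : ℕ) :
    ∀ (k c : ℕ), C.pdn wid k c < C.n →
      C.pdn wid k c = specB (fun s x => τ s x) (C.letter wid) 0 k c
  | 0, c, _ => rfl
  | k + 1, c, h => by
    rw [pdn_succ] at h ⊢
    show _ = specB (fun s x => τ s x) (C.letter wid) 0 k (τ (C.letter wid (0 + k)) c)
    rw [Nat.zero_add]
    by_cases hc : c < C.n ∧ C.letter wid k < C.g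
    · have e : C.pstep c (C.letter wid k) = C.tn c (C.letter wid k) := by
        unfold pstep; rw [sel_eq_ite, if_pos]; rw [band_iff, blt_iff, blt_iff]; exact hc
      rw [e] at h ⊢
      rw [hτ _ hc.2 _ hc.1]
      exact pdn_spec τ hτ wid k _ h
    · have e : C.pstep c (C.letter wid k) = C.n := by
        unfold pstep; rw [sel_eq_ite, if_neg]; rw [band_iff, blt_iff, blt_iff]; exact hc
      rw [e, pdn_n] at h
      exact absurd h (lt_irrefl _)

theorem specB_perm (τ : ℕ → Equiv.Perm ℕ) (ℓ : ℕ → ℕ) : ∀ (k c : ℕ),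
    specB (fun s x => τ s x) ℓ 0 k c = ((List.range k).map (fun i => τ (ℓ i))).prod c
  | 0, c => rfl
  | k + 1, c => by
    show specB (fun s x => τ s x) ℓ 0 k (τ (ℓ (0 + k)) c) = _
    rw [specB_perm τ ℓ k, Nat.zero_add, List.range_succ, List.map_append, List.prod_append]
    simp

theorem pdn_word (τ : ℕ → Equiv.Perm ℕ) (hτ : ∀ s < C.g, ∀ c < C.n, τ s c = C.tn c s)
    {wid c : ℕ} (h : C.pdn wid (C.wLen wid) c < C.n) :
    C.pdn wid (C.wLen wid) c = ((C.wordL wid).map τ).prod c := by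
  rw [C.pdn_spec τ hτ wid _ c h, specB_perm, wordL_map]

theorem σ_prod_ge (l : List ℕ) {c : ℕ} (h : C.n ≤ c) : ((l.map C.σ).prod) c = c := by
  induction l with
  | nil => rfl
  | cons a l ih =>
    rw [List.map_cons, List.prod_cons, Equiv.Perm.mul_apply, ih, C.σ_of_ge a h]

/-- the relators hold for the permutations of the final table -/
theorem σ_rel (hN : ∀ c < C.n, C.chkN c = true) :
    ∀ wid < C.nrel, ((C.wordL wid).map C.σ).prod = 1 := by
  intro wid hwid
  have hInv : ∀ c < C.n, C.chkInv c = true := fun c hc => (C.chkN_iff.mp (hN c hc)).2.1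
  ext c
  rw [Equiv.Perm.one_apply]
  by_cases hc : c < C.n
  · have h := (C.chkN_iff.mp (hN c hc)).2.2.1
    unfold chkRelP at h
    rw [allB_iff] at h
    have h2 := h wid hwid
    rw [beq_iff] at h2
    have h3 := C.pdn_word C.σ (fun s hs c hc => (C.σ_of_lt hInv hs hc).1) (wid := wid) (c := c)
      (by rw [h2]; exact hc)
    rw [← h3, h2]
  · exact C.σ_prod_ge _ (by omega)

theorem chkG_spec (h : C.chkG = true) : C.chkSq = true ∧ C.can 0 = 0 ∧ 0 < C.n ∧
    ∀ wid, C.nsub ≤ wid → wid < C.nw → C.pdn wid (C.wLen wid) 0 = 0 := by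
  unfold chkG at h
  rw [band_iff, band_iff, band_iff, beq_iff, blt_iff, allFrom_iff] at h
  obtain ⟨h1, h2, h3, h4⟩ := h
  refine ⟨h1, h2, h3, fun wid ha hb => ?_⟩
  have h5 := h4 wid ha (by show wid < C.nsub + (C.nw - C.nsub); omega)
  exact beq_iff.mp h5

/-! ### The group side -/

section Group

variable {G : Type*} [Group G] (γ : ℕ → G) (H : Subgroup G)

theorem specB_smul {X : Type*} [MulAction G X] (ℓ : ℕ → ℕ) : ∀ (k : ℕ) (P : X),
    specB (fun s (q : X) => γ s • q) ℓ 0 k P = ((List.range k).map (fun i => γ (ℓ i))).prod • P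
  | 0, P => by simp [specB]
  | k + 1, P => by
    show specB (fun s (q : X) => γ s • q) ℓ 0 k (γ (ℓ (0 + k)) • P) = _
    rw [specB_smul ℓ k, Nat.zero_add, List.range_succ, List.map_append, List.prod_append, mul_smul]
    simp

/-- The group-theoretic hypotheses: `G` is generated by the involutions `γ s`, which satisfy the
relators and map to the permutations of the final table; `H` is generated by the subgroup words. -/
structure Pres (C : Cert) {G : Type*} [Group G] (γ : ℕ → G) (H : Subgroup G) : Prop where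
  hγ : ∀ s, γ s * γ s = 1
  hgen : Subgroup.closure (γ '' {s | s < C.g}) = ⊤
  hrel : ∀ wid < C.nrel, ((C.wordL wid).map γ).prod = 1
  hH : H = Subgroup.closure
    {x | ∃ wid, C.nsub ≤ wid ∧ wid < C.nw ∧ ((C.wordL wid).map γ).prod = x}
  hφ : ∃ φ : G →* Equiv.Perm ℕ, ∀ s < C.g, φ (γ s) = C.σ s

/-- The computational hypotheses. -/
structure Checks (C : Cert) : Prop where
  hV : ∀ v < C.m, C.chkV v = true
  hN : ∀ c < C.n, C.chkN c = true
  hG : C.chkG = true

/-- the coset attached to the class `c` -/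
noncomputable def F (c : ℕ) : G ⧸ H :=
  C.pt (fun s (q : G ⧸ H) => γ s • q) ((1 : G) : G ⧸ H) (C.can c)

variable {C γ H}

theorem hword_mem (hP : Pres C γ H) {wid : ℕ} (h1 : C.nsub ≤ wid) (h2 : wid < C.nw) :
    ((C.wordL wid).map γ).prod ∈ H := by
  rw [hP.hH]; exact Subgroup.subset_closure ⟨wid, h1, h2, rfl⟩

theorem valid (hP : Pres C γ H) (hC : Checks C) :
    Valid C (fun s (q : G ⧸ H) => γ s • q) ((1 : G) : G ⧸ H) := by
  apply valid_of
  · intro s P; rw [smul_smul, hP.hγ, one_smul]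
  · intro wid hwid P
    rw [specB_smul, ← C.wordL_map γ wid, hP.hrel wid hwid, one_smul]
  · intro wid h1 h2
    rw [specB_smul, ← C.wordL_map γ wid]
    have hm := hword_mem hP h1 h2
    rw [MulAction.Quotient.smul_mk, smul_eq_mul, mul_one]
    exact QuotientGroup.eq.mpr (by simpa using hm)
  · exact (C.chkG_spec hC.hG).1

theorem hInv_of (hC : Checks C) : ∀ c < C.n, C.chkInv c = true :=
  fun c hc => (C.chkN_iff.mp (hC.hN c hc)).2.1

theorem F_step (hP : Pres C γ H) (hC : Checks C) {c s : ℕ} (hc : c < C.n) (hs : s < C.g) :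
    γ s • C.F γ H c = C.F γ H (C.tn c s) :=
  fin_sound (valid hP hC) hC.hV (C.chkN_iff.mp (hC.hN c hc)).1 s hs

theorem F_zero (hC : Checks C) : C.F γ H 0 = ((1 : G) : G ⧸ H) := by
  unfold F
  rw [(C.chkG_spec hC.hG).2.1, pt_zero]

theorem F_surj (hP : Pres C γ H) (hC : Checks C) : ∀ q : G ⧸ H, ∃ c < C.n, C.F γ H c = q := by
  have hInv := hInv_of hC
  have key : ∀ g : G, (∀ c < C.n, ∃ c' < C.n, C.F γ H c' = g • C.F γ H c) ∧
      (∀ c < C.n, ∃ c' < C.n, C.F γ H c' = g⁻¹ • C.F γ H c) := by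
    intro g
    have hg : g ∈ Subgroup.closure (γ '' {s | s < C.g}) := by rw [hP.hgen]; trivial
    induction hg using Subgroup.closure_induction with
    | mem x hx =>
      obtain ⟨s, hs, rfl⟩ := hx
      have hinv : (γ s)⁻¹ = γ s := inv_eq_of_mul_eq_one_left (hP.hγ s)
      have h1 : ∀ c < C.n, ∃ c' < C.n, C.F γ H c' = γ s • C.F γ H c := fun c hc =>
        ⟨C.tn c s, (C.σ_of_lt hInv hs hc).2, (F_step hP hC hc hs).symm⟩
      exact ⟨h1, by rw [hinv]; exact h1⟩
    | one =>
      exact ⟨fun c hc => ⟨c, hc, by rw [one_smul]⟩, fun c hc => ⟨c, hc, by rw [inv_one, one_smul]⟩⟩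
    | mul x y _ _ hx hy =>
      constructor
      · intro c hc
        obtain ⟨c1, hc1, e1⟩ := hy.1 c hc
        obtain ⟨c2, hc2, e2⟩ := hx.1 c1 hc1
        exact ⟨c2, hc2, by rw [e2, e1, mul_smul]⟩
      · intro c hc
        obtain ⟨c1, hc1, e1⟩ := hx.2 c hc
        obtain ⟨c2, hc2, e2⟩ := hy.2 c1 hc1
        exact ⟨c2, hc2, by rw [e2, e1, mul_inv_rev, mul_smul]⟩
    | inv x _ hx => exact ⟨hx.2, by rw [inv_inv]; exact hx.1⟩
  intro q
  refine QuotientGroup.induction_on q (fun g => ?_)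
  obtain ⟨c, hc, e⟩ := (key g).1 0 (C.chkG_spec hC.hG).2.2.1
  refine ⟨c, hc, ?_⟩
  rw [e, F_zero hC, MulAction.Quotient.smul_mk, smul_eq_mul, mul_one]

theorem phi_word (hC : Checks C) (φ : G →* Equiv.Perm ℕ) (hφ : ∀ s < C.g, φ (γ s) = C.σ s)
    {wid c : ℕ} (h : C.pdn wid (C.wLen wid) c < C.n) :
    φ (((C.wordL wid).map γ).prod) c = C.pdn wid (C.wLen wid) c := by
  have hInv := hInv_of hC
  have h4 := C.pdn_word (fun s => φ (γ s))
    (fun s hs c hc => by show φ (γ s) c = _; rw [hφ s hs]; exact (C.σ_of_lt hInv hs hc).1)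
    (wid := wid) (c := c) h
  rw [map_list_prod, List.map_map, h4]
  rfl

theorem phi_fix (hP : Pres C γ H) (hC : Checks C) (φ : G →* Equiv.Perm ℕ)
    (hφ : ∀ s < C.g, φ (γ s) = C.σ s) : ∀ h ∈ H, φ h 0 = 0 := by
  have hG := C.chkG_spec hC.hG
  intro h hh
  rw [hP.hH] at hh
  induction hh using Subgroup.closure_induction with
  | mem x hx =>
    obtain ⟨wid, h1, h2, rfl⟩ := hx
    have h3 := hG.2.2.2 wid h1 h2
    rw [phi_word hC φ hφ (by rw [h3]; exact hG.2.2.1), h3]
  | one => simp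
  | mul x y _ _ hx hy => rw [map_mul, Equiv.Perm.mul_apply, hy, hx]
  | inv x _ hx => rw [map_inv, Equiv.Perm.inv_eq_iff_eq, hx]

/-- the class of a coset -/
noncomputable def psi (φ : G →* Equiv.Perm ℕ) (hH0 : ∀ h ∈ H, φ h 0 = 0) : G ⧸ H → ℕ :=
  fun q => Quotient.liftOn' q (fun g => φ g 0) (by
    intro a b hab
    rw [QuotientGroup.leftRel_apply] at hab
    have h := hH0 _ hab
    rw [map_mul, map_inv, Equiv.Perm.mul_apply, Equiv.Perm.inv_eq_iff_eq] at h
    exact h.symm)

theorem psi_mk (φ : G →* Equiv.Perm ℕ) (hH0 : ∀ h ∈ H, φ h 0 = 0) (g : G) :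
    psi φ hH0 (g : G ⧸ H) = φ g 0 := rfl

theorem psi_smul (φ : G →* Equiv.Perm ℕ) (hH0 : ∀ h ∈ H, φ h 0 = 0) (g : G) (q : G ⧸ H) :
    psi φ hH0 (g • q) = φ g (psi φ hH0 q) := by
  refine QuotientGroup.induction_on q (fun a => ?_)
  rw [MulAction.Quotient.smul_mk, psi_mk, psi_mk, smul_eq_mul, map_mul, Equiv.Perm.mul_apply]

theorem psi_F (hP : Pres C γ H) (hC : Checks C) (φ : G →* Equiv.Perm ℕ)
    (hφ : ∀ s < C.g, φ (γ s) = C.σ s) (hH0 : ∀ h ∈ H, φ h 0 = 0) :
    ∀ c < C.n, psi φ hH0 (C.F γ H c) = c := by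
  have hInv := hInv_of hC
  intro c
  induction c using Nat.strong_induction_on with
  | _ c ih =>
    intro hc
    have hT := (C.chkN_iff.mp (hC.hN c hc)).2.2.2
    unfold chkTree at hT
    rw [bor_iff, beq_iff, band_iff, band_iff, blt_iff, blt_iff, beq_iff] at hT
    rcases hT with rfl | ⟨h1, h2, h3⟩
    · rw [F_zero hC, psi_mk, map_one, Equiv.Perm.one_apply]
    · have hp : C.parN c < C.n := lt_trans h1 hc
      have e : C.F γ H c = γ (C.labN c) • C.F γ H (C.parN c) := by
        rw [F_step hP hC hp h2, h3]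
      rw [e, psi_smul, ih _ h1 hp, hφ _ h2, (C.σ_of_lt hInv h2 hp).1, h3]

/-- **The index of the subgroup.** -/
theorem index_eq (hP : Pres C γ H) (hC : Checks C) : H.index = C.n := by
  obtain ⟨φ, hφ⟩ := hP.hφ
  have hH0 := phi_fix hP hC φ hφ
  have hbij : Function.Bijective (fun c : Fin C.n => C.F γ H c) := by
    constructor
    · intro a b hab
      have h := congrArg (psi φ hH0) hab
      simp only at h
      rw [psi_F hP hC φ hφ hH0 a a.2, psi_F hP hC φ hφ hH0 b b.2] at h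
      exact Fin.ext h
    · intro q
      obtain ⟨c, hc, e⟩ := F_surj hP hC q
      exact ⟨⟨c, hc⟩, e⟩
  have h := Nat.card_eq_of_bijective _ hbij
  rw [Nat.card_fin] at h
  exact h.symm

end Group

end Cert

end Cfsg.Agent.Lib.Helper38
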