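import Cfsg.Agent.Lib.Helper38.CosetOrder

/-!
Maximality of a subgroup of rank 3 (one point orbit and two further orbits on its cosets) from a
verified coset-enumeration certificate.
-/

namespace Cfsg.Agent.Lib.Helper38

namespace Cert

variable {C : Cert} {G : Type*} [Group G] {γ : ℕ → G} {H : Subgroup G}

/-- the classes of the cosets contained in an overgroup `M` of `H` form a union of components, and
their number is the index of `H` in `M` -/
theorem overgroup_classes (hP : Pres C γ H) (hC : Checks C) (hO : OChecks C)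
    (M : Subgroup G) (hHM : H ≤ M) :
    ∃ B : Finset ℕ, 0 ∈ B ∧ (∀ c ∈ B, c < C.n) ∧
      (∀ c ∈ B, ∀ c' < C.n, C.comp c' = C.comp c → c' ∈ B) ∧ B.card = H.relIndex M := by
  classical
  obtain ⟨φ, hφ⟩ := hP.hφ
  have hH0 := phi_fix hP hC φ hφ
  have hψF := psi_F hP hC φ hφ hH0
  have hn : 0 < C.n := (C.chkG_spec hC.hG).2.2.1
  have hinj : Function.Injective (psi φ hH0) := by
    intro q1 q2 h
    obtain ⟨c1, hc1, rfl⟩ := F_surj hP hC q1
    obtain ⟨c2, hc2, rfl⟩ := F_surj hP hC q2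
    rw [hψF c1 hc1, hψF c2 hc2] at h
    rw [h]
  have hBmem : ∀ c, c ∈ (Finset.range C.n).filter (fun c => ∃ m ∈ M, φ m 0 = c) ↔
      c < C.n ∧ ∃ m ∈ M, φ m 0 = c := by
    intro c
    rw [Finset.mem_filter, Finset.mem_range]
  refine ⟨(Finset.range C.n).filter (fun c => ∃ m ∈ M, φ m 0 = c), ?_, ?_, ?_, ?_⟩
  · rw [hBmem]
    exact ⟨hn, 1, one_mem _, by rw [map_one, Equiv.Perm.one_apply]⟩
  · intro c hc
    exact ((hBmem c).mp hc).1
  · intro c hc c' hc' hcomp
    rw [hBmem] at hc ⊢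
    obtain ⟨hcn, m, hm, rfl⟩ := hc
    have o1 := mem_orbit_root hP hC hO φ hφ hH0 _ (φ m 0) hcn (Nat.lt_succ_self _)
    have o2 := mem_orbit_root hP hC hO φ hφ hH0 _ c' hc' (Nat.lt_succ_self _)
    rw [hcomp] at o2
    rw [← MulAction.orbit_eq_iff.mpr o1] at o2
    obtain ⟨h, hh⟩ := o2
    have e1 := F_equiv hP hC φ hφ hH0 (h : G) hcn
    have e2 : C.F γ H (φ (h : G) (φ m 0)) = C.F γ H c' := by rw [← e1.1]; exact hh
    have e3 := congrArg (psi φ hH0) e2
    rw [hψF _ e1.2, hψF _ hc'] at e3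
    exact ⟨hc', (h : G) * m, mul_mem (hHM h.2) hm, by rw [map_mul, Equiv.Perm.mul_apply, e3]⟩
  · have hstab : MulAction.stabilizer M (C.F γ H 0) = H.subgroupOf M := by
      ext m
      rw [MulAction.mem_stabilizer_iff, Subgroup.mem_subgroupOf, F_zero hC]
      show (m : G) • ((1 : G) : G ⧸ H) = ((1 : G) : G ⧸ H) ↔ _
      rw [MulAction.Quotient.smul_mk, smul_eq_mul, mul_one, QuotientGroup.eq, mul_one, inv_mem_iff]
    have e : psi φ hH0 '' MulAction.orbit M (C.F γ H 0) =
        (((Finset.range C.n).filter (fun c => ∃ m ∈ M, φ m 0 = c) : Finset ℕ) : Set ℕ) := by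
      ext c
      rw [Finset.mem_coe, hBmem]
      constructor
      · rintro ⟨q, ⟨m, rfl⟩, rfl⟩
        have h1 := F_equiv hP hC φ hφ hH0 (m : G) hn
        have h2 : psi φ hH0 (m • C.F γ H 0) = φ (m : G) 0 := by
          show psi φ hH0 ((m : G) • C.F γ H 0) = _
          rw [h1.1, hψF _ h1.2]
        show psi φ hH0 (m • C.F γ H 0) < C.n ∧ ∃ m' ∈ M, φ m' 0 = psi φ hH0 (m • C.F γ H 0)
        rw [h2]
        exact ⟨h1.2, m, m.2, rfl⟩
      · rintro ⟨hcn, m, hm, rfl⟩
        refine ⟨_, ⟨⟨m, hm⟩, rfl⟩, ?_⟩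
        show psi φ hH0 ((m : G) • C.F γ H 0) = φ m 0
        rw [(F_equiv hP hC φ hφ hH0 m hn).1, hψF _ hcn]
    rw [Subgroup.relIndex, ← hstab, MulAction.index_stabilizer,
      ← Set.ncard_image_of_injective _ hinj, e, Set.ncard_coe_finset]

/-- **Maximality.** A subgroup with exactly two orbits on its nontrivial cosets, such that neither
orbit together with the trivial coset has a size dividing the index, is maximal. -/
theorem maximal_of_rank3 (hP : Pres C γ H) (hC : Checks C) (hO : OChecks C)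
    (h3 : C.ncomp = 3) (h00 : C.comp 0 = 0) (hc0 : C.cnt 0 = 1)
    (hsum : C.cnt 0 + C.cnt 1 + C.cnt 2 = C.n)
    (h1 : ¬ (1 + C.cnt 1 ∣ C.n)) (h2 : ¬ (1 + C.cnt 2 ∣ C.n))
    (M : Subgroup G) (hHM : H ≤ M) : M = H ∨ M = ⊤ := by
  classical
  obtain ⟨B, h0B, hBn, hB, hcard⟩ := overgroup_classes hP hC hO M hHM
  have hmaps : ((B : Finset ℕ) : Set ℕ).MapsTo C.comp (Finset.range 3) := by
    intro c hc
    rw [Finset.mem_coe] at hc
    rw [Finset.mem_coe, Finset.mem_range, ← h3]
    exact (chkO_spec hO (hBn c hc)).2.1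
  have hfib : ∀ k, (B.filter (fun c => C.comp c = k)).card =
      if (∃ c ∈ B, C.comp c = k) then C.cnt k else 0 := by
    intro k
    split_ifs with hk
    · obtain ⟨c, hc, rfl⟩ := hk
      show _ = C.cntUpTo _ C.n
      rw [C.cntUpTo_eq]
      congr 1
      ext c'
      simp only [Finset.mem_filter, Finset.mem_range]
      constructor
      · rintro ⟨a1, a2⟩; exact ⟨hBn c' a1, a2⟩
      · rintro ⟨a1, a2⟩; exact ⟨hB c hc c' a1 a2, a2⟩
    · rw [Finset.card_eq_zero, Finset.filter_eq_empty_iff]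
      intro c hc hck
      exact hk ⟨c, hc, hck⟩
  have hsumB := Finset.card_eq_sum_card_fiberwise hmaps
  rw [Finset.sum_range_succ, Finset.sum_range_succ, Finset.sum_range_succ, Finset.sum_range_zero,
    hfib 0, hfib 1, hfib 2, if_pos ⟨0, h0B, h00⟩, hcard, zero_add] at hsumB
  have hdvd : H.relIndex M ∣ C.n := by
    rw [← index_eq hP hC]; exact Subgroup.relIndex_dvd_index_of_le hHM
  have hn : 0 < C.n := (C.chkG_spec hC.hG).2.2.1
  by_cases k1 : ∃ c ∈ B, C.comp c = 1
  · by_cases k2 : ∃ c ∈ B, C.comp c = 2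
    · right
      rw [if_pos k1, if_pos k2, hsum] at hsumB
      have h4 := Subgroup.relIndex_mul_index hHM
      rw [index_eq hP hC, hsumB] at h4
      have h5 : M.index = 1 := by
        have h6 : C.n * M.index = C.n * 1 := by rw [h4, mul_one]
        exact Nat.eq_of_mul_eq_mul_left hn h6
      exact Subgroup.index_eq_one.mp h5
    · exfalso
      rw [if_pos k1, if_neg k2, hc0, add_zero] at hsumB
      rw [hsumB] at hdvd
      exact h1 hdvd
  · by_cases k2 : ∃ c ∈ B, C.comp c = 2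
    · exfalso
      rw [if_neg k1, if_pos k2, hc0, add_zero] at hsumB
      rw [hsumB] at hdvd
      exact h2 hdvd
    · left
      rw [if_neg k1, if_neg k2, hc0] at hsumB
      exact le_antisymm (Subgroup.relIndex_eq_one.mp hsumB) hHM

end Cert

end Cfsg.Agent.Lib.Helper38
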