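import Cfsg.Agent.Lib.Helper38.CosetGroup

/-!
Verified coset-enumeration certificates, part 4: the orbits of the subgroup on its cosets.
-/

namespace Cfsg.Agent.Lib.Helper38

namespace Cert

variable (C : Cert)

theorem cntUpTo_eq (k : ℕ) : ∀ N : ℕ,
    C.cntUpTo k N = ((Finset.range N).filter (fun c => C.comp c = k)).card
  | 0 => by simp [cntUpTo]
  | N + 1 => by
    have e : C.cntUpTo k (N + 1) =
        sel (Nat.beq (C.comp N) k) (Nat.succ (C.cntUpTo k N)) (C.cntUpTo k N) := rfl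
    rw [e, sel_eq_ite, Finset.range_add_one, Finset.filter_insert, cntUpTo_eq k N]
    by_cases h : C.comp N = k
    · rw [if_pos (beq_iff.mpr h), if_pos h, Finset.card_insert_of_notMem (by simp)]
    · rw [if_neg (by rw [beq_iff]; exact h), if_neg h]

/-- The computational hypotheses for the orbits. -/
structure OChecks (C : Cert) : Prop where
  hO : ∀ c < C.n, C.chkO c = true
  hR : C.chkRoots = true

section Group

variable {C}
variable {G : Type*} [Group G] {γ : ℕ → G} {H : Subgroup G}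

/-- the map `c ↦ F c` is equivariant -/
theorem F_equiv (hP : Pres C γ H) (hC : Checks C) (φ : G →* Equiv.Perm ℕ)
    (hφ : ∀ s < C.g, φ (γ s) = C.σ s) (hH0 : ∀ h ∈ H, φ h 0 = 0) (g : G) {c : ℕ} (hc : c < C.n) :
    g • C.F γ H c = C.F γ H (φ g c) ∧ φ g c < C.n := by
  obtain ⟨c', hc', e⟩ := F_surj hP hC (g • C.F γ H c)
  have h := congrArg (psi φ hH0) e
  rw [psi_F hP hC φ hφ hH0 c' hc', psi_smul, psi_F hP hC φ hφ hH0 c hc] at h
  rw [← h]
  exact ⟨e.symm, hc'⟩

theorem chkO_spec (hO : OChecks C) {c : ℕ} (hc : c < C.n) :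
    (∀ wid, C.nsub ≤ wid → wid < C.nw → C.pdn wid (C.wLen wid) c < C.n ∧
      C.comp (C.pdn wid (C.wLen wid) c) = C.comp c) ∧
    C.comp c < C.ncomp ∧
    (C.root (C.comp c) = c ∨
      (C.opar c < C.n ∧ C.odepth (C.opar c) < C.odepth c ∧ C.nsub ≤ C.oword c ∧ C.oword c < C.nw ∧
        ((C.odir c = 0 ∧ C.pdn (C.oword c) (C.wLen (C.oword c)) (C.opar c) = c) ∨
         (C.pdn (C.oword c) (C.wLen (C.oword c)) c = C.opar c)))) := by
  have h := hO.hO c hc
  unfold chkO at h
  rw [band_iff] at h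
  obtain ⟨h1, h2⟩ := h
  constructor
  · unfold chkOrbInv at h1
    rw [allFrom_iff] at h1
    intro wid ha hb
    have h3 := h1 wid ha (by show wid < C.nsub + (C.nw - C.nsub); omega)
    change band (Nat.blt (C.pdn wid (C.wLen wid) c) C.n)
      (Nat.beq (C.comp (C.pdn wid (C.wLen wid) c)) (C.comp c)) = true at h3
    rw [band_iff, blt_iff, beq_iff] at h3
    exact h3
  · unfold chkOrbTree at h2
    rw [band_iff, blt_iff, bor_iff, beq_iff] at h2
    refine ⟨h2.1, ?_⟩
    rcases h2.2 with h3 | h3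
    · exact Or.inl h3
    · right
      simp only [band_iff, blt_iff, ble_iff] at h3
      obtain ⟨a1, a2, a3, a4, a5⟩ := h3
      refine ⟨a1, a2, a3, a4, ?_⟩
      rw [sel_eq_ite] at a5
      split_ifs at a5 with hd
      · exact Or.inl ⟨beq_iff.mp hd, beq_iff.mp a5⟩
      · exact Or.inr (beq_iff.mp a5)

/-- the subgroup preserves the components -/
theorem comp_inv (hP : Pres C γ H) (hC : Checks C) (hO : OChecks C) (φ : G →* Equiv.Perm ℕ)
    (hφ : ∀ s < C.g, φ (γ s) = C.σ s) (hH0 : ∀ h ∈ H, φ h 0 = 0) :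
    ∀ h ∈ H, ∀ c < C.n, C.comp (φ h c) = C.comp c := by
  intro h hh
  have hh' := hh
  rw [hP.hH] at hh'
  induction hh' using Subgroup.closure_induction with
  | mem x hx =>
    obtain ⟨wid, h1, h2, rfl⟩ := hx
    intro c hc
    have h3 := (chkO_spec hO hc).1 wid h1 h2
    rw [phi_word hC φ hφ h3.1, h3.2]
  | one => intro c _; rw [map_one, Equiv.Perm.one_apply]
  | mul x y hx' hy' hx hy =>
    intro c hc
    have hxH : x ∈ H := by rw [hP.hH]; exact hx'
    have hyH : y ∈ H := by rw [hP.hH]; exact hy'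
    rw [map_mul, Equiv.Perm.mul_apply, hx hxH _ (F_equiv hP hC φ hφ hH0 y hc).2, hy hyH c hc]
  | inv x hx' hx =>
    intro c hc
    have hxH : x ∈ H := by rw [hP.hH]; exact hx'
    have h1 := (F_equiv hP hC φ hφ hH0 x⁻¹ hc).2
    have h2 := hx hxH _ h1
    have h3 : φ x ((φ x)⁻¹ c) = c := (Equiv.eq_symm_apply (φ x)).mp rfl
    rw [map_inv, h3] at h2
    rw [map_inv, h2]

/-- every coset lies in the orbit of the root of its component -/
theorem mem_orbit_root (hP : Pres C γ H) (hC : Checks C) (hO : OChecks C)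
    (φ : G →* Equiv.Perm ℕ) (hφ : ∀ s < C.g, φ (γ s) = C.σ s) (hH0 : ∀ h ∈ H, φ h 0 = 0) :
    ∀ (d c : ℕ), c < C.n → C.odepth c < d →
      C.F γ H c ∈ MulAction.orbit H (C.F γ H (C.root (C.comp c)))
  | 0, c, _, h => absurd h (Nat.not_lt_zero _)
  | d + 1, c, hc, hd => by
    obtain ⟨-, -, h | ⟨a1, a2, a3, a4, a5⟩⟩ := chkO_spec hO hc
    · rw [h]; exact MulAction.mem_orbit_self _
    · have ih := mem_orbit_root hP hC hO φ hφ hH0 d (C.opar c) a1 (by omega)
      have hw := hword_mem hP a3 a4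
      rcases a5 with ⟨-, a5⟩ | a5
      · have h1 := phi_word hC φ hφ (γ := γ) (wid := C.oword c) (c := C.opar c) (by rw [a5]; exact hc)
        rw [a5] at h1
        have h2 := (F_equiv hP hC φ hφ hH0 (((C.wordL (C.oword c)).map γ).prod) a1).1
        rw [h1] at h2
        have h3 := comp_inv hP hC hO φ hφ hH0 _ hw _ a1
        rw [h1] at h3
        rw [h3, ← h2]
        exact MulAction.mem_orbit_of_mem_orbit (⟨_, hw⟩ : H) ih
      · have h1 := phi_word hC φ hφ (γ := γ) (wid := C.oword c) (c := c) (by rw [a5]; exact a1)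
        rw [a5] at h1
        have h2 := (F_equiv hP hC φ hφ hH0 (((C.wordL (C.oword c)).map γ).prod) hc).1
        rw [h1] at h2
        have h3 := comp_inv hP hC hO φ hφ hH0 _ hw _ hc
        rw [h1] at h3
        have h4 : C.F γ H c = (((C.wordL (C.oword c)).map γ).prod)⁻¹ • C.F γ H (C.opar c) := by
          rw [← h2, inv_smul_smul]
        rw [← h3, h4]
        exact MulAction.mem_orbit_of_mem_orbit ((⟨_, hw⟩ : H)⁻¹) ih

theorem root_spec (hO : OChecks C) {k : ℕ} (hk : k < C.ncomp) :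
    C.root k < C.n ∧ C.comp (C.root k) = k := by
  have h := hO.hR
  unfold chkRoots at h
  rw [allB_iff] at h
  have h2 := h k hk
  rw [band_iff, blt_iff, beq_iff] at h2
  exact h2

/-- **The orbits of the subgroup on its cosets.** -/
theorem orbits (hP : Pres C γ H) (hC : Checks C) (hO : OChecks C) :
    ∃ Q : ℕ → G ⧸ H, ∀ k < C.ncomp, (MulAction.orbit H (Q k)).ncard = C.cnt k ∧
      ∀ k' < C.ncomp, k' ≠ k → MulAction.orbit H (Q k) ≠ MulAction.orbit H (Q k') := by
  obtain ⟨φ, hφ⟩ := hP.hφ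
  have hH0 := phi_fix hP hC φ hφ
  have hψF := psi_F hP hC φ hφ hH0
  have hinj : Function.Injective (psi φ hH0) := by
    intro q1 q2 h
    obtain ⟨c1, hc1, rfl⟩ := F_surj hP hC q1
    obtain ⟨c2, hc2, rfl⟩ := F_surj hP hC q2
    rw [hψF c1 hc1, hψF c2 hc2] at h
    rw [h]
  -- the image of an orbit
  have himg : ∀ k < C.ncomp, psi φ hH0 '' MulAction.orbit H (C.F γ H (C.root k)) =
      {c | c < C.n ∧ C.comp c = k} := by
    intro k hk
    obtain ⟨hr, hrk⟩ := root_spec hO hk
    ext c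
    constructor
    · rintro ⟨q, ⟨h, rfl⟩, rfl⟩
      have h1 := F_equiv hP hC φ hφ hH0 (h : G) hr
      have h2 : h • C.F γ H (C.root k) = (h : G) • C.F γ H (C.root k) := rfl
      show psi φ hH0 (h • C.F γ H (C.root k)) < C.n ∧ C.comp (psi φ hH0 (h • C.F γ H (C.root k))) = k
      rw [h2, h1.1, hψF _ h1.2]
      exact ⟨h1.2, by rw [comp_inv hP hC hO φ hφ hH0 _ h.2 _ hr, hrk]⟩
    · rintro ⟨hc, rfl⟩
      exact ⟨C.F γ H c, mem_orbit_root hP hC hO φ hφ hH0 _ c hc (Nat.lt_succ_self _), hψF c hc⟩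
  refine ⟨fun k => C.F γ H (C.root k), fun k hk => ⟨?_, ?_⟩⟩
  · rw [← Set.ncard_image_of_injective _ hinj, himg k hk]
    have e : {c | c < C.n ∧ C.comp c = k} =
        ((Finset.range C.n).filter (fun c => C.comp c = k) : Set ℕ) := by
      ext c; simp
    rw [e, Set.ncard_coe_finset]
    exact (C.cntUpTo_eq k C.n).symm
  · intro k' hk' hne heq
    obtain ⟨hr, hrk⟩ := root_spec hO hk
    obtain ⟨hr', hrk'⟩ := root_spec hO hk'
    have h1 : psi φ hH0 (C.F γ H (C.root k')) ∈
        psi φ hH0 '' MulAction.orbit H (C.F γ H (C.root k)) := by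
      refine ⟨_, ?_, rfl⟩
      show C.F γ H (C.root k') ∈ MulAction.orbit H (C.F γ H (C.root k))
      have h0 : MulAction.orbit H (C.F γ H (C.root k)) = MulAction.orbit H (C.F γ H (C.root k')) := heq
      rw [h0]
      exact MulAction.mem_orbit_self _
    rw [himg k hk, hψF _ hr'] at h1
    exact hne (by rw [← hrk', h1.2])

end Group

end Cert

end Cfsg.Agent.Lib.Helper38
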