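import Cfsg.Agent.Lib.Helper38.CosetWP

/-!
Lower bounds for the order of a group from orbits in a permutation representation, the resulting
exact order and base, and word identities checked on a base.
-/

namespace Cfsg.Agent.Lib.Helper38

section Stab

variable {G : Type*} [Group G] (φ : G →* Equiv.Perm ℕ)

/-- pointwise stabiliser of a list of points -/
def pstab (ps : List ℕ) : Subgroup G where
  carrier := {g | ∀ p ∈ ps, φ g p = p}
  mul_mem' := by
    intro a b ha hb p hp
    rw [map_mul, Equiv.Perm.mul_apply, hb p hp, ha p hp]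
  one_mem' := by
    intro p _
    rw [map_one, Equiv.Perm.one_apply]
  inv_mem' := by
    intro a ha p hp
    rw [map_inv, Equiv.Perm.inv_eq_iff_eq, ha p hp]

theorem mem_pstab {ps : List ℕ} {g : G} : g ∈ pstab φ ps ↔ ∀ p ∈ ps, φ g p = p := Iff.rfl

theorem pstab_nil : pstab φ [] = ⊤ := by
  ext g
  simp [mem_pstab]

theorem pstab_cons_le (p : ℕ) (ps : List ℕ) : pstab φ (p :: ps) ≤ pstab φ ps :=
  fun _ hg q hq => hg q (List.mem_cons_of_mem _ hq)

/-- `m` points of the orbit of `p` under the stabiliser of `ps` -/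
def Reach (ps : List ℕ) (p m : ℕ) : Prop :=
  ∃ T : Finset ℕ, m ≤ T.card ∧ ∀ c ∈ T, ∃ g ∈ pstab φ ps, φ g p = c

theorem lb_step [Finite G] {ps : List ℕ} {p m : ℕ} (h : Reach φ ps p m) :
    m * Nat.card (pstab φ (p :: ps)) ≤ Nat.card (pstab φ ps) := by
  obtain ⟨T, hT, hreach⟩ := h
  have hle : pstab φ (p :: ps) ≤ pstab φ ps := pstab_cons_le φ p ps
  have e1 : Nat.card ((pstab φ (p :: ps)).subgroupOf (pstab φ ps)) = Nat.card (pstab φ (p :: ps)) :=
    Nat.card_congr (Subgroup.subgroupOfEquivOfLe hle).toEquiv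
  have e2 := Subgroup.index_mul_card ((pstab φ (p :: ps)).subgroupOf (pstab φ ps))
  rw [e1] at e2
  rw [← e2]
  apply Nat.mul_le_mul_right
  choose! gc hgc using hreach
  let f : T → (pstab φ ps) ⧸ (pstab φ (p :: ps)).subgroupOf (pstab φ ps) :=
    fun c => QuotientGroup.mk (⟨gc c, (hgc c c.2).1⟩ : pstab φ ps)
  have hf : Function.Injective f := by
    intro a b hab
    have h1 := QuotientGroup.eq.mp hab
    rw [Subgroup.mem_subgroupOf] at h1
    have h2 := h1 p List.mem_cons_self
    rw [Subgroup.coe_mul, Subgroup.coe_inv, map_mul, map_inv, Equiv.Perm.mul_apply,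
      Equiv.Perm.inv_eq_iff_eq] at h2
    have h3 : φ (gc b) p = φ (gc a) p := h2
    rw [(hgc a a.2).2, (hgc b b.2).2] at h3
    exact Subtype.ext h3.symm
  have h4 := Nat.card_le_card_of_injective f hf
  rw [Subgroup.index_eq_card]
  calc m ≤ T.card := hT
    _ = Nat.card T := by simp
    _ ≤ _ := h4

/-- a chain of base points with lower bounds for the orbit lengths -/
def Chain : List ℕ → List (ℕ × ℕ) → Prop
  | _, [] => True
  | ps, (p, m) :: L => Reach φ ps p m ∧ Chain (p :: ps) L

theorem chain_card [Finite G] : ∀ (L : List (ℕ × ℕ)) (ps : List ℕ), Chain φ ps L →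
    (L.map Prod.snd).prod * Nat.card (pstab φ ((L.map Prod.fst).reverse ++ ps)) ≤
      Nat.card (pstab φ ps)
  | [], ps, _ => by simp
  | (p, m) :: L, ps, h => by
    have h1 := lb_step φ h.1
    have h2 := chain_card L (p :: ps) h.2
    simp only [List.map_cons, List.prod_cons, List.reverse_cons, List.append_assoc,
      List.singleton_append]
    calc m * (L.map Prod.snd).prod * Nat.card (pstab φ ((L.map Prod.fst).reverse ++ p :: ps))
        = m * ((L.map Prod.snd).prod *
            Nat.card (pstab φ ((L.map Prod.fst).reverse ++ p :: ps))) := by ring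
      _ ≤ m * Nat.card (pstab φ (p :: ps)) := Nat.mul_le_mul_left _ h2
      _ ≤ _ := h1

/-- **Order and base.** If the orbit lengths along a chain of base points multiply up to an upper
bound for the order, then the order is this product and the points form a base. -/
theorem order_base [Finite G] (L : List (ℕ × ℕ)) (hch : Chain φ [] L)
    (hub : Nat.card G ≤ (L.map Prod.snd).prod) :
    Nat.card G = (L.map Prod.snd).prod ∧
      ∀ g : G, (∀ p ∈ L.map Prod.fst, φ g p = p) → g = 1 := by
  have h := chain_card φ L [] hch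
  rw [List.append_nil, pstab_nil, Subgroup.card_top] at h
  have hGpos : 0 < Nat.card G := Nat.card_pos
  have hPpos : 0 < (L.map Prod.snd).prod := lt_of_lt_of_le hGpos hub
  have hK1 : 1 ≤ Nat.card (pstab φ (L.map Prod.fst).reverse) := Nat.card_pos
  have hKle : Nat.card (pstab φ (L.map Prod.fst).reverse) ≤ 1 := by
    by_contra hc
    have hc' : 2 ≤ Nat.card (pstab φ (L.map Prod.fst).reverse) := by omega
    have h5 : (L.map Prod.snd).prod * 2 ≤
        (L.map Prod.snd).prod * Nat.card (pstab φ (L.map Prod.fst).reverse) :=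
      Nat.mul_le_mul_left _ hc'
    omega
  have hK : Nat.card (pstab φ (L.map Prod.fst).reverse) = 1 := le_antisymm hKle hK1
  constructor
  · rw [hK, mul_one] at h
    exact le_antisymm hub h
  · intro g hg
    have hgK : g ∈ pstab φ (L.map Prod.fst).reverse := fun p hp => hg p (List.mem_reverse.mp hp)
    rw [Subgroup.card_eq_one.mp hK] at hgK
    exact Subgroup.mem_bot.mp hgK

end Stab

/-! ### Orbit trees -/

/-- an orbit tree over the final table of a certificate: points reached from the root by the
words `lo ≤ wid < hi` of the certificate; the rows also hold the number of members below each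
point -/
structure OT where
  root : Nat
  lo : Nat
  hi : Nat
  lg : Nat
  lmask : Nat
  rW : Nat
  mv : Nat
  mw : Nat
  md : Nat
  oP : Nat
  oW : Nat
  oD : Nat
  oDir : Nat
  oC : Nat
  rows : BT

namespace OT

variable (T : OT)

noncomputable def rowL (c : Nat) : Nat :=
  rcd (strict (Nat.shiftRight c T.lg) T.rows.get) T.rW (Nat.land c T.lmask)

noncomputable def row (c : Nat) : Nat := strict c T.rowL

noncomputable def mem (c : Nat) : Nat := fld (T.row c) 0 1
noncomputable def par (c : Nat) : Nat := fld (T.row c) T.oP T.mv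
noncomputable def word (c : Nat) : Nat := fld (T.row c) T.oW T.mw
noncomputable def depth (c : Nat) : Nat := fld (T.row c) T.oD T.md
noncomputable def dir (c : Nat) : Nat := fld (T.row c) T.oDir 1
/-- the number of members below `c` -/
noncomputable def pc (c : Nat) : Nat := fld (T.row c) T.oC T.mv

/-- a member of the tree is the root or is reached from a member of smaller depth -/
noncomputable def chkT (C : Cert) (c : Nat) : Bool :=
  sel (Nat.beq (T.mem c) 0) true
    (bor (Nat.beq T.root c)
      (band (Nat.blt (T.par c) C.n) (band (Nat.beq (T.mem (T.par c)) 1)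
        (band (Nat.blt (T.depth (T.par c)) (T.depth c)) (band (Nat.ble T.lo (T.word c))
          (band (Nat.blt (T.word c) T.hi)
            (sel (Nat.beq (T.dir c) 0)
              (Nat.beq (C.pdn (T.word c) (C.wLen (T.word c)) (T.par c)) c)
              (Nat.beq (C.pdn (T.word c) (C.wLen (T.word c)) c) (T.par c)))))))))

/-- the check of the point `c`: membership and the running number of members -/
noncomputable def chk (C : Cert) (c : Nat) : Bool :=
  band (T.chkT C c) (Nat.beq (T.pc (Nat.succ c)) (Nat.add (T.pc c) (T.mem c)))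

/-- the generating words fix the points `ps` -/
noncomputable def chkFix (C : Cert) (ps : List Nat) : Bool :=
  allFrom T.lo (Nat.sub T.hi T.lo) (fun wid =>
    ps.all (fun p => band (Nat.blt p C.n) (Nat.beq (C.pdn wid (C.wLen wid) p) p)))

theorem mem_le_one (c : ℕ) : T.mem c ≤ 1 := Nat.and_le_right

variable {T}

theorem pc_eq {C : Cert} (h0 : T.pc 0 = 0) : ∀ N : ℕ, (∀ c < N, T.chk C c = true) →
    T.pc N = ((Finset.range N).filter (fun c => T.mem c = 1)).card
  | 0, _ => by simp [h0]
  | N + 1, h => by
    have ih := pc_eq h0 N (fun c hc => h c (Nat.lt_succ_of_lt hc))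
    have h1 := h N (Nat.lt_succ_self N)
    unfold chk at h1
    rw [band_iff, beq_iff] at h1
    have h2 : T.pc (N + 1) = T.pc N + T.mem N := h1.2
    rw [h2, ih, Finset.range_add_one, Finset.filter_insert]
    by_cases hm : T.mem N = 1
    · rw [if_pos hm, Finset.card_insert_of_notMem (by simp), hm]
    · rw [if_neg hm]
      have := T.mem_le_one N
      omega

theorem chk_spec {C : Cert} {c : ℕ} (h : T.chk C c = true) (hm : T.mem c = 1) :
    T.root = c ∨ (T.par c < C.n ∧ T.mem (T.par c) = 1 ∧ T.depth (T.par c) < T.depth c ∧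
      T.lo ≤ T.word c ∧ T.word c < T.hi ∧
      ((C.pdn (T.word c) (C.wLen (T.word c)) (T.par c) = c) ∨
       (C.pdn (T.word c) (C.wLen (T.word c)) c = T.par c))) := by
  unfold chk at h
  rw [band_iff] at h
  have h := h.1
  unfold chkT at h
  rw [sel_eq_ite, if_neg (by rw [beq_iff, hm]; exact one_ne_zero), bor_iff, beq_iff] at h
  rcases h with h | h
  · exact Or.inl h
  · right
    simp only [band_iff, blt_iff, ble_iff, beq_iff] at h
    obtain ⟨a1, a2, a3, a4, a5, a6⟩ := h
    refine ⟨a1, a2, a3, a4, a5, ?_⟩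
    rw [sel_eq_ite] at a6
    split_ifs at a6 with hd
    · exact Or.inl (beq_iff.mp a6)
    · exact Or.inr (beq_iff.mp a6)

theorem chkFix_spec {C : Cert} {ps : List ℕ} (h : T.chkFix C ps = true) {wid : ℕ}
    (h1 : T.lo ≤ wid) (h2 : wid < T.hi) {p : ℕ} (hp : p ∈ ps) :
    p < C.n ∧ C.pdn wid (C.wLen wid) p = p := by
  unfold chkFix at h
  rw [allFrom_iff] at h
  have h3 := h wid h1 (by show wid < T.lo + (T.hi - T.lo); omega)
  have h4 := List.all_eq_true.mp h3 p hp
  rw [band_iff, blt_iff, beq_iff] at h4
  exact h4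

/-- the members of an orbit tree are reached by elements of the stabiliser -/
theorem reach {C : Cert} {G : Type*} [Group G] {γ : ℕ → G} (hC : Cert.Checks C)
    (φ : G →* Equiv.Perm ℕ) (hφ : ∀ s < C.g, φ (γ s) = C.σ s) (ps : List ℕ)
    (hfix : T.chkFix C ps = true) (h0 : T.pc 0 = 0) (htree : ∀ c < C.n, T.chk C c = true) :
    Reach φ ps T.root (T.pc C.n) := by
  have hw : ∀ wid, T.lo ≤ wid → wid < T.hi → ((C.wordL wid).map γ).prod ∈ pstab φ ps := by
    intro wid h1 h2 p hp
    obtain ⟨hpn, hpp⟩ := chkFix_spec hfix h1 h2 hp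
    rw [Cert.phi_word hC φ hφ (by rw [hpp]; exact hpn), hpp]
  have key : ∀ (d c : ℕ), c < C.n → T.mem c = 1 → T.depth c < d →
      ∃ g ∈ pstab φ ps, φ g T.root = c := by
    intro d
    induction d with
    | zero => intro c _ _ h; exact absurd h (Nat.not_lt_zero _)
    | succ d ih =>
      intro c hc hm hd
      rcases chk_spec (htree c hc) hm with h | ⟨a1, a2, a3, a4, a5, a6⟩
      · exact ⟨1, one_mem _, by rw [map_one, Equiv.Perm.one_apply, h]⟩
      · obtain ⟨g, hg, hgr⟩ := ih (T.par c) a1 a2 (by omega)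
        have hwm := hw (T.word c) a4 a5
        rcases a6 with a6 | a6
        · refine ⟨((C.wordL (T.word c)).map γ).prod * g, mul_mem hwm hg, ?_⟩
          rw [map_mul, Equiv.Perm.mul_apply, hgr,
            Cert.phi_word hC φ hφ (by rw [a6]; exact hc), a6]
        · refine ⟨(((C.wordL (T.word c)).map γ).prod)⁻¹ * g, mul_mem (inv_mem hwm) hg, ?_⟩
          have h1 := Cert.phi_word hC φ hφ (γ := γ) (wid := T.word c) (c := c)
            (by rw [a6]; exact a1)
          rw [a6] at h1
          rw [map_mul, Equiv.Perm.mul_apply, hgr, map_inv, Equiv.Perm.inv_eq_iff_eq, h1]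
  refine ⟨(Finset.range C.n).filter (fun c => T.mem c = 1), (pc_eq h0 C.n htree).le, ?_⟩
  intro c hc
  rw [Finset.mem_filter, Finset.mem_range] at hc
  exact key (T.depth c + 1) c hc.1 hc.2 (Nat.lt_succ_self _)

end OT

/-! ### Word identities and the centre -/

section Base

variable {G : Type*} [Group G] {C : Cert} {γ : ℕ → G}

/-- a word which fixes the points of a base is trivial -/
theorem word_one_of_base (hC : Cert.Checks C) (φ : G →* Equiv.Perm ℕ)
    (hφ : ∀ s < C.g, φ (γ s) = C.σ s) (base : List ℕ)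
    (hbase : ∀ g : G, (∀ p ∈ base, φ g p = p) → g = 1) (wid : ℕ)
    (h : base.all (fun p => band (Nat.blt p C.n) (Nat.beq (C.pdn wid (C.wLen wid) p) p)) = true) :
    ((C.wordL wid).map γ).prod = 1 := by
  apply hbase
  intro p hp
  have h4 := List.all_eq_true.mp h p hp
  rw [band_iff, blt_iff, beq_iff] at h4
  rw [Cert.phi_word hC φ hφ (by rw [h4.2]; exact h4.1), h4.2]

/-- the inverse of a word in involutions is the reversed word -/
theorem prod_reverse_inv (hγ : ∀ s, γ s * γ s = 1) (w : List ℕ) :
    (w.reverse.map γ).prod = ((w.map γ).prod)⁻¹ := by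
  induction w with
  | nil => simp
  | cons a w ih =>
    rw [List.reverse_cons, List.map_append, List.prod_append, ih]
    simp only [List.map_nil, List.prod_nil, mul_one, List.map_cons, List.prod_cons, mul_inv_rev,
      inv_eq_of_mul_eq_one_left (hγ a)]

/-- a central element is trivial, if the generators in `S` have `0` as their only common fixed
point -/
theorem central_eq_one {H : Subgroup G} (hP : Cert.Pres C γ H) (hC : Cert.Checks C)
    (φ : G →* Equiv.Perm ℕ) (hφ : ∀ s < C.g, φ (γ s) = C.σ s) (S : List ℕ)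
    (hS0 : S.all (fun s => band (Nat.blt s C.g) (Nat.beq (C.tn 0 s) 0)) = true)
    (hSfix : allB C.n (fun c => bor (Nat.beq c 0) (S.any (fun s => !(Nat.beq (C.tn c s) c)))) = true)
    (base : List ℕ) (hbase : ∀ g : G, (∀ p ∈ base, φ g p = p) → g = 1)
    (hbl : ∀ p ∈ base, p < C.n) (c : G) (hc : ∀ x, c * x = x * c) : c = 1 := by
  have hInv := Cert.hInv_of hC
  have hG := C.chkG_spec hC.hG
  have hH0 := Cert.phi_fix hP hC φ hφ
  have hp : φ c 0 < C.n := (Cert.F_equiv hP hC φ hφ hH0 c hG.2.2.1).2
  -- `c` fixes `0`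
  have h0 : φ c 0 = 0 := by
    rw [allB_iff] at hSfix
    have h1 := hSfix _ hp
    rw [bor_iff, beq_iff] at h1
    rcases h1 with h1 | h1
    · exact h1
    · exfalso
      obtain ⟨s, hs, hne⟩ := List.any_eq_true.mp h1
      have hs0 := List.all_eq_true.mp hS0 s hs
      rw [band_iff, blt_iff, beq_iff] at hs0
      have e1 : φ (γ s) (φ c 0) = φ c 0 := by
        have e2 : φ (γ s) (φ c 0) = φ c (φ (γ s) 0) := by
          rw [← Equiv.Perm.mul_apply, ← Equiv.Perm.mul_apply, ← map_mul, ← map_mul, hc]
        rw [e2, hφ s hs0.1, (C.σ_of_lt hInv hs0.1 hG.2.2.1).1, hs0.2]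
      rw [hφ s hs0.1, (C.σ_of_lt hInv hs0.1 hp).1] at e1
      rw [e1] at hne
      simp at hne
  -- `c` fixes every point
  have hall : ∀ c' < C.n, φ c c' = c' := by
    intro c'
    induction c' using Nat.strong_induction_on with
    | _ c' ih =>
      intro hc'
      have hT := (C.chkN_iff.mp (hC.hN c' hc')).2.2.2
      unfold Cert.chkTree at hT
      rw [bor_iff, beq_iff, band_iff, band_iff, blt_iff, blt_iff, beq_iff] at hT
      rcases hT with rfl | ⟨h1, h2, h3⟩
      · exact h0
      · have hpar : C.parN c' < C.n := lt_trans h1 hc'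
        have e : c' = φ (γ (C.labN c')) (C.parN c') := by
          rw [hφ _ h2, (C.σ_of_lt hInv h2 hpar).1, h3]
        rw [e, ← Equiv.Perm.mul_apply, ← map_mul, hc, map_mul, Equiv.Perm.mul_apply,
          ih _ h1 hpar]
  exact hbase c (fun p hp => hall p (hbl p hp))

end Base

end Cfsg.Agent.Lib.Helper38
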