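import Cfsg.Agent.Lib.Helper38.CosetOrbit

/-!
Verified coset-enumeration certificates, part 5: presented groups.
-/

namespace Cfsg.Agent.Lib.Helper38

theorem pair_word {K : Type*} [Group K] (σ : ℕ → K) (i j : ℕ) : ∀ m : ℕ,
    (((List.replicate m [i, j]).flatten).map σ).prod = (σ i * σ j) ^ m
  | 0 => by simp
  | m + 1 => by
    rw [List.replicate_succ, List.flatten_cons, List.map_append, List.prod_append,
      pair_word σ i j m, pow_succ']
    simp

theorem pair_swap {K : Type*} [Group K] {a b : K} (ha : a * a = 1) (hb : b * b = 1) {m : ℕ}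
    (h : (a * b) ^ m = 1) : (b * a) ^ m = 1 := by
  have e : b * a = (a * b)⁻¹ := by
    rw [mul_inv_rev, inv_eq_of_mul_eq_one_left ha, inv_eq_of_mul_eq_one_left hb]
  rw [e, inv_pow, h, inv_one]

theorem lift_of_eq_mk {α : Type*} (rels : Set (FreeGroup α)) (r : FreeGroup α) :
    FreeGroup.lift (fun x => (PresentedGroup.of x : PresentedGroup rels)) r =
      PresentedGroup.mk rels r := by
  have e : FreeGroup.lift (fun x => (PresentedGroup.of x : PresentedGroup rels)) =
      PresentedGroup.mk rels := by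
    ext x
    simp [PresentedGroup.of]
  rw [e]

/-- the hypotheses `Cert.Pres` for a subgroup of a presented group -/
theorem Cert.pres_of (C : Cert) {α : Type} (rels : Set (FreeGroup α)) (gen : ℕ → α) (idx : α → ℕ)
    (hgi : ∀ x, gen (idx x) = x) (hidx : ∀ x, idx x < C.g) (hig : ∀ s < C.g, idx (gen s) = s)
    (words : List (List ℕ)) (hwords : (List.range C.nrel).map C.wordL = words)
    (hinvol : ∀ x, (PresentedGroup.of x : PresentedGroup rels) * PresentedGroup.of x = 1)
    (hwordsG : ∀ w ∈ words,
      (w.map (fun s => (PresentedGroup.of (gen s) : PresentedGroup rels))).prod = 1)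
    (hlift : ∀ σ : ℕ → Equiv.Perm ℕ, (∀ s, σ s * σ s = 1) →
      (∀ w ∈ words, (w.map σ).prod = 1) →
      ∀ r ∈ rels, FreeGroup.lift (fun x => σ (idx x)) r = 1)
    (S : Set (FreeGroup α))
    (hS : PresentedGroup.mk rels '' S = {x | ∃ wid, C.nsub ≤ wid ∧ wid < C.nw ∧
      ((C.wordL wid).map (fun s => (PresentedGroup.of (gen s) : PresentedGroup rels))).prod = x})
    (hN : ∀ c < C.n, C.chkN c = true) :
    Cert.Pres C (fun s => (PresentedGroup.of (gen s) : PresentedGroup rels))
      ((Subgroup.closure S).map (PresentedGroup.mk rels)) where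
  hγ := fun s => hinvol (gen s)
  hgen := by
    rw [eq_top_iff, ← PresentedGroup.closure_range_of rels]
    apply Subgroup.closure_mono
    rintro _ ⟨x, rfl⟩
    exact ⟨idx x, hidx x, by show PresentedGroup.of (gen (idx x)) = _; rw [hgi]⟩
  hrel := fun wid hwid => hwordsG _ (by
    rw [← hwords]; exact List.mem_map.mpr ⟨wid, List.mem_range.mpr hwid, rfl⟩)
  hH := by rw [MonoidHom.map_closure, hS]
  hφ := ⟨PresentedGroup.toGroup (hlift C.σ C.σ_mul_self (fun w hw => by
      rw [← hwords] at hw
      obtain ⟨wid, hwid, rfl⟩ := List.mem_map.mp hw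
      exact C.σ_rel hN wid (List.mem_range.mp hwid))), fun s hs => by
    rw [PresentedGroup.toGroup.of, hig s hs]⟩

end Cfsg.Agent.Lib.Helper38
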