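import Cfsg.Agent.Lib.Helper38.CosetMax

/-!
Glue for the order and the simplicity of a group presented by involutions: the top of the
stabiliser chain, word identities on a base, and the simplicity criterion for a group generated by
a class of involutions whose centraliser is maximal.
-/

namespace Cfsg.Agent.Lib.Helper38

/-- the hypotheses `Cert.Pres` for the subgroup of a presented group generated by the subgroup
words of the certificate -/
theorem Cert.pres_sub (C : Cert) {α : Type} (rels : Set (FreeGroup α)) (gen : ℕ → α) (idx : α → ℕ)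
    (hgi : ∀ x, gen (idx x) = x) (hidx : ∀ x, idx x < C.g) (hig : ∀ s < C.g, idx (gen s) = s)
    (words : List (List ℕ)) (hwords : (List.range C.nrel).map C.wordL = words)
    (hinvol : ∀ x, (PresentedGroup.of x : PresentedGroup rels) * PresentedGroup.of x = 1)
    (hwordsG : ∀ w ∈ words,
      (w.map (fun s => (PresentedGroup.of (gen s) : PresentedGroup rels))).prod = 1)
    (hlift : ∀ σ : ℕ → Equiv.Perm ℕ, (∀ s, σ s * σ s = 1) →
      (∀ w ∈ words, (w.map σ).prod = 1) →
      ∀ r ∈ rels, FreeGroup.lift (fun x => σ (idx x)) r = 1)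
    (hN : ∀ c < C.n, C.chkN c = true) :
    Cert.Pres C (fun s => (PresentedGroup.of (gen s) : PresentedGroup rels))
      (C.subgp (fun s => (PresentedGroup.of (gen s) : PresentedGroup rels))) where
  hγ := fun s => hinvol (gen s)
  hgen := by
    rw [eq_top_iff, ← PresentedGroup.closure_range_of rels]
    apply Subgroup.closure_mono
    rintro _ ⟨x, rfl⟩
    exact ⟨idx x, hidx x, by show PresentedGroup.of (gen (idx x)) = _; rw [hgi]⟩
  hrel := fun wid hwid => hwordsG _ (by
    rw [← hwords]; exact List.mem_map.mpr ⟨wid, List.mem_range.mpr hwid, rfl⟩)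
  hH := rfl
  hφ := ⟨PresentedGroup.toGroup (hlift C.σ C.σ_mul_self (fun w hw => by
      rw [← hwords] at hw
      obtain ⟨wid, hwid, rfl⟩ := List.mem_map.mp hw
      exact C.σ_rel hN wid (List.mem_range.mp hwid))), fun s hs => by
    rw [PresentedGroup.toGroup.of, hig s hs]⟩

/-- the set of active generators given by a list -/
def actL (L : List ℕ) : ℕ → Bool := fun s => decide (s ∈ L)

theorem actL_ge (L : List ℕ) (g : ℕ) (h : ∀ x ∈ L, x < g) : ∀ s, g ≤ s → actL L s = false := by
  intro s hs
  unfold actL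
  rw [decide_eq_false_iff_not]
  intro hm
  exact absurd (h s hm) (not_lt.mpr hs)

theorem Cert.hsub_of {C : Cert} {act : ℕ → Bool}
    (h : allFrom C.nsub (Nat.sub C.nw C.nsub) (fun wid => (C.wordL wid).all act) = true) :
    ∀ wid, C.nsub ≤ wid → wid < C.nw → (C.wordL wid).all act = true := by
  intro wid h1 h2
  exact allFrom_iff.mp h wid h1 (by show wid < C.nsub + (C.nw - C.nsub); omega)

section

variable {C : Cert} {G : Type*} [Group G] {γ : ℕ → G} {H : Subgroup G}

/-- the components partition the cosets -/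
theorem Cert.cnt_sum3 (hO : Cert.OChecks C) (h3 : C.ncomp = 3) :
    C.cnt 0 + C.cnt 1 + C.cnt 2 = C.n := by
  classical
  have hmaps : ((Finset.range C.n : Finset ℕ) : Set ℕ).MapsTo C.comp (Finset.range 3) := by
    intro c hc
    rw [Finset.mem_coe, Finset.mem_range] at hc
    rw [Finset.mem_coe, Finset.mem_range, ← h3]
    exact (Cert.chkO_spec hO hc).2.1
  have h := Finset.card_eq_sum_card_fiberwise hmaps
  rw [Finset.card_range, Finset.sum_range_succ, Finset.sum_range_succ, Finset.sum_range_succ,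
    Finset.sum_range_zero, zero_add, ← C.cntUpTo_eq, ← C.cntUpTo_eq, ← C.cntUpTo_eq] at h
  exact h.symm

/-- the whole group is transitive on the cosets -/
theorem reach_top (hP : Cert.Pres C γ H) (hC : Cert.Checks C) (φ : G →* Equiv.Perm ℕ)
    (hφ : ∀ s < C.g, φ (γ s) = C.σ s) : Reach φ [] 0 C.n := by
  have hH0 := Cert.phi_fix hP hC φ hφ
  have hn : 0 < C.n := (C.chkG_spec hC.hG).2.2.1
  refine ⟨Finset.range C.n, by rw [Finset.card_range], ?_⟩
  intro c hc
  rw [Finset.mem_range] at hc
  obtain ⟨g, hg⟩ := QuotientGroup.mk_surjective (C.F γ H c)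
  have e1 := Cert.F_equiv hP hC φ hφ hH0 g hn
  have e2 : g • C.F γ H 0 = C.F γ H c := by
    rw [Cert.F_zero hC, MulAction.Quotient.smul_mk, smul_eq_mul, mul_one, hg]
  have e3 := congrArg (Cert.psi φ hH0) (e1.1.symm.trans e2)
  rw [Cert.psi_F hP hC φ hφ hH0 _ e1.2, Cert.psi_F hP hC φ hφ hH0 _ hc] at e3
  exact ⟨g, by rw [pstab_nil]; exact Subgroup.mem_top g, e3⟩

/-- words which fix the points of a base are trivial -/
theorem words_one_of_base (hC : Cert.Checks C) (φ : G →* Equiv.Perm ℕ)
    (hφ : ∀ s < C.g, φ (γ s) = C.σ s) (base : List ℕ)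
    (hbase : ∀ g : G, (∀ p ∈ base, φ g p = p) → g = 1) (lo len : ℕ)
    (h : allFrom lo len (fun wid => base.all (fun p =>
      band (Nat.blt p C.n) (Nat.beq (C.pdn wid (C.wLen wid) p) p))) = true) :
    ∀ wid, lo ≤ wid → wid < lo + len → ((C.wordL wid).map γ).prod = 1 := by
  intro wid h1 h2
  exact word_one_of_base hC φ hφ base hbase wid (allFrom_iff.mp h wid h1 h2)

/-- a generator conjugate to another one, from a word identity -/
theorem conj_of_word (hγ : ∀ s, γ s * γ s = 1) (u : List ℕ) (s t : ℕ)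
    (h : ((u ++ s :: (u.reverse ++ [t])).map γ).prod = 1) :
    γ t = (u.map γ).prod * γ s * ((u.map γ).prod)⁻¹ := by
  rw [List.map_append, List.prod_append, List.map_cons, List.prod_cons, List.map_append,
    List.prod_append, prod_reverse_inv hγ, List.map_singleton, List.prod_singleton] at h
  have ht : (γ t)⁻¹ = γ t := inv_eq_of_mul_eq_one_left (hγ t)
  have h2 : (u.map γ).prod * γ s * ((u.map γ).prod)⁻¹ = (γ t)⁻¹ := by
    apply eq_inv_of_mul_eq_one_left
    rw [← h]; group
  rw [← ht, ← h2]

/-- two words commute, from a word identity -/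
theorem comm_of_word (hγ : ∀ s, γ s * γ s = 1) (h ζ : List ℕ) (hpal : ζ.reverse = ζ)
    (e : ((h ++ (ζ ++ (h.reverse ++ ζ))).map γ).prod = 1) :
    (h.map γ).prod * (ζ.map γ).prod = (ζ.map γ).prod * (h.map γ).prod := by
  rw [List.map_append, List.prod_append, List.map_append, List.prod_append, List.map_append,
    List.prod_append, prod_reverse_inv hγ] at e
  have hz : ((ζ.map γ).prod)⁻¹ = (ζ.map γ).prod := by rw [← prod_reverse_inv hγ, hpal]
  have h2 : (h.map γ).prod * (ζ.map γ).prod = ((h.map γ).prod⁻¹ * (ζ.map γ).prod)⁻¹ := by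
    apply eq_inv_of_mul_eq_one_left
    rw [← e]; group
  rw [h2, mul_inv_rev, inv_inv, hz]

theorem comm_closure {z : G} {T : Set G} (h : ∀ x ∈ T, x * z = z * x) :
    ∀ y ∈ Subgroup.closure T, y * z = z * y := by
  intro y hy
  induction hy using Subgroup.closure_induction with
  | mem x hx => exact h x hx
  | one => rw [one_mul, mul_one]
  | mul a b _ _ ha hb => rw [mul_assoc, hb, ← mul_assoc, ha, mul_assoc]
  | inv a _ ha =>
    calc a⁻¹ * z = a⁻¹ * (z * a) * a⁻¹ := by group
      _ = a⁻¹ * (a * z) * a⁻¹ := by rw [ha]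
      _ = z * a⁻¹ := by group

/-- the subgroup of a certificate `C3` centralises the element given by the palindromic word `ζ`,
if the commutator words are stored in the certificate `C` at offset `off` and are trivial -/
theorem centralizes (hγ : ∀ s, γ s * γ s = 1) (C3 : Cert) (ζ : List ℕ) (hpal : ζ.reverse = ζ)
    (off : ℕ)
    (hw : ∀ wid, C3.nsub ≤ wid → wid < C3.nw →
      C.wordL (off + wid) = C3.wordL wid ++ (ζ ++ ((C3.wordL wid).reverse ++ ζ)))
    (hid : ∀ wid, C3.nsub ≤ wid → wid < C3.nw → ((C.wordL (off + wid)).map γ).prod = 1) :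
    ∀ h ∈ C3.subgp γ, h * (ζ.map γ).prod = (ζ.map γ).prod * h := by
  apply comm_closure
  rintro _ ⟨wid, h1, h2, rfl⟩
  apply comm_of_word hγ _ _ hpal
  rw [← hw wid h1 h2]
  exact hid wid h1 h2

end

/-- **Simplicity.** A group with trivial centre generated by conjugate involutions `γ s`, such that
a maximal subgroup `H` centralises one of their conjugates `z`, and such that some word of odd
length in the generators is trivial, is simple. -/
theorem simple_of_transp {G : Type*} [Group G] [Nontrivial G] (γ : ℕ → G) (g : ℕ)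
    (hgen : Subgroup.closure (γ '' {s | s < g}) = ⊤)
    (z : G) (hz2 : z * z = 1)
    (hconj : ∀ s < g, ∃ x : G, γ s = x * z * x⁻¹)
    (H : Subgroup G) (hHz : ∀ h ∈ H, h * z = z * h)
    (hmax : ∀ M : Subgroup G, H ≤ M → M = H ∨ M = ⊤)
    (hcen : ∀ c : G, (∀ x, c * x = x * c) → c = 1)
    (w : List ℕ) (hwg : ∀ s ∈ w, s < g) (hodd : w.length % 2 = 1) (hw : (w.map γ).prod = 1) :
    IsSimpleGroup G := by
  refine { toNontrivial := ‹Nontrivial G›, eq_bot_or_eq_top_of_normal := fun N hN => ?_ }
  rcases hmax (N ⊔ H) le_sup_right with hM | hM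
  · -- `N ≤ H`, hence `N` is central
    left
    have hNH : N ≤ H := by rw [← hM]; exact le_sup_left
    rw [eq_bot_iff]
    intro n hn
    rw [Subgroup.mem_bot]
    apply hcen
    have hcomm : ∀ s < g, n * γ s = γ s * n := by
      intro s hs
      obtain ⟨x, hx⟩ := hconj s hs
      have h1 : x⁻¹ * n * x ∈ N := by
        have := hN.conj_mem n hn x⁻¹
        rwa [inv_inv] at this
      have h2 := hHz _ (hNH h1)
      rw [hx]
      calc n * (x * z * x⁻¹) = x * ((x⁻¹ * n * x) * z) * x⁻¹ := by group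
        _ = x * (z * (x⁻¹ * n * x)) * x⁻¹ := by rw [h2]
        _ = x * z * x⁻¹ * n := by group
    intro x
    have hx : x ∈ Subgroup.closure (γ '' {s | s < g}) := by rw [hgen]; exact Subgroup.mem_top x
    induction hx using Subgroup.closure_induction with
    | mem y hy => obtain ⟨s, hs, rfl⟩ := hy; exact hcomm s hs
    | one => rw [one_mul, mul_one]
    | mul a b _ _ ha hb => rw [← mul_assoc, ha, mul_assoc, hb, mul_assoc]
    | inv a _ ha =>
      calc n * a⁻¹ = a⁻¹ * (a * n) * a⁻¹ := by group
        _ = a⁻¹ * (n * a) * a⁻¹ := by rw [ha]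
        _ = a⁻¹ * n := by group
  · -- `N H = G`, hence all generators are congruent to `z` modulo `N`
    right
    have hgz : ∀ s < g, (QuotientGroup.mk (γ s) : G ⧸ N) = QuotientGroup.mk z := by
      intro s hs
      obtain ⟨x, hx⟩ := hconj s hs
      have hxm : x ∈ N ⊔ H := by rw [hM]; exact Subgroup.mem_top x
      obtain ⟨n, hn, h, hh, rfl⟩ := Subgroup.mem_sup_of_normal_left.mp hxm
      have h2 := hHz h hh
      have e : γ s = n * z * n⁻¹ := by
        rw [hx]
        calc n * h * z * (n * h)⁻¹ = n * (h * z) * h⁻¹ * n⁻¹ := by group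
          _ = n * (z * h) * h⁻¹ * n⁻¹ := by rw [h2]
          _ = n * z * n⁻¹ := by group
      have hn1 : (QuotientGroup.mk n : G ⧸ N) = 1 := (QuotientGroup.eq_one_iff n).mpr hn
      rw [e, QuotientGroup.mk_mul, QuotientGroup.mk_mul, QuotientGroup.mk_inv, hn1, one_mul,
        inv_one, mul_one]
    have hζ2 : (QuotientGroup.mk z : G ⧸ N) * QuotientGroup.mk z = 1 := by
      rw [← QuotientGroup.mk_mul, hz2]; rfl
    have hpow : (QuotientGroup.mk z : G ⧸ N) ^ w.length = 1 := by
      have h1 := congrArg (QuotientGroup.mk' N) hw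
      rw [map_list_prod, List.map_map, map_one] at h1
      have h3 := List.prod_eq_pow_card (w.map (⇑(QuotientGroup.mk' N) ∘ γ)) (QuotientGroup.mk z) (by
        intro y hy
        obtain ⟨s, hs, rfl⟩ := List.mem_map.mp hy
        exact hgz s (hwg s hs))
      rw [List.length_map] at h3
      rw [← h3, h1]
    have hζ : (QuotientGroup.mk z : G ⧸ N) = 1 := by
      have e : w.length = 2 * (w.length / 2) + 1 := by omega
      rw [e, pow_succ, pow_mul, pow_two, hζ2, one_pow, one_mul] at hpow
      exact hpow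
    rw [eq_top_iff, ← hgen, Subgroup.closure_le]
    rintro _ ⟨s, hs, rfl⟩
    exact (QuotientGroup.eq_one_iff _).mp ((hgz s hs).trans hζ)

/-- the version of `simple_of_transp` for `z` given by a word `u ++ s0 :: u.reverse` -/
theorem simple_of_transp_word {G : Type*} [Group G] [Nontrivial G] (γ : ℕ → G) (g : ℕ)
    (hγ : ∀ s, γ s * γ s = 1)
    (hgen : Subgroup.closure (γ '' {s | s < g}) = ⊤)
    (u : List ℕ) (s0 : ℕ)
    (hconj : ∀ s < g, ∃ x : G, γ s = x * γ s0 * x⁻¹)
    (H : Subgroup G)
    (hHz : ∀ h ∈ H, h * ((u ++ s0 :: u.reverse).map γ).prod =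
      ((u ++ s0 :: u.reverse).map γ).prod * h)
    (hmax : ∀ M : Subgroup G, H ≤ M → M = H ∨ M = ⊤)
    (hcen : ∀ c : G, (∀ x, c * x = x * c) → c = 1)
    (w : List ℕ) (hwg : ∀ s ∈ w, s < g) (hodd : w.length % 2 = 1) (hw : (w.map γ).prod = 1) :
    IsSimpleGroup G := by
  have ez : ((u ++ s0 :: u.reverse).map γ).prod = (u.map γ).prod * γ s0 * ((u.map γ).prod)⁻¹ := by
    rw [List.map_append, List.prod_append, List.map_cons, List.prod_cons, prod_reverse_inv hγ,
      mul_assoc]
  refine simple_of_transp γ g hgen (((u ++ s0 :: u.reverse).map γ).prod) ?_ ?_ H hHz hmax hcen w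
    hwg hodd hw
  · rw [ez]
    calc (u.map γ).prod * γ s0 * ((u.map γ).prod)⁻¹ * ((u.map γ).prod * γ s0 * ((u.map γ).prod)⁻¹)
        = (u.map γ).prod * (γ s0 * γ s0) * ((u.map γ).prod)⁻¹ := by group
      _ = 1 := by rw [hγ, mul_one, mul_inv_cancel]
  · intro s hs
    obtain ⟨x, hx⟩ := hconj s hs
    refine ⟨x * ((u.map γ).prod)⁻¹, ?_⟩
    rw [ez, hx]
    group

end Cfsg.Agent.Lib.Helper38
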