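import Cfsg.Agent.Lib.Helper38.CosetCore

/-!
Verified coset-enumeration certificates, part 2: soundness of the checker for an abstract action
of involutions on a type `X`.
-/

namespace Cfsg.Agent.Lib.Helper38

theorem sel_eq_ite {α : Type} (c : Bool) (t e : α) : sel c t e = if c = true then t else e := by
  cases c <;> rfl

theorem kindSel_iff {k : Nat} {a b c : Bool} :
    Cert.kindSel k a b c = true ↔ (k = 0 ∧ a = true) ∨ (k = 1 ∧ b = true) ∨ (k = 2 ∧ c = true) := by
  rcases k with _ | _ | _ | k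
  · show a = true ↔ _; simp
  · show b = true ↔ _; simp
  · show c = true ↔ _; simp
  · show false = true ↔ _; simp

theorem endsOK_iff {x y f b : Nat} :
    Cert.endsOK x y f b = true ↔ (x = b ∧ y = f) ∨ (x = f ∧ y = b) := by
  unfold Cert.endsOK
  rw [bor_iff, band_iff, band_iff, beq_iff, beq_iff, beq_iff, beq_iff]

/-! ### Words acting on a type -/

section Words

variable {X : Type*} (act : ℕ → X → X)

/-- apply the letters `t - c, …, t - 1` (in this order) -/
def specF (ℓ : ℕ → ℕ) (t : ℕ) : ℕ → X → X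
  | 0, P => P
  | c + 1, P => specF ℓ t c (act (ℓ (t - (c + 1))) P)

/-- apply the letters `lo + c - 1, …, lo` (in this order) -/
def specB (ℓ : ℕ → ℕ) (lo : ℕ) : ℕ → X → X
  | 0, P => P
  | c + 1, P => specB ℓ lo c (act (ℓ (lo + c)) P)

/-- apply the letters `lo, …, lo + c - 1` (in this order) -/
def upR (ℓ : ℕ → ℕ) (lo : ℕ) : ℕ → X → X
  | 0, P => P
  | c + 1, P => act (ℓ (lo + c)) (upR ℓ lo c P)

theorem upR_succ' (ℓ : ℕ → ℕ) (lo c : ℕ) (P : X) :
    upR act ℓ lo (c + 1) P = upR act ℓ (lo + 1) c (act (ℓ lo) P) := by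
  induction c with
  | zero => rfl
  | succ c ih =>
    show act (ℓ (lo + (c + 1))) (upR act ℓ lo (c + 1) P) = act (ℓ (lo + 1 + c)) (upR act ℓ (lo + 1) c _)
    rw [ih, show lo + (c + 1) = lo + 1 + c by omega]

theorem specF_eq_upR (ℓ : ℕ → ℕ) (t : ℕ) : ∀ (c : ℕ) (P : X), c ≤ t →
    specF act ℓ t c P = upR act ℓ (t - c) c P
  | 0, P, _ => rfl
  | c + 1, P, h => by
    show specF act ℓ t c (act (ℓ (t - (c + 1))) P) = _
    rw [specF_eq_upR ℓ t c _ (by omega), upR_succ', show t - (c + 1) + 1 = t - c by omega]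

theorem upR_add (ℓ : ℕ → ℕ) (lo a : ℕ) (P : X) : ∀ b : ℕ,
    upR act ℓ lo (a + b) P = upR act ℓ (lo + a) b (upR act ℓ lo a P)
  | 0 => rfl
  | b + 1 => by
    show act (ℓ (lo + (a + b))) (upR act ℓ lo (a + b) P) = act (ℓ (lo + a + b)) _
    rw [upR_add ℓ lo a P b, Nat.add_assoc]

variable (hinv : ∀ s P, act s (act s P) = P)
include hinv

theorem specB_upR (ℓ : ℕ → ℕ) (lo : ℕ) : ∀ (c : ℕ) (Q : X),
    specB act ℓ lo c (upR act ℓ lo c Q) = Q
  | 0, _ => rfl
  | c + 1, Q => by
    show specB act ℓ lo c (act (ℓ (lo + c)) (act (ℓ (lo + c)) (upR act ℓ lo c Q))) = Q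
    rw [hinv, specB_upR ℓ lo c Q]

theorem upR_specB (ℓ : ℕ → ℕ) (lo : ℕ) : ∀ (c : ℕ) (Q : X),
    upR act ℓ lo c (specB act ℓ lo c Q) = Q
  | 0, Q => rfl
  | c + 1, Q => by
    show act (ℓ (lo + c)) (upR act ℓ lo c (specB act ℓ lo c (act (ℓ (lo + c)) Q))) = Q
    rw [upR_specB ℓ lo c, hinv]

/-- a word that acts trivially on `P`, read with a gap at `t` -/
theorem scan_gap (ℓ : ℕ → ℕ) (L t : ℕ) (P : X) (ht : t < L)
    (h : specB act ℓ 0 L P = P) :
    act (ℓ t) (specF act ℓ t t P) = specB act ℓ (t + 1) (L - (t + 1)) P := by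
  have h1 : upR act ℓ 0 L P = P := by
    have := upR_specB act hinv ℓ 0 L P
    rwa [h] at this
  have h2 : upR act ℓ 0 L P = upR act ℓ (t + 1) (L - (t + 1)) (act (ℓ t) (upR act ℓ 0 t P)) := by
    have e : L = (t + 1) + (L - (t + 1)) := by omega
    conv_lhs => rw [e]
    rw [upR_add]
    show upR act ℓ (0 + (t + 1)) _ (act (ℓ (0 + t)) _) = _
    rw [Nat.zero_add, Nat.zero_add]
  have h3 : specF act ℓ t t P = upR act ℓ 0 t P := by
    rw [specF_eq_upR act ℓ t t P le_rfl, Nat.sub_self]
  rw [h3]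
  have h4 := specB_upR act hinv ℓ (t + 1) (L - (t + 1)) (act (ℓ t) (upR act ℓ 0 t P))
  rw [← h2, h1] at h4
  exact h4.symm

/-- a word that acts trivially on `P`, read without a gap -/
theorem scan_nogap (ℓ : ℕ → ℕ) (L t : ℕ) (P : X) (ht : t ≤ L)
    (h : specB act ℓ 0 L P = P) :
    specF act ℓ t t P = specB act ℓ t (L - t) P := by
  have h1 : upR act ℓ 0 L P = P := by
    have := upR_specB act hinv ℓ 0 L P
    rwa [h] at this
  have h2 : upR act ℓ 0 L P = upR act ℓ t (L - t) (upR act ℓ 0 t P) := by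
    have e : L = t + (L - t) := by omega
    conv_lhs => rw [e]
    rw [upR_add, Nat.zero_add]
  have h3 : specF act ℓ t t P = upR act ℓ 0 t P := by
    rw [specF_eq_upR act ℓ t t P le_rfl, Nat.sub_self]
  rw [h3]
  have h4 := specB_upR act hinv ℓ t (L - t) (upR act ℓ 0 t P)
  rw [← h2, h1] at h4
  exact h4.symm

end Words

/-! ### The points attached to the raw vertices -/

namespace Cert

variable (C : Cert) {X : Type*} (act : ℕ → X → X) (base : X)

/-- the point of `X` attached to a raw vertex: follow the tree from the base point -/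
noncomputable def pt : ℕ → X
  | v => if h : 0 < v ∧ v < C.m ∧ C.par (C.row v) < v then
      act (C.lab (C.row v)) (pt (C.par (C.row v))) else base
termination_by v => v
decreasing_by exact h.2.2

theorem pt_zero : C.pt act base 0 = base := by
  rw [pt]; simp

theorem pt_child {v : ℕ} (h0 : 0 < v) (hm : v < C.m) (hp : C.par (C.row v) < v) :
    C.pt act base v = act (C.lab (C.row v)) (C.pt act base (C.par (C.row v))) := by
  rw [pt]; simp [h0, hm, hp]

theorem vis_iff {τ ri : ℕ} : C.vis τ ri = true ↔ C.R - ri < τ := by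
  unfold vis; rw [blt_iff]; rfl

/-- the facts usable at time `τ` are true -/
structure Inv (τ : ℕ) : Prop where
  edge : ∀ x < C.m, ∀ s < C.g, C.vis τ (C.eRinv (C.row x) s) = true →
    act s (C.pt act base x) = C.pt act base (C.eTgt (C.row x) s)
  merge : ∀ v < C.m, C.vis τ (C.mRinv (C.row v)) = true →
    C.pt act base v = C.pt act base (C.mP (C.row v))

/-- the vertex `x` (if it is a vertex) carries the point `P` -/
def Tr (x : ℕ) (P : X) : Prop := x < C.m → C.pt act base x = P

theorem chase_succ (τ f y : ℕ) : C.chase τ (f + 1) y =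
    sel (band (Nat.blt y C.m) (C.vis τ (C.mRinv (C.row y)))) (C.chase τ f (C.mP (C.row y))) y := rfl

theorem fwd_succ (τ wid t c x : ℕ) : C.fwd τ wid t (c + 1) x =
    C.fwd τ wid t c (C.step τ x (C.letter wid (t - (c + 1)))) := rfl

theorem bwd_succ (τ wid lo c x : ℕ) : C.bwd τ wid lo (c + 1) x =
    C.bwd τ wid lo c (C.step τ x (C.letter wid (lo + c))) := rfl

variable {C act base}

theorem chase_sound {τ : ℕ} (hI : C.Inv act base τ) : ∀ (f x : ℕ) (P : X),
    C.Tr act base x P → C.Tr act base (C.chase τ f x) P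
  | 0, x, P, h => h
  | f + 1, x, P, h => by
    rw [chase_succ, sel_eq_ite]
    split_ifs with hc
    · rw [band_iff, blt_iff] at hc
      apply chase_sound hI f
      intro _
      rw [← hI.merge x hc.1 hc.2]
      exact h hc.1
    · exact h

theorem step_sound {τ : ℕ} (hI : C.Inv act base τ) (x s : ℕ) (P : X)
    (h : C.Tr act base x P) : C.Tr act base (C.step τ x s) (act s P) := by
  unfold step
  rw [sel_eq_ite]
  split_ifs with hc
  · rw [band_iff, blt_iff, blt_iff] at hc
    rw [sel_eq_ite]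
    split_ifs with hv
    · apply chase_sound hI
      intro _
      rw [← hI.edge x hc.1 s hc.2 hv, h hc.1]
    · intro hlt; exact absurd hlt (lt_irrefl _)
  · intro hlt; exact absurd hlt (lt_irrefl _)

theorem fwd_sound {τ : ℕ} (hI : C.Inv act base τ) (wid t : ℕ) : ∀ (c x : ℕ) (P : X),
    C.Tr act base x P → C.Tr act base (C.fwd τ wid t c x) (specF act (C.letter wid) t c P)
  | 0, x, P, h => h
  | c + 1, x, P, h => by
    rw [fwd_succ]
    exact fwd_sound hI wid t c _ _ (step_sound hI x _ P h)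

theorem bwd_sound {τ : ℕ} (hI : C.Inv act base τ) (wid lo : ℕ) : ∀ (c x : ℕ) (P : X),
    C.Tr act base x P → C.Tr act base (C.bwd τ wid lo c x) (specB act (C.letter wid) lo c P)
  | 0, x, P, h => h
  | c + 1, x, P, h => by
    rw [bwd_succ]
    exact bwd_sound hI wid lo c _ _ (step_sound hI x _ P h)

/-- The hypotheses on the action. -/
structure Valid (C : Cert) (act : ℕ → X → X) (base : X) : Prop where
  hinv : ∀ s P, act s (act s P) = P
  hrel : ∀ wid < C.nsub, ∀ P, specB act (C.letter wid) 0 (C.wLen wid) P = P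
  hsub : ∀ wid, C.nsub ≤ wid → wid < C.nw →
    specB act (C.letter wid) 0 (C.wLen wid) base = base

theorem word_valid (hA : Valid C act base) {wid u : ℕ}
    (h : bor (Nat.blt wid C.nsub) (band (Nat.beq u 0) (Nat.blt wid C.nw)) = true) :
    specB act (C.letter wid) 0 (C.wLen wid) (C.pt act base u) = C.pt act base u := by
  rw [bor_iff, band_iff, blt_iff, blt_iff, beq_iff] at h
  rcases h with h | ⟨rfl, h⟩
  · exact hA.hrel wid h _
  · by_cases h' : wid < C.nsub
    · exact hA.hrel wid h' _
    · rw [pt_zero]; exact hA.hsub wid (by omega) h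

theorem scan_sound (hA : Valid C act base) {τ : ℕ} (hI : C.Inv act base τ) {x s y wid t u : ℕ}
    (hx : x < C.m) (h : C.chkScan x s y τ wid t u = true) :
    act s (C.pt act base x) = C.pt act base y := by
  unfold chkScan at h
  simp only [band_iff] at h
  obtain ⟨hy, ht, hl, hw, hends⟩ := h
  rw [blt_iff] at hy ht
  rw [beq_iff] at hl
  have hval := word_valid hA hw
  have hgap := scan_gap act hA.hinv (C.letter wid) _ _ _ ht hval
  have hf : C.Tr act base (C.chase τ C.fuel (C.fwd τ wid t t u))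
      (specF act (C.letter wid) t t (C.pt act base u)) :=
    chase_sound hI _ _ _ (fwd_sound hI wid t t u _ (fun _ => rfl))
  have hb : C.Tr act base (C.chase τ C.fuel (C.bwd τ wid (t + 1) (C.wLen wid - (t + 1)) u))
      (specB act (C.letter wid) (t + 1) (C.wLen wid - (t + 1)) (C.pt act base u)) :=
    chase_sound hI _ _ _ (bwd_sound hI wid (t + 1) _ u _ (fun _ => rfl))
  rw [endsOK_iff] at hends
  rcases hends with ⟨hxb, hyf⟩ | ⟨hxf, hyb⟩
  · have hx' := hb (lt_of_eq_of_lt hxb.symm hx)
    have hy' := hf (lt_of_eq_of_lt hyf.symm hy)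
    rw [hxb, hyf]
    rw [show C.pt act base (C.chase τ C.fuel (C.bwd τ wid (Nat.succ t)
      (Nat.sub (C.wLen wid) (Nat.succ t)) u)) = _ from hx', hy', ← hgap, hl, hA.hinv]
  · have hx' := hf (lt_of_eq_of_lt hxf.symm hx)
    have hy' := hb (lt_of_eq_of_lt hyb.symm hy)
    rw [hxf, hyb]
    rw [show C.pt act base (C.chase τ C.fuel (C.bwd τ wid (Nat.succ t)
      (Nat.sub (C.wLen wid) (Nat.succ t)) u)) = _ from hy', hx', ← hgap, hl]

theorem mscan_sound (hA : Valid C act base) {τ : ℕ} (hI : C.Inv act base τ) {v p wid t u : ℕ}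
    (hv : v < C.m) (h : C.chkMScan v p τ wid t u = true) :
    C.pt act base v = C.pt act base p := by
  unfold chkMScan at h
  simp only [band_iff] at h
  obtain ⟨hpv, ht, hw, hends⟩ := h
  rw [blt_iff] at hpv
  rw [ble_iff] at ht
  have hp : p < C.m := lt_trans hpv hv
  have hval := word_valid hA hw
  have hng := scan_nogap act hA.hinv (C.letter wid) _ _ _ ht hval
  have hf : C.Tr act base (C.chase τ C.fuel (C.fwd τ wid t t u))
      (specF act (C.letter wid) t t (C.pt act base u)) :=
    chase_sound hI _ _ _ (fwd_sound hI wid t t u _ (fun _ => rfl))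
  have hb : C.Tr act base (C.chase τ C.fuel (C.bwd τ wid t (C.wLen wid - t) u))
      (specB act (C.letter wid) t (C.wLen wid - t) (C.pt act base u)) :=
    chase_sound hI _ _ _ (bwd_sound hI wid t _ u _ (fun _ => rfl))
  rw [endsOK_iff] at hends
  rcases hends with ⟨hxb, hyf⟩ | ⟨hxf, hyb⟩
  · have hx' := hb (lt_of_eq_of_lt hxb.symm hv)
    have hy' := hf (lt_of_eq_of_lt hyf.symm hp)
    rw [hxb, hyf]
    rw [show C.pt act base (C.chase τ C.fuel (C.bwd τ wid t (Nat.sub (C.wLen wid) t) u)) = _
      from hx', hy', hng]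
  · have hx' := hf (lt_of_eq_of_lt hxf.symm hv)
    have hy' := hb (lt_of_eq_of_lt hyb.symm hp)
    rw [hxf, hyb]
    rw [show C.pt act base (C.chase τ C.fuel (C.bwd τ wid t (Nat.sub (C.wLen wid) t) u)) = _
      from hy', hx', hng]

theorem inv_succ (hA : Valid C act base) (hV : ∀ v < C.m, C.chkV v = true) {τ : ℕ}
    (hτ : τ < C.R) (hI : C.Inv act base τ) : C.Inv act base (τ + 1) := by
  constructor
  · intro x hx s hs hv
    rw [vis_iff] at hv
    rcases Nat.lt_succ_iff_lt_or_eq.mp hv with h | h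
    · exact hI.edge x hx s hs (C.vis_iff.mpr h)
    · have hri : C.eRinv (C.row x) s ≠ 0 := by
        intro h0; rw [h0] at h; omega
      have hchk := hV x hx
      unfold chkV at hchk
      rw [band_iff, allB_iff] at hchk
      have hE := hchk.2 s hs
      unfold chkE at hE
      have h' : Nat.sub C.R (C.eRinv (C.row x) s) = τ := h
      rw [sel_eq_ite, if_neg (by rw [beq_iff]; exact hri), kindSel_iff, h'] at hE
      rcases hE with ⟨-, hE⟩ | ⟨-, hE⟩ | ⟨-, hE⟩
      · -- tree edge downwards
        unfold chkDown at hE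
        simp only [band_iff, blt_iff, beq_iff] at hE
        obtain ⟨h0, hm, hp, hl, hlt⟩ := hE
        rw [C.pt_child act base h0 hm (by rw [hp]; exact hlt), hp, hl]
      · -- tree edge upwards
        unfold chkUp at hE
        simp only [band_iff, blt_iff, beq_iff] at hE
        obtain ⟨h0, hp, hl, hlt⟩ := hE
        rw [C.pt_child act base h0 hx (by rw [hp]; exact hlt), hp, hl, hA.hinv]
      · exact scan_sound hA hI hx hE
  · intro v hv hvis
    rw [vis_iff] at hvis
    rcases Nat.lt_succ_iff_lt_or_eq.mp hvis with h | h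
    · exact hI.merge v hv (C.vis_iff.mpr h)
    · have hri : C.mRinv (C.row v) ≠ 0 := by
        intro h0; rw [h0] at h; omega
      have hchk := hV v hv
      unfold chkV at hchk
      rw [band_iff] at hchk
      have hM := hchk.1
      unfold chkM at hM
      have h' : Nat.sub C.R (C.mRinv (C.row v)) = τ := h
      rw [sel_eq_ite, if_neg (by rw [beq_iff]; exact hri), h'] at hM
      exact mscan_sound hA hI hv hM

theorem inv_all (hA : Valid C act base) (hV : ∀ v < C.m, C.chkV v = true) :
    ∀ τ, τ ≤ C.R → C.Inv act base τ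
  | 0, _ => ⟨fun _ _ _ _ hv => absurd (C.vis_iff.mp hv) (Nat.not_lt_zero _),
      fun _ _ hv => absurd (C.vis_iff.mp hv) (Nat.not_lt_zero _)⟩
  | τ + 1, h => inv_succ hA hV (by omega) (inv_all hA hV τ (by omega))

/-- soundness of the final table -/
theorem fin_sound (hA : Valid C act base) (hV : ∀ v < C.m, C.chkV v = true) {c : ℕ}
    (hF : C.chkFin c = true) (s : ℕ) (hs : s < C.g) :
    act s (C.pt act base (C.can c)) = C.pt act base (C.can (C.tn c s)) := by
  unfold chkFin at hF
  rw [allB_iff] at hF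
  have h := hF s hs
  change band (Nat.blt (C.step C.R (C.can c) s) C.m)
    (Nat.beq (C.step C.R (C.can c) s) (C.can (C.tn c s))) = true at h
  rw [band_iff, blt_iff, beq_iff] at h
  obtain ⟨h1, h2⟩ := h
  have hI := inv_all hA hV C.R le_rfl
  have h3 := step_sound hI (C.can c) s (C.pt act base (C.can c)) (fun _ => rfl) h1
  rw [h2] at h3
  exact h3.symm

/-- the hypotheses on the action, with the squares of the generators taken care of -/
theorem valid_of (hinv : ∀ s P, act s (act s P) = P)
    (hrel : ∀ wid < C.nrel, ∀ P, specB act (C.letter wid) 0 (C.wLen wid) P = P)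
    (hsub : ∀ wid, C.nsub ≤ wid → wid < C.nw →
      specB act (C.letter wid) 0 (C.wLen wid) base = base)
    (hSq : C.chkSq = true) : Valid C act base := by
  refine ⟨hinv, ?_, hsub⟩
  intro wid hwid P
  by_cases h : wid < C.nrel
  · exact hrel wid h P
  · unfold chkSq at hSq
    rw [band_iff, beq_iff, allB_iff] at hSq
    obtain ⟨h1, h2⟩ := hSq
    have h1' : C.nrel + C.g = C.nsub := h1
    have h3 := h2 (wid - C.nrel) (by omega)
    have e : Nat.add C.nrel (wid - C.nrel) = wid := by show C.nrel + (wid - C.nrel) = wid; omega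
    rw [e] at h3
    simp only [band_iff, beq_iff] at h3
    obtain ⟨hL, hl0, hl1⟩ := h3
    rw [hL]
    show act (C.letter wid (0 + 0)) (act (C.letter wid (0 + 1)) P) = P
    rw [Nat.zero_add, Nat.zero_add, hl0, hl1, hinv]

end Cert

end Cfsg.Agent.Lib.Helper38
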