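import Cfsg.Agent.Lib.Helper38.CosetCover

/-!
Classes of 3-transpositions from a verified coset enumeration: words given as lists, double
cosets, the class of an involution whose centraliser is a maximal subgroup, and the transport of
non-split double covers along isomorphisms.
-/

namespace Cfsg.Agent.Lib.Helper38

/-! ### Words given as lists -/

/-- the image of the point `c` under the word `w` in the final table (the value `C.n` means
failure) -/
noncomputable def Cert.pw (C : Cert) (w : List ℕ) (c : ℕ) : ℕ :=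
  w.foldr (fun s x => strict x (fun y => C.pstep y s)) c

section

variable {C : Cert} {G : Type*} [Group G] {γ : ℕ → G} {H : Subgroup G}

theorem Cert.phi_list (hC : Cert.Checks C) (φ : G →* Equiv.Perm ℕ)
    (hφ : ∀ s < C.g, φ (γ s) = C.σ s) : ∀ (w : List ℕ) (c : ℕ), C.pw w c < C.n →
      φ ((w.map γ).prod) c = C.pw w c
  | [], c, _ => by
    show φ (([] : List ℕ).map γ).prod c = c
    rw [List.map_nil, List.prod_nil, map_one, Equiv.Perm.one_apply]
  | s :: w, c, h => by
    have e : C.pw (s :: w) c = C.pstep (C.pw w c) s := rfl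
    rw [e] at h ⊢
    unfold Cert.pstep at h ⊢
    rw [sel_eq_ite] at h ⊢
    by_cases hc : band (Nat.blt (C.pw w c) C.n) (Nat.blt s C.g) = true
    · rw [if_pos hc]
      rw [band_iff, blt_iff, blt_iff] at hc
      rw [List.map_cons, List.prod_cons, map_mul, Equiv.Perm.mul_apply,
        Cert.phi_list hC φ hφ w c hc.1, hφ s hc.2, (C.σ_of_lt (Cert.hInv_of hC) hc.2 hc.1).1]
    · rw [if_neg hc] at h
      exact absurd h (lt_irrefl _)

/-- a word given as a list which fixes the points of a base is trivial -/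
theorem list_one_of_base (hC : Cert.Checks C) (φ : G →* Equiv.Perm ℕ)
    (hφ : ∀ s < C.g, φ (γ s) = C.σ s) (base : List ℕ)
    (hbase : ∀ g : G, (∀ p ∈ base, φ g p = p) → g = 1) (w : List ℕ)
    (h : base.all (fun p => band (Nat.blt p C.n) (Nat.beq (C.pw w p) p)) = true) :
    (w.map γ).prod = 1 := by
  apply hbase
  intro p hp
  have h4 := List.all_eq_true.mp h p hp
  rw [band_iff, blt_iff, beq_iff] at h4
  rw [Cert.phi_list hC φ hφ w p (by rw [h4.2]; exact h4.1), h4.2]

/-- every element lies in a double coset of a representative of a component -/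
theorem Cert.double_coset (hP : Cert.Pres C γ H) (hC : Cert.Checks C) (hO : Cert.OChecks C)
    (φ : G →* Equiv.Perm ℕ) (hφ : ∀ s < C.g, φ (γ s) = C.σ s) (r : ℕ → G)
    (hr : ∀ k < C.ncomp, φ (r k) 0 = C.root k) :
    ∀ x : G, ∃ k < C.ncomp, ∃ h ∈ H, ∃ h' ∈ H, x = h * r k * h' := by
  intro x
  have hH0 := Cert.phi_fix hP hC φ hφ
  have hn : 0 < C.n := (C.chkG_spec hC.hG).2.2.1
  have e1 := Cert.F_equiv hP hC φ hφ hH0 x hn
  have hk := (Cert.chkO_spec hO e1.2).2.1
  have o := Cert.mem_orbit_root hP hC hO φ hφ hH0 _ (φ x 0) e1.2 (Nat.lt_succ_self _)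
  obtain ⟨h, hh⟩ := o
  have e2 := Cert.F_equiv hP hC φ hφ hH0 (r (C.comp (φ x 0))) hn
  rw [hr _ hk] at e2
  have e3 : ((h : G) * r (C.comp (φ x 0))) • C.F γ H 0 = x • C.F γ H 0 := by
    rw [mul_smul, e2.1, e1.1]
    exact hh
  rw [Cert.F_zero hC, MulAction.Quotient.smul_mk, MulAction.Quotient.smul_mk, smul_eq_mul,
    smul_eq_mul, mul_one, mul_one, QuotientGroup.eq] at e3
  exact ⟨C.comp (φ x 0), hk, h, h.2, _, e3, by group⟩

end

/-! ### The class of an involution -/

section

variable {G : Type*} [Group G] {γ : ℕ → G}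

/-- the element given by the word `u ++ s0 :: u.reverse` -/
theorem zword_eq (hγ : ∀ s, γ s * γ s = 1) (u : List ℕ) (s0 : ℕ) :
    ((u ++ s0 :: u.reverse).map γ).prod = (u.map γ).prod * γ s0 * ((u.map γ).prod)⁻¹ := by
  rw [List.map_append, List.prod_append, List.map_cons, List.prod_cons, prod_reverse_inv hγ,
    mul_assoc]

theorem zword_sq (hγ : ∀ s, γ s * γ s = 1) (u : List ℕ) (s0 : ℕ) :
    ((u ++ s0 :: u.reverse).map γ).prod * ((u ++ s0 :: u.reverse).map γ).prod = 1 := by
  rw [zword_eq hγ]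
  calc (u.map γ).prod * γ s0 * ((u.map γ).prod)⁻¹ * ((u.map γ).prod * γ s0 * ((u.map γ).prod)⁻¹)
      = (u.map γ).prod * (γ s0 * γ s0) * ((u.map γ).prod)⁻¹ := by group
    _ = 1 := by rw [hγ, mul_one, mul_inv_cancel]

theorem zword_ne (hγ : ∀ s, γ s * γ s = 1) (u : List ℕ) (s0 : ℕ) (h : γ s0 ≠ 1) :
    ((u ++ s0 :: u.reverse).map γ).prod ≠ 1 := by
  rw [zword_eq hγ]
  intro e
  apply h
  calc γ s0 = ((u.map γ).prod)⁻¹ * ((u.map γ).prod * γ s0 * ((u.map γ).prod)⁻¹) * (u.map γ).prod := by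
        group
    _ = 1 := by rw [e, mul_one, inv_mul_cancel]

theorem zword_conj (hγ : ∀ s, γ s * γ s = 1) (u : List ℕ) (s0 : ℕ) (g : ℕ)
    (hconj : ∀ s < g, ∃ x : G, γ s = x * γ s0 * x⁻¹) :
    ∀ s < g, ∃ x : G, γ s = x * ((u ++ s0 :: u.reverse).map γ).prod * x⁻¹ := by
  intro s hs
  obtain ⟨x, hx⟩ := hconj s hs
  refine ⟨x * ((u.map γ).prod)⁻¹, ?_⟩
  rw [zword_eq hγ, hx]
  group

/-- the square of the product of the involution `ζ` and its conjugate by `w`, as a word -/
theorem transp_pair2 (hγ : ∀ s, γ s * γ s = 1) (ζ w : List ℕ)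
    (h : (((ζ ++ (w ++ (ζ ++ w.reverse))) ++ (ζ ++ (w ++ (ζ ++ w.reverse)))).map γ).prod = 1) :
    ((ζ.map γ).prod * ((w.map γ).prod * (ζ.map γ).prod * ((w.map γ).prod)⁻¹)) ^ 2 = 1 := by
  rw [← h]
  simp only [List.map_append, List.prod_append, prod_reverse_inv hγ, pow_two, mul_assoc]

/-- the cube of the product of the involution `ζ` and its conjugate by `w`, as a word -/
theorem transp_pair3 (hγ : ∀ s, γ s * γ s = 1) (ζ w : List ℕ)
    (h : (((ζ ++ (w ++ (ζ ++ w.reverse))) ++ ((ζ ++ (w ++ (ζ ++ w.reverse))) ++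
      (ζ ++ (w ++ (ζ ++ w.reverse))))).map γ).prod = 1) :
    ((ζ.map γ).prod * ((w.map γ).prod * (ζ.map γ).prod * ((w.map γ).prod)⁻¹)) ^ 3 = 1 := by
  rw [← h]
  simp only [List.map_append, List.prod_append, prod_reverse_inv hγ, pow_succ, pow_zero, one_mul,
    mul_assoc]

/-- **A class of 3-transpositions.** The conjugacy class of an involution `z` whose centraliser
contains a maximal subgroup `H`, in a group with trivial centre generated by conjugates of `z`,
such that the products of `z` with its conjugates by double coset representatives of `H` have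
order at most 3. -/
theorem transp_class (γ : ℕ → G) (g : ℕ)
    (hgen : Subgroup.closure (γ '' {s | s < g}) = ⊤)
    (z : G) (hz2 : z * z = 1) (hz1 : z ≠ 1)
    (hconj : ∀ s < g, ∃ x : G, γ s = x * z * x⁻¹)
    (H : Subgroup G) (hHz : ∀ h ∈ H, h * z = z * h)
    (hmax : ∀ M : Subgroup G, H ≤ M → M = H ∨ M = ⊤)
    (hcen : ∀ c : G, (∀ x, c * x = x * c) → c = 1)
    (r : ℕ → G) (m : ℕ) (hdc : ∀ x : G, ∃ k < m, ∃ h ∈ H, ∃ h' ∈ H, x = h * r k * h')
    (ht : ∀ k < m, (z * (r k * z * (r k)⁻¹)) ^ 2 = 1 ∨ (z * (r k * z * (r k)⁻¹)) ^ 3 = 1) :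
    Subgroup.centralizer ({z} : Set G) = H ∧ Cfsg.IsThreeTranspositionClass (conjugatesOf z) ∧
      Nat.card (conjugatesOf z) = H.index := by
  have hzinv : z⁻¹ = z := inv_eq_of_mul_eq_one_left hz2
  -- the centraliser
  have hcent : Subgroup.centralizer ({z} : Set G) = H := by
    have hle : H ≤ Subgroup.centralizer ({z} : Set G) := by
      intro h hh
      rw [Subgroup.mem_centralizer_iff]
      intro y hy
      rw [Set.mem_singleton_iff] at hy
      rw [hy]
      exact (hHz h hh).symm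
    rcases hmax _ hle with h | h
    · exact h
    · exfalso
      apply hz1
      apply hcen
      intro x
      have hx : x ∈ Subgroup.centralizer ({z} : Set G) := by rw [h]; exact Subgroup.mem_top x
      exact Subgroup.mem_centralizer_iff.mp hx z rfl
  have hmemH : ∀ x : G, x * z = z * x → x ∈ H := by
    intro x hx
    rw [← hcent, Subgroup.mem_centralizer_iff]
    intro y hy
    rw [Set.mem_singleton_iff] at hy
    rw [hy]
    exact hx.symm
  have hmemD : ∀ d : G, d ∈ conjugatesOf z ↔ ∃ x : G, x * z * x⁻¹ = d := by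
    intro d
    show IsConj z d ↔ _
    rw [isConj_iff]
  -- products of two conjugates
  have hP : ∀ x : G, (z * (x * z * x⁻¹)) ^ 2 = 1 ∨ (z * (x * z * x⁻¹)) ^ 3 = 1 := by
    intro x
    obtain ⟨k, hk, h, hh, h', hh', rfl⟩ := hdc x
    have e1 : h * r k * h' * z * (h * r k * h')⁻¹ = h * (r k * z * (r k)⁻¹) * h⁻¹ := by
      calc h * r k * h' * z * (h * r k * h')⁻¹ = h * r k * (h' * z) * h'⁻¹ * (r k)⁻¹ * h⁻¹ := by
            group
        _ = h * r k * (z * h') * h'⁻¹ * (r k)⁻¹ * h⁻¹ := by rw [hHz h' hh']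
        _ = h * (r k * z * (r k)⁻¹) * h⁻¹ := by group
    have e2 : z * (h * (r k * z * (r k)⁻¹) * h⁻¹) = h * (z * (r k * z * (r k)⁻¹)) * h⁻¹ := by
      calc z * (h * (r k * z * (r k)⁻¹) * h⁻¹) = (z * h) * (r k * z * (r k)⁻¹) * h⁻¹ := by group
        _ = (h * z) * (r k * z * (r k)⁻¹) * h⁻¹ := by rw [hHz h hh]
        _ = h * (z * (r k * z * (r k)⁻¹)) * h⁻¹ := by group
    rw [e1, e2, conj_pow, conj_pow]
    rcases ht k hk with h2 | h3
    · left; rw [h2, mul_one, mul_inv_cancel]
    · right; rw [h3, mul_one, mul_inv_cancel]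
  refine ⟨hcent, ⟨⟨?_, ?_⟩, ⟨z, mem_conjugatesOf_self, rfl⟩, ?_⟩, ?_⟩
  · -- elements of order 2
    intro d hd
    obtain ⟨x, rfl⟩ := (hmemD d).mp hd
    have : Fact (Nat.Prime 2) := ⟨Nat.prime_two⟩
    apply orderOf_eq_prime
    · rw [conj_pow, pow_two, hz2, mul_one, mul_inv_cancel]
    · intro e
      apply hz1
      calc z = x⁻¹ * (x * z * x⁻¹) * x := by group
        _ = 1 := by rw [e, mul_one, inv_mul_cancel]
  · -- products
    intro d hd e he
    obtain ⟨x, rfl⟩ := (hmemD d).mp hd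
    obtain ⟨y, rfl⟩ := (hmemD e).mp he
    have e1 : x * z * x⁻¹ * (y * z * y⁻¹) = x * (z * ((x⁻¹ * y) * z * (x⁻¹ * y)⁻¹)) * x⁻¹ := by
      group
    rw [e1, conj_pow, conj_pow]
    rcases hP (x⁻¹ * y) with h2 | h3
    · left; rw [h2, mul_one, mul_inv_cancel]
    · right; rw [h3, mul_one, mul_inv_cancel]
  · -- generation
    rw [eq_top_iff, ← hgen]
    apply Subgroup.closure_mono
    rintro _ ⟨s, hs, rfl⟩
    obtain ⟨x, hx⟩ := hconj s hs
    exact (hmemD _).mpr ⟨x, hx.symm⟩
  · -- the number of conjugates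
    have hwd : ∀ a b : G, QuotientGroup.leftRel H a b → a * z * a⁻¹ = b * z * b⁻¹ := by
      intro a b hab
      rw [QuotientGroup.leftRel_apply] at hab
      have h1 := hHz _ hab
      calc a * z * a⁻¹ = a * (z * (a⁻¹ * b)) * b⁻¹ := by group
        _ = a * ((a⁻¹ * b) * z) * b⁻¹ := by rw [h1]
        _ = b * z * b⁻¹ := by group
    have hinj : Function.Injective
        (fun q : G ⧸ H => Quotient.liftOn' q (fun a => a * z * a⁻¹) hwd) := by
      intro q1 q2
      refine Quotient.inductionOn₂' q1 q2 (fun a b hab => ?_)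
      have hab' : a * z * a⁻¹ = b * z * b⁻¹ := hab
      apply Quotient.sound'
      rw [QuotientGroup.leftRel_apply]
      apply hmemH
      calc a⁻¹ * b * z = a⁻¹ * (b * z * b⁻¹) * b := by group
        _ = a⁻¹ * (a * z * a⁻¹) * b := by rw [hab']
        _ = z * (a⁻¹ * b) := by group
    have hrange : conjugatesOf z =
        Set.range (fun q : G ⧸ H => Quotient.liftOn' q (fun a => a * z * a⁻¹) hwd) := by
      ext d
      rw [hmemD]
      constructor
      · rintro ⟨x, rfl⟩
        exact ⟨QuotientGroup.mk x, rfl⟩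
      · rintro ⟨q, rfl⟩
        refine Quotient.inductionOn' q (fun a => ?_)
        exact ⟨a, rfl⟩
    rw [hrange, Nat.card_range_of_injective hinj, Subgroup.index_eq_card]

end

/-! ### Transport along isomorphisms -/

/-- the centraliser of a conjugate -/
theorem centralizer_conj_equiv {G : Type*} [Group G] (x z : G) :
    Nonempty (↥(Subgroup.centralizer ({z} : Set G)) ≃*
      ↥(Subgroup.centralizer ({x * z * x⁻¹} : Set G))) := by
  refine ⟨{
    toFun := fun c => ⟨x * c * x⁻¹, ?_⟩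
    invFun := fun c => ⟨x⁻¹ * c * x, ?_⟩
    left_inv := fun c => Subtype.ext ?_
    right_inv := fun c => Subtype.ext ?_
    map_mul' := fun a b => Subtype.ext ?_ }⟩
  · rw [Subgroup.mem_centralizer_iff]
    intro y hy
    rw [Set.mem_singleton_iff] at hy
    rw [hy]
    have h1 := Subgroup.mem_centralizer_iff.mp c.2 z rfl
    calc x * z * x⁻¹ * (x * (c : G) * x⁻¹) = x * (z * (c : G)) * x⁻¹ := by group
      _ = x * ((c : G) * z) * x⁻¹ := by rw [h1]
      _ = x * (c : G) * x⁻¹ * (x * z * x⁻¹) := by group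
  · rw [Subgroup.mem_centralizer_iff]
    intro y hy
    rw [Set.mem_singleton_iff] at hy
    rw [hy]
    have h1 := Subgroup.mem_centralizer_iff.mp c.2 (x * z * x⁻¹) rfl
    calc z * (x⁻¹ * (c : G) * x) = x⁻¹ * ((x * z * x⁻¹) * (c : G)) * x := by group
      _ = x⁻¹ * ((c : G) * (x * z * x⁻¹)) * x := by rw [h1]
      _ = x⁻¹ * (c : G) * x * z := by group
  · show x⁻¹ * (x * (c : G) * x⁻¹) * x = c
    group
  · show x * (x⁻¹ * (c : G) * x) * x⁻¹ = c
    group
  · show x * ((a : G) * (b : G)) * x⁻¹ = x * (a : G) * x⁻¹ * (x * (b : G) * x⁻¹)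
    group

/-- non-split double covers are preserved by isomorphisms -/
theorem nonsplit_of_equiv {H₁ H₂ K : Type*} [Group H₁] [Group H₂] [Group K] [Finite H₁]
    (e : H₁ ≃* H₂) (h : Cfsg.IsNonsplitDoubleCover H₁ K) : Cfsg.IsNonsplitDoubleCover H₂ K := by
  obtain ⟨hZ, ⟨q⟩, hns⟩ := h
  have hmap : (Subgroup.center H₁).map (e : H₁ →* H₂) = Subgroup.center H₂ := by
    ext y
    constructor
    · rintro ⟨x, hx, rfl⟩
      have hx' : x ∈ Subgroup.center H₁ := hx
      rw [Subgroup.mem_center_iff] at hx' ⊢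
      intro g
      obtain ⟨g', rfl⟩ := e.surjective g
      show e g' * e x = e x * e g'
      rw [← map_mul, ← map_mul, hx' g']
    · intro hy
      refine ⟨e.symm y, ?_, e.apply_symm_apply y⟩
      show e.symm y ∈ Subgroup.center H₁
      rw [Subgroup.mem_center_iff] at hy ⊢
      intro g
      apply e.injective
      rw [map_mul, map_mul, e.apply_symm_apply]
      exact hy (e g)
  have c1 : Nat.card (Subgroup.center H₂) = Nat.card (Subgroup.center H₁) :=
    (Nat.card_congr (Subgroup.centerCongr e).toEquiv).symm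
  refine ⟨by rw [c1, hZ],
    ⟨(QuotientGroup.congr (Subgroup.center H₁) (Subgroup.center H₂) e hmap).symm.trans q⟩, ?_⟩
  intro L hL
  apply hns (L.map (e.symm : H₂ →* H₁))
  have : Finite H₂ := Finite.of_equiv H₁ e.toEquiv
  rw [Subgroup.isComplement'_iff_card_mul_and_disjoint] at hL ⊢
  obtain ⟨h1, h2⟩ := hL
  constructor
  · have c2 : Nat.card (L.map (e.symm : H₂ →* H₁)) = Nat.card L :=
      Subgroup.card_map_of_injective e.symm.injective
    have c3 : Nat.card H₁ = Nat.card H₂ := Nat.card_congr e.toEquiv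
    rw [← c1, c2, c3]
    exact h1
  · rw [Subgroup.disjoint_def] at h2 ⊢
    intro x hx hxL
    obtain ⟨y, hy, rfl⟩ := hxL
    have hy2 : y ∈ Subgroup.center H₂ := by
      rw [← hmap]
      exact ⟨e.symm y, hx, e.apply_symm_apply y⟩
    have hy1 : y = 1 := h2 hy2 hy
    rw [hy1]
    exact map_one _

end Cfsg.Agent.Lib.Helper38
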