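import Cfsg.Agent.Lib.Helper38.CosetPres

/-!
Groups presented by involutions and relator words, and upper bounds for the order of a group along
a chain of coset enumerations.
-/

namespace Cfsg.Agent.Lib.Helper38

/-- relators: the words, the squares of all generators, and the generators `s ≥ g` -/
def wrels (g : ℕ) (words : List (List ℕ)) : Set (FreeGroup ℕ) :=
  {r | (∃ w ∈ words, r = (w.map FreeGroup.of).prod) ∨ (∃ s, r = FreeGroup.of s * FreeGroup.of s) ∨
    (∃ s, g ≤ s ∧ r = FreeGroup.of s)}

/-- the group presented by the involutions `0, …, g - 1` subject to the relator words -/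
abbrev WP (g : ℕ) (words : List (List ℕ)) : Type := PresentedGroup (wrels g words)

namespace WP

variable (g : ℕ) (words : List (List ℕ))

/-- the generators -/
def gen (s : ℕ) : WP g words := PresentedGroup.of s

theorem gen_mul_self (s : ℕ) : gen g words s * gen g words s = 1 := by
  have h : PresentedGroup.mk (wrels g words) (FreeGroup.of s * FreeGroup.of s) = 1 :=
    PresentedGroup.one_of_mem (Or.inr (Or.inl ⟨s, rfl⟩))
  rw [map_mul] at h
  exact h

theorem gen_of_ge {s : ℕ} (h : g ≤ s) : gen g words s = 1 :=
  PresentedGroup.one_of_mem (Or.inr (Or.inr ⟨s, h, rfl⟩))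

theorem gen_word {w : List ℕ} (hw : w ∈ words) : (w.map (gen g words)).prod = 1 := by
  have h : PresentedGroup.mk (wrels g words) ((w.map FreeGroup.of).prod) = 1 :=
    PresentedGroup.one_of_mem (Or.inl ⟨w, hw, rfl⟩)
  rw [map_list_prod, List.map_map] at h
  exact h

theorem closure_gen : Subgroup.closure (gen g words '' {s | s < g}) = ⊤ := by
  rw [eq_top_iff, ← PresentedGroup.closure_range_of (wrels g words), Subgroup.closure_le]
  rintro _ ⟨s, rfl⟩
  by_cases h : s < g
  · exact Subgroup.subset_closure ⟨s, h, rfl⟩
  · have e : (PresentedGroup.of s : WP g words) = 1 := gen_of_ge g words (not_lt.mp h)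
    rw [SetLike.mem_coe, e]
    exact one_mem _

/-- homomorphisms out of `WP` -/
noncomputable def lift {K : Type*} [Group K] (f : ℕ → K) (h2 : ∀ s, f s * f s = 1)
    (hge : ∀ s, g ≤ s → f s = 1) (hw : ∀ w ∈ words, (w.map f).prod = 1) : WP g words →* K :=
  PresentedGroup.toGroup (f := f) (by
    rintro r (⟨w, hwm, rfl⟩ | ⟨s, rfl⟩ | ⟨s, hs, rfl⟩)
    · rw [map_list_prod, List.map_map]
      have e : (⇑(FreeGroup.lift f) ∘ FreeGroup.of) = f := by funext x; simp
      rw [e]
      exact hw w hwm
    · rw [map_mul, FreeGroup.lift_apply_of]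
      exact h2 s
    · rw [FreeGroup.lift_apply_of]
      exact hge s hs)

theorem lift_gen {K : Type*} [Group K] (f : ℕ → K) (h2 : ∀ s, f s * f s = 1)
    (hge : ∀ s, g ≤ s → f s = 1) (hw : ∀ w ∈ words, (w.map f).prod = 1) (s : ℕ) :
    lift g words f h2 hge hw (gen g words s) = f s :=
  PresentedGroup.toGroup.of _

end WP

theorem Cert.σ_of_ge_g (C : Cert) {s : ℕ} (h : C.g ≤ s) : C.σ s = 1 := by
  ext c
  show C.sfun s c = c
  unfold Cert.sfun
  rw [if_neg]
  intro h'
  exact absurd h'.1 (not_lt.mpr h)

/-- the subgroup generated by the subgroup words of the certificate -/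
def Cert.subgp (C : Cert) {G : Type*} [Group G] (γ : ℕ → G) : Subgroup G :=
  Subgroup.closure {x | ∃ wid, C.nsub ≤ wid ∧ wid < C.nw ∧ ((C.wordL wid).map γ).prod = x}

/-- the hypotheses `Cert.Pres` for a group presented by words -/
theorem WP.pres (C : Cert) (words : List (List ℕ))
    (hwords : (List.range C.nrel).map C.wordL = words) (hN : ∀ c < C.n, C.chkN c = true) :
    Cert.Pres C (WP.gen C.g words) (C.subgp (WP.gen C.g words)) where
  hγ := WP.gen_mul_self C.g words
  hgen := WP.closure_gen C.g words
  hrel := fun wid hwid => WP.gen_word C.g words (by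
    rw [← hwords]; exact List.mem_map.mpr ⟨wid, List.mem_range.mpr hwid, rfl⟩)
  hH := rfl
  hφ := ⟨WP.lift C.g words C.σ C.σ_mul_self (fun s hs => C.σ_of_ge_g hs) (fun w hw => by
      rw [← hwords] at hw
      obtain ⟨wid, hwid, rfl⟩ := List.mem_map.mp hw
      exact C.σ_rel hN wid (List.mem_range.mp hwid)),
    fun s _ => WP.lift_gen _ _ _ _ _ _ s⟩

/-- acceptable relator word of a smaller presentation: a dead generator, or a relator of the
bigger group all of whose letters are active -/
def okw (words : List (List ℕ)) (act : ℕ → Bool) (w : List ℕ) : Bool :=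
  (match w with
    | [s] => !(act s)
    | _ => false) || (decide (w ∈ words) && w.all act)

/-- one step of the upper bound: the subgroup of the certificate is a quotient of the smaller
presented group -/
theorem ub_step {G : Type*} [Group G] {C : Cert} {γ : ℕ → G} {H : Subgroup G}
    (hP : Cert.Pres C γ H) (hC : Cert.Checks C)
    (words : List (List ℕ)) (hrelw : ∀ w ∈ words, (w.map γ).prod = 1)
    (g' : ℕ) (words' : List (List ℕ)) (act : ℕ → Bool)
    (hact : ∀ s, g' ≤ s → act s = false)
    (hw' : ∀ w ∈ words', okw words act w = true)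
    (hsub : ∀ wid, C.nsub ≤ wid → wid < C.nw → (C.wordL wid).all act = true)
    [Finite (WP g' words')] :
    Finite G ∧ Nat.card G ≤ C.n * Nat.card (WP g' words') := by
  classical
  let f : ℕ → G := fun s => if act s = true then γ s else 1
  have hf2 : ∀ s, f s * f s = 1 := by
    intro s
    show (if act s = true then γ s else 1) * (if act s = true then γ s else 1) = 1
    split_ifs
    · exact hP.hγ s
    · exact one_mul 1
  have hfge : ∀ s, g' ≤ s → f s = 1 := by
    intro s hs
    show (if act s = true then γ s else 1) = 1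
    rw [if_neg (by rw [hact s hs]; exact Bool.false_ne_true)]
  have hfact : ∀ w : List ℕ, w.all act = true → w.map f = w.map γ := by
    intro w hw
    apply List.map_congr_left
    intro s hs
    show (if act s = true then γ s else 1) = γ s
    rw [if_pos (List.all_eq_true.mp hw s hs)]
  have hfw : ∀ w ∈ words', (w.map f).prod = 1 := by
    intro w hw
    have h := hw' w hw
    unfold okw at h
    rw [Bool.or_eq_true] at h
    rcases h with h | h
    · match w, h with
      | [s], h =>
        have hs : act s = false := by simpa using h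
        show (if act s = true then γ s else 1) * 1 = 1
        rw [if_neg (by rw [hs]; exact Bool.false_ne_true), one_mul]
    · rw [Bool.and_eq_true, decide_eq_true_eq] at h
      rw [hfact w h.2]
      exact hrelw w h.1
  let ψ : WP g' words' →* G := WP.lift g' words' f hf2 hfge hfw
  have hle : H ≤ ψ.range := by
    rw [hP.hH, Subgroup.closure_le]
    rintro _ ⟨wid, h1, h2, rfl⟩
    refine ⟨((C.wordL wid).map (WP.gen g' words')).prod, ?_⟩
    rw [map_list_prod, List.map_map]
    have e : (⇑ψ ∘ WP.gen g' words') = f := by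
      funext s
      exact WP.lift_gen g' words' f hf2 hfge hfw s
    rw [e, hfact _ (hsub wid h1 h2)]
  have : Finite ψ.range := Finite.of_surjective ψ.rangeRestrict ψ.rangeRestrict_surjective
  have : Finite H := Finite.of_injective (Subgroup.inclusion hle) (Subgroup.inclusion_injective hle)
  have h1 : Nat.card H ≤ Nat.card (WP g' words') :=
    (Subgroup.card_le_of_le hle).trans
      (Nat.card_le_card_of_surjective ψ.rangeRestrict ψ.rangeRestrict_surjective)
  have h2 : C.n * Nat.card H = Nat.card G := by
    rw [← Cert.index_eq hP hC]; exact Subgroup.index_mul_card H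
  have hn : 0 < C.n := (C.chkG_spec hC.hG).2.2.1
  have hH0 : Nat.card H ≠ 0 := Nat.card_pos.ne'
  refine ⟨Nat.finite_of_card_ne_zero (by rw [← h2]; exact Nat.mul_ne_zero hn.ne' hH0), ?_⟩
  rw [← h2]
  exact Nat.mul_le_mul_left _ h1

/-- the bottom of the chain: an enumeration over the trivial subgroup -/
theorem ub_bot {G : Type*} [Group G] {C : Cert} {γ : ℕ → G} {H : Subgroup G}
    (hP : Cert.Pres C γ H) (hC : Cert.Checks C) (hno : C.nw ≤ C.nsub) :
    Finite G ∧ Nat.card G = C.n := by
  have hH : H = ⊥ := by
    rw [hP.hH, Subgroup.closure_eq_bot_iff]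
    rintro _ ⟨wid, h1, h2, -⟩
    omega
  have h2 : Nat.card G = C.n := by
    rw [← Cert.index_eq hP hC, hH, Subgroup.index_bot]
  have hn : 0 < C.n := (C.chkG_spec hC.hG).2.2.1
  exact ⟨Nat.finite_of_card_ne_zero (by rw [h2]; exact hn.ne'), h2⟩

end Cfsg.Agent.Lib.Helper38
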