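import Mathlib
import Cfsg.Agent.Lib.Helper38.F78C0
import Cfsg.Agent.Lib.Helper38.F78C1
import Cfsg.Agent.Lib.Helper38.F78C2
import Cfsg.Agent.Lib.Helper38.F78C3
import Cfsg.Agent.Lib.Helper38.F78C4
import Cfsg.Agent.Lib.Helper38.F78C5
import Cfsg.Agent.Lib.Helper38.F78C6
import Cfsg.Agent.Lib.Helper38.F78C7
import Cfsg.Agent.Lib.Helper38.Fi22Pres

/-!
The nine matrices satisfy the relators of Fi22: a homomorphism data `σ : ℕ → GL (Fin 78) (ZMod 13)`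
for `Fi22P.lift_one` (generated by `tools/helper38/f78/gen78.py`).
-/

set_option maxRecDepth 100000

namespace Cfsg.Agent.Lib.Helper38.F78

open Cfsg.Agent.Lib.Helper54.MatChk

/-- the packed matrix of generator number `s` -/
def gen : ℕ → ℕ
  | 0 => g0
  | 1 => g1
  | 2 => g2
  | 3 => g3
  | 4 => g4
  | 5 => g5
  | 6 => g6
  | 7 => g7
  | _ => g8

/-- the matrix of generator number `s` -/
noncomputable def M (s : ℕ) : Matrix (Fin 78) (Fin 78) (ZMod 13) := toM 78 13 (gen s)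

theorem hone : toM 78 13 one = 1 := chkOne_sound 78 13 one (by decide +kernel)

theorem rep_word {K : Type*} [Monoid K] (τ : ℕ → K) (u : List ℕ) : ∀ m : ℕ,
    (((List.replicate m u).flatten).map τ).prod = ((u.map τ).prod) ^ m
  | 0 => by simp
  | m + 1 => by
    rw [List.replicate_succ, List.flatten_cons, List.map_append, List.prod_append,
      rep_word τ u m, pow_succ']

theorem pow3 {K : Type*} [Monoid K] (x : K) : x ^ 3 = x * x * x := by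
  simp only [pow_succ, pow_zero, one_mul]

theorem pow9 {K : Type*} [Monoid K] (x : K) :
    x ^ 9 = ((x * x) * (x * x)) * ((x * x) * (x * x)) * x := by
  simp only [pow_succ, pow_zero, one_mul, mul_assoc]

theorem pow10 {K : Type*} [Monoid K] (x : K) :
    x ^ 10 = ((x * x) * (x * x) * x) * ((x * x) * (x * x) * x) := by
  simp only [pow_succ, pow_zero, one_mul, mul_assoc]

theorem comm_word {K : Type*} [Monoid K] (τ : ℕ → K) (i j : ℕ) (p : K) (h1 : τ i * τ j = p)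
    (h2 : p * p = 1) : ([i, j, i, j].map τ).prod = 1 := by
  simp only [List.map_cons, List.map_nil, List.prod_cons, List.prod_nil, mul_one]
  rw [h1, ← mul_assoc, h1, h2]

theorem braid_word {K : Type*} [Monoid K] (τ : ℕ → K) (i j : ℕ) (p q : K) (h1 : τ i * τ j = p)
    (h2 : p * p = q) (h3 : q * p = 1) : ([i, j, i, j, i, j].map τ).prod = 1 := by
  have h : ([i, j, i, j, i, j] : List ℕ) = (List.replicate 3 [i, j]).flatten := rfl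
  rw [h, rep_word]
  simp only [List.map_cons, List.map_nil, List.prod_cons, List.prod_nil, mul_one]
  rw [h1, pow3, h2, h3]

theorem sp_word {K : Type*} [Monoid K] (τ : ℕ → K) (a b c d e f g h i : ℕ)
    (y1 y2 y3 y4 y5 y6 y7 y8 x2 x4 x5 : K)
    (h1 : τ h * τ i = y1) (h2 : τ g * y1 = y2) (h3 : τ f * y2 = y3) (h4 : τ e * y3 = y4)
    (h5 : τ d * y4 = y5) (h6 : τ c * y5 = y6) (h7 : τ b * y6 = y7) (h8 : τ a * y7 = y8)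
    (hx2 : y8 * y8 = x2) (hx4 : x2 * x2 = x4) (hx5 : x4 * y8 = x5) (hr : x5 * x5 = 1) :
    (((List.replicate 10 [a, b, c, d, e, f, g, h, i]).flatten).map τ).prod = 1 := by
  rw [rep_word]
  simp only [List.map_cons, List.map_nil, List.prod_cons, List.prod_nil, mul_one]
  rw [h1, h2, h3, h4, h5, h6, h7, h8, pow10, hx2, hx4, hx5, hr]

theorem r9_word {K : Type*} [Monoid K] (τ : ℕ → K) (a b c d e f g : ℕ)
    (y1 y2 y3 y4 y5 y6 x2 x4 x8 : K)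
    (h1 : τ f * τ g = y1) (h2 : τ e * y1 = y2) (h3 : τ d * y2 = y3) (h4 : τ c * y3 = y4)
    (h5 : τ b * y4 = y5) (h6 : τ a * y5 = y6)
    (hx2 : y6 * y6 = x2) (hx4 : x2 * x2 = x4) (hx8 : x4 * x4 = x8) (hr : x8 * y6 = 1) :
    (((List.replicate 9 [a, b, c, d, e, f, g]).flatten).map τ).prod = 1 := by
  rw [rep_word]
  simp only [List.map_cons, List.map_nil, List.prod_cons, List.prod_nil, mul_one]
  rw [h1, h2, h3, h4, h5, h6, pow9, hx2, hx4, hx8, hr]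

theorem e_sq0 : M 0 * M 0 = toM 78 13 one :=
  chk_sound 78 13 g0 g0 one c_sq0

theorem e_sq1 : M 1 * M 1 = toM 78 13 one :=
  chk_sound 78 13 g1 g1 one c_sq1

theorem e_sq2 : M 2 * M 2 = toM 78 13 one :=
  chk_sound 78 13 g2 g2 one c_sq2

theorem e_sq3 : M 3 * M 3 = toM 78 13 one :=
  chk_sound 78 13 g3 g3 one c_sq3

theorem e_sq4 : M 4 * M 4 = toM 78 13 one :=
  chk_sound 78 13 g4 g4 one c_sq4

theorem e_sq5 : M 5 * M 5 = toM 78 13 one :=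
  chk_sound 78 13 g5 g5 one c_sq5

theorem e_sq6 : M 6 * M 6 = toM 78 13 one :=
  chk_sound 78 13 g6 g6 one c_sq6

theorem e_sq7 : M 7 * M 7 = toM 78 13 one :=
  chk_sound 78 13 g7 g7 one c_sq7

theorem e_sq8 : M 8 * M 8 = toM 78 13 one :=
  chk_sound 78 13 g8 g8 one c_sq8

theorem e_p_0_1 : M 0 * M 1 = toM 78 13 p_0_1 :=
  chk_sound 78 13 g0 g1 p_0_1 c_p_0_1

theorem e_q_0_1 : toM 78 13 p_0_1 * toM 78 13 p_0_1 = toM 78 13 q_0_1 :=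
  chk_sound 78 13 p_0_1 p_0_1 q_0_1 c_q_0_1

theorem e_r_0_1 : toM 78 13 q_0_1 * toM 78 13 p_0_1 = toM 78 13 one :=
  chk_sound 78 13 q_0_1 p_0_1 one c_r_0_1

theorem e_p_0_2 : M 0 * M 2 = toM 78 13 p_0_2 :=
  chk_sound 78 13 g0 g2 p_0_2 c_p_0_2

theorem e_r_0_2 : toM 78 13 p_0_2 * toM 78 13 p_0_2 = toM 78 13 one :=
  chk_sound 78 13 p_0_2 p_0_2 one c_r_0_2

theorem e_p_0_3 : M 0 * M 3 = toM 78 13 p_0_3 :=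
  chk_sound 78 13 g0 g3 p_0_3 c_p_0_3

theorem e_r_0_3 : toM 78 13 p_0_3 * toM 78 13 p_0_3 = toM 78 13 one :=
  chk_sound 78 13 p_0_3 p_0_3 one c_r_0_3

theorem e_p_0_4 : M 0 * M 4 = toM 78 13 p_0_4 :=
  chk_sound 78 13 g0 g4 p_0_4 c_p_0_4

theorem e_r_0_4 : toM 78 13 p_0_4 * toM 78 13 p_0_4 = toM 78 13 one :=
  chk_sound 78 13 p_0_4 p_0_4 one c_r_0_4

theorem e_p_0_5 : M 0 * M 5 = toM 78 13 p_0_5 :=
  chk_sound 78 13 g0 g5 p_0_5 c_p_0_5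

theorem e_r_0_5 : toM 78 13 p_0_5 * toM 78 13 p_0_5 = toM 78 13 one :=
  chk_sound 78 13 p_0_5 p_0_5 one c_r_0_5

theorem e_p_0_6 : M 0 * M 6 = toM 78 13 p_0_6 :=
  chk_sound 78 13 g0 g6 p_0_6 c_p_0_6

theorem e_r_0_6 : toM 78 13 p_0_6 * toM 78 13 p_0_6 = toM 78 13 one :=
  chk_sound 78 13 p_0_6 p_0_6 one c_r_0_6

theorem e_p_0_7 : M 0 * M 7 = toM 78 13 p_0_7 :=
  chk_sound 78 13 g0 g7 p_0_7 c_p_0_7

theorem e_r_0_7 : toM 78 13 p_0_7 * toM 78 13 p_0_7 = toM 78 13 one :=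
  chk_sound 78 13 p_0_7 p_0_7 one c_r_0_7

theorem e_p_0_8 : M 0 * M 8 = toM 78 13 p_0_8 :=
  chk_sound 78 13 g0 g8 p_0_8 c_p_0_8

theorem e_r_0_8 : toM 78 13 p_0_8 * toM 78 13 p_0_8 = toM 78 13 one :=
  chk_sound 78 13 p_0_8 p_0_8 one c_r_0_8

theorem e_p_1_2 : M 1 * M 2 = toM 78 13 p_1_2 :=
  chk_sound 78 13 g1 g2 p_1_2 c_p_1_2

theorem e_q_1_2 : toM 78 13 p_1_2 * toM 78 13 p_1_2 = toM 78 13 q_1_2 :=
  chk_sound 78 13 p_1_2 p_1_2 q_1_2 c_q_1_2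

theorem e_r_1_2 : toM 78 13 q_1_2 * toM 78 13 p_1_2 = toM 78 13 one :=
  chk_sound 78 13 q_1_2 p_1_2 one c_r_1_2

theorem e_p_1_3 : M 1 * M 3 = toM 78 13 p_1_3 :=
  chk_sound 78 13 g1 g3 p_1_3 c_p_1_3

theorem e_r_1_3 : toM 78 13 p_1_3 * toM 78 13 p_1_3 = toM 78 13 one :=
  chk_sound 78 13 p_1_3 p_1_3 one c_r_1_3

theorem e_p_1_4 : M 1 * M 4 = toM 78 13 p_1_4 :=
  chk_sound 78 13 g1 g4 p_1_4 c_p_1_4

theorem e_r_1_4 : toM 78 13 p_1_4 * toM 78 13 p_1_4 = toM 78 13 one :=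
  chk_sound 78 13 p_1_4 p_1_4 one c_r_1_4

theorem e_p_1_5 : M 1 * M 5 = toM 78 13 p_1_5 :=
  chk_sound 78 13 g1 g5 p_1_5 c_p_1_5

theorem e_r_1_5 : toM 78 13 p_1_5 * toM 78 13 p_1_5 = toM 78 13 one :=
  chk_sound 78 13 p_1_5 p_1_5 one c_r_1_5

theorem e_p_1_6 : M 1 * M 6 = toM 78 13 p_1_6 :=
  chk_sound 78 13 g1 g6 p_1_6 c_p_1_6

theorem e_r_1_6 : toM 78 13 p_1_6 * toM 78 13 p_1_6 = toM 78 13 one :=
  chk_sound 78 13 p_1_6 p_1_6 one c_r_1_6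

theorem e_p_1_7 : M 1 * M 7 = toM 78 13 p_1_7 :=
  chk_sound 78 13 g1 g7 p_1_7 c_p_1_7

theorem e_r_1_7 : toM 78 13 p_1_7 * toM 78 13 p_1_7 = toM 78 13 one :=
  chk_sound 78 13 p_1_7 p_1_7 one c_r_1_7

theorem e_p_1_8 : M 1 * M 8 = toM 78 13 p_1_8 :=
  chk_sound 78 13 g1 g8 p_1_8 c_p_1_8

theorem e_r_1_8 : toM 78 13 p_1_8 * toM 78 13 p_1_8 = toM 78 13 one :=
  chk_sound 78 13 p_1_8 p_1_8 one c_r_1_8

theorem e_p_2_3 : M 2 * M 3 = toM 78 13 p_2_3 :=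
  chk_sound 78 13 g2 g3 p_2_3 c_p_2_3

theorem e_q_2_3 : toM 78 13 p_2_3 * toM 78 13 p_2_3 = toM 78 13 q_2_3 :=
  chk_sound 78 13 p_2_3 p_2_3 q_2_3 c_q_2_3

theorem e_r_2_3 : toM 78 13 q_2_3 * toM 78 13 p_2_3 = toM 78 13 one :=
  chk_sound 78 13 q_2_3 p_2_3 one c_r_2_3

theorem e_p_2_4 : M 2 * M 4 = toM 78 13 p_2_4 :=
  chk_sound 78 13 g2 g4 p_2_4 c_p_2_4

theorem e_r_2_4 : toM 78 13 p_2_4 * toM 78 13 p_2_4 = toM 78 13 one :=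
  chk_sound 78 13 p_2_4 p_2_4 one c_r_2_4

theorem e_p_2_5 : M 2 * M 5 = toM 78 13 p_2_5 :=
  chk_sound 78 13 g2 g5 p_2_5 c_p_2_5

theorem e_r_2_5 : toM 78 13 p_2_5 * toM 78 13 p_2_5 = toM 78 13 one :=
  chk_sound 78 13 p_2_5 p_2_5 one c_r_2_5

theorem e_p_2_6 : M 2 * M 6 = toM 78 13 p_2_6 :=
  chk_sound 78 13 g2 g6 p_2_6 c_p_2_6

theorem e_r_2_6 : toM 78 13 p_2_6 * toM 78 13 p_2_6 = toM 78 13 one :=
  chk_sound 78 13 p_2_6 p_2_6 one c_r_2_6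

theorem e_p_2_7 : M 2 * M 7 = toM 78 13 p_2_7 :=
  chk_sound 78 13 g2 g7 p_2_7 c_p_2_7

theorem e_r_2_7 : toM 78 13 p_2_7 * toM 78 13 p_2_7 = toM 78 13 one :=
  chk_sound 78 13 p_2_7 p_2_7 one c_r_2_7

theorem e_p_2_8 : M 2 * M 8 = toM 78 13 p_2_8 :=
  chk_sound 78 13 g2 g8 p_2_8 c_p_2_8

theorem e_r_2_8 : toM 78 13 p_2_8 * toM 78 13 p_2_8 = toM 78 13 one :=
  chk_sound 78 13 p_2_8 p_2_8 one c_r_2_8

theorem e_p_3_4 : M 3 * M 4 = toM 78 13 p_3_4 :=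
  chk_sound 78 13 g3 g4 p_3_4 c_p_3_4

theorem e_q_3_4 : toM 78 13 p_3_4 * toM 78 13 p_3_4 = toM 78 13 q_3_4 :=
  chk_sound 78 13 p_3_4 p_3_4 q_3_4 c_q_3_4

theorem e_r_3_4 : toM 78 13 q_3_4 * toM 78 13 p_3_4 = toM 78 13 one :=
  chk_sound 78 13 q_3_4 p_3_4 one c_r_3_4

theorem e_p_3_5 : M 3 * M 5 = toM 78 13 p_3_5 :=
  chk_sound 78 13 g3 g5 p_3_5 c_p_3_5

theorem e_r_3_5 : toM 78 13 p_3_5 * toM 78 13 p_3_5 = toM 78 13 one :=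
  chk_sound 78 13 p_3_5 p_3_5 one c_r_3_5

theorem e_p_3_6 : M 3 * M 6 = toM 78 13 p_3_6 :=
  chk_sound 78 13 g3 g6 p_3_6 c_p_3_6

theorem e_r_3_6 : toM 78 13 p_3_6 * toM 78 13 p_3_6 = toM 78 13 one :=
  chk_sound 78 13 p_3_6 p_3_6 one c_r_3_6

theorem e_p_3_7 : M 3 * M 7 = toM 78 13 p_3_7 :=
  chk_sound 78 13 g3 g7 p_3_7 c_p_3_7

theorem e_q_3_7 : toM 78 13 p_3_7 * toM 78 13 p_3_7 = toM 78 13 q_3_7 :=
  chk_sound 78 13 p_3_7 p_3_7 q_3_7 c_q_3_7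

theorem e_r_3_7 : toM 78 13 q_3_7 * toM 78 13 p_3_7 = toM 78 13 one :=
  chk_sound 78 13 q_3_7 p_3_7 one c_r_3_7

theorem e_p_3_8 : M 3 * M 8 = toM 78 13 p_3_8 :=
  chk_sound 78 13 g3 g8 p_3_8 c_p_3_8

theorem e_r_3_8 : toM 78 13 p_3_8 * toM 78 13 p_3_8 = toM 78 13 one :=
  chk_sound 78 13 p_3_8 p_3_8 one c_r_3_8

theorem e_p_4_5 : M 4 * M 5 = toM 78 13 p_4_5 :=
  chk_sound 78 13 g4 g5 p_4_5 c_p_4_5

theorem e_q_4_5 : toM 78 13 p_4_5 * toM 78 13 p_4_5 = toM 78 13 q_4_5 :=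
  chk_sound 78 13 p_4_5 p_4_5 q_4_5 c_q_4_5

theorem e_r_4_5 : toM 78 13 q_4_5 * toM 78 13 p_4_5 = toM 78 13 one :=
  chk_sound 78 13 q_4_5 p_4_5 one c_r_4_5

theorem e_p_4_6 : M 4 * M 6 = toM 78 13 p_4_6 :=
  chk_sound 78 13 g4 g6 p_4_6 c_p_4_6

theorem e_r_4_6 : toM 78 13 p_4_6 * toM 78 13 p_4_6 = toM 78 13 one :=
  chk_sound 78 13 p_4_6 p_4_6 one c_r_4_6

theorem e_p_4_7 : M 4 * M 7 = toM 78 13 p_4_7 :=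
  chk_sound 78 13 g4 g7 p_4_7 c_p_4_7

theorem e_r_4_7 : toM 78 13 p_4_7 * toM 78 13 p_4_7 = toM 78 13 one :=
  chk_sound 78 13 p_4_7 p_4_7 one c_r_4_7

theorem e_p_4_8 : M 4 * M 8 = toM 78 13 p_4_8 :=
  chk_sound 78 13 g4 g8 p_4_8 c_p_4_8

theorem e_r_4_8 : toM 78 13 p_4_8 * toM 78 13 p_4_8 = toM 78 13 one :=
  chk_sound 78 13 p_4_8 p_4_8 one c_r_4_8

theorem e_p_5_6 : M 5 * M 6 = toM 78 13 p_5_6 :=
  chk_sound 78 13 g5 g6 p_5_6 c_p_5_6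

theorem e_q_5_6 : toM 78 13 p_5_6 * toM 78 13 p_5_6 = toM 78 13 q_5_6 :=
  chk_sound 78 13 p_5_6 p_5_6 q_5_6 c_q_5_6

theorem e_r_5_6 : toM 78 13 q_5_6 * toM 78 13 p_5_6 = toM 78 13 one :=
  chk_sound 78 13 q_5_6 p_5_6 one c_r_5_6

theorem e_p_5_7 : M 5 * M 7 = toM 78 13 p_5_7 :=
  chk_sound 78 13 g5 g7 p_5_7 c_p_5_7

theorem e_r_5_7 : toM 78 13 p_5_7 * toM 78 13 p_5_7 = toM 78 13 one :=
  chk_sound 78 13 p_5_7 p_5_7 one c_r_5_7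

theorem e_p_5_8 : M 5 * M 8 = toM 78 13 p_5_8 :=
  chk_sound 78 13 g5 g8 p_5_8 c_p_5_8

theorem e_r_5_8 : toM 78 13 p_5_8 * toM 78 13 p_5_8 = toM 78 13 one :=
  chk_sound 78 13 p_5_8 p_5_8 one c_r_5_8

theorem e_p_6_7 : M 6 * M 7 = toM 78 13 p_6_7 :=
  chk_sound 78 13 g6 g7 p_6_7 c_p_6_7

theorem e_r_6_7 : toM 78 13 p_6_7 * toM 78 13 p_6_7 = toM 78 13 one :=
  chk_sound 78 13 p_6_7 p_6_7 one c_r_6_7

theorem e_p_6_8 : M 6 * M 8 = toM 78 13 p_6_8 :=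
  chk_sound 78 13 g6 g8 p_6_8 c_p_6_8

theorem e_r_6_8 : toM 78 13 p_6_8 * toM 78 13 p_6_8 = toM 78 13 one :=
  chk_sound 78 13 p_6_8 p_6_8 one c_r_6_8

theorem e_p_7_8 : M 7 * M 8 = toM 78 13 p_7_8 :=
  chk_sound 78 13 g7 g8 p_7_8 c_p_7_8

theorem e_q_7_8 : toM 78 13 p_7_8 * toM 78 13 p_7_8 = toM 78 13 q_7_8 :=
  chk_sound 78 13 p_7_8 p_7_8 q_7_8 c_q_7_8

theorem e_r_7_8 : toM 78 13 q_7_8 * toM 78 13 p_7_8 = toM 78 13 one :=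
  chk_sound 78 13 q_7_8 p_7_8 one c_r_7_8

theorem e_sp_y2 : M 3 * toM 78 13 p_7_8 = toM 78 13 sp_y2 :=
  chk_sound 78 13 g3 p_7_8 sp_y2 c_sp_y2

theorem e_sp_y3 : M 5 * toM 78 13 sp_y2 = toM 78 13 sp_y3 :=
  chk_sound 78 13 g5 sp_y2 sp_y3 c_sp_y3

theorem e_sp_y4 : M 4 * toM 78 13 sp_y3 = toM 78 13 sp_y4 :=
  chk_sound 78 13 g4 sp_y3 sp_y4 c_sp_y4

theorem e_sp_y5 : M 3 * toM 78 13 sp_y4 = toM 78 13 sp_y5 :=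
  chk_sound 78 13 g3 sp_y4 sp_y5 c_sp_y5

theorem e_sp_y6 : M 1 * toM 78 13 sp_y5 = toM 78 13 sp_y6 :=
  chk_sound 78 13 g1 sp_y5 sp_y6 c_sp_y6

theorem e_sp_y7 : M 2 * toM 78 13 sp_y6 = toM 78 13 sp_y7 :=
  chk_sound 78 13 g2 sp_y6 sp_y7 c_sp_y7

theorem e_sp_y8 : M 3 * toM 78 13 sp_y7 = toM 78 13 sp_y8 :=
  chk_sound 78 13 g3 sp_y7 sp_y8 c_sp_y8

theorem e_sp_x2 : toM 78 13 sp_y8 * toM 78 13 sp_y8 = toM 78 13 sp_x2 :=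
  chk_sound 78 13 sp_y8 sp_y8 sp_x2 c_sp_x2

theorem e_sp_x4 : toM 78 13 sp_x2 * toM 78 13 sp_x2 = toM 78 13 sp_x4 :=
  chk_sound 78 13 sp_x2 sp_x2 sp_x4 c_sp_x4

theorem e_sp_x5 : toM 78 13 sp_x4 * toM 78 13 sp_y8 = toM 78 13 sp_x5 :=
  chk_sound 78 13 sp_x4 sp_y8 sp_x5 c_sp_x5

theorem e_sp_r : toM 78 13 sp_x5 * toM 78 13 sp_x5 = toM 78 13 one :=
  chk_sound 78 13 sp_x5 sp_x5 one c_sp_r

theorem e_ra_y2 : M 4 * toM 78 13 p_5_7 = toM 78 13 ra_y2 :=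
  chk_sound 78 13 g4 p_5_7 ra_y2 c_ra_y2

theorem e_ra_y3 : M 3 * toM 78 13 ra_y2 = toM 78 13 ra_y3 :=
  chk_sound 78 13 g3 ra_y2 ra_y3 c_ra_y3

theorem e_ra_y4 : M 2 * toM 78 13 ra_y3 = toM 78 13 ra_y4 :=
  chk_sound 78 13 g2 ra_y3 ra_y4 c_ra_y4

theorem e_ra_y5 : M 1 * toM 78 13 ra_y4 = toM 78 13 ra_y5 :=
  chk_sound 78 13 g1 ra_y4 ra_y5 c_ra_y5

theorem e_ra_y6 : M 0 * toM 78 13 ra_y5 = toM 78 13 ra_y6 :=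
  chk_sound 78 13 g0 ra_y5 ra_y6 c_ra_y6

theorem e_ra_x2 : toM 78 13 ra_y6 * toM 78 13 ra_y6 = toM 78 13 ra_x2 :=
  chk_sound 78 13 ra_y6 ra_y6 ra_x2 c_ra_x2

theorem e_ra_x4 : toM 78 13 ra_x2 * toM 78 13 ra_x2 = toM 78 13 ra_x4 :=
  chk_sound 78 13 ra_x2 ra_x2 ra_x4 c_ra_x4

theorem e_ra_x8 : toM 78 13 ra_x4 * toM 78 13 ra_x4 = toM 78 13 ra_x8 :=
  chk_sound 78 13 ra_x4 ra_x4 ra_x8 c_ra_x8

theorem e_ra_r : toM 78 13 ra_x8 * toM 78 13 ra_y6 = toM 78 13 one :=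
  chk_sound 78 13 ra_x8 ra_y6 one c_ra_r

theorem e_rb_y2 : M 5 * toM 78 13 p_6_7 = toM 78 13 rb_y2 :=
  chk_sound 78 13 g5 p_6_7 rb_y2 c_rb_y2

theorem e_rb_y3 : M 4 * toM 78 13 rb_y2 = toM 78 13 rb_y3 :=
  chk_sound 78 13 g4 rb_y2 rb_y3 c_rb_y3

theorem e_rb_y4 : M 3 * toM 78 13 rb_y3 = toM 78 13 rb_y4 :=
  chk_sound 78 13 g3 rb_y3 rb_y4 c_rb_y4

theorem e_rb_y5 : M 2 * toM 78 13 rb_y4 = toM 78 13 rb_y5 :=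
  chk_sound 78 13 g2 rb_y4 rb_y5 c_rb_y5

theorem e_rb_y6 : M 1 * toM 78 13 rb_y5 = toM 78 13 rb_y6 :=
  chk_sound 78 13 g1 rb_y5 rb_y6 c_rb_y6

theorem e_rb_x2 : toM 78 13 rb_y6 * toM 78 13 rb_y6 = toM 78 13 rb_x2 :=
  chk_sound 78 13 rb_y6 rb_y6 rb_x2 c_rb_x2

theorem e_rb_x4 : toM 78 13 rb_x2 * toM 78 13 rb_x2 = toM 78 13 rb_x4 :=
  chk_sound 78 13 rb_x2 rb_x2 rb_x4 c_rb_x4

theorem e_rb_x8 : toM 78 13 rb_x4 * toM 78 13 rb_x4 = toM 78 13 rb_x8 :=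
  chk_sound 78 13 rb_x4 rb_x4 rb_x8 c_rb_x8

theorem e_rb_r : toM 78 13 rb_x8 * toM 78 13 rb_y6 = toM 78 13 one :=
  chk_sound 78 13 rb_x8 rb_y6 one c_rb_r

theorem sq : ∀ s, M s * M s = 1
  | 0 => e_sq0.trans hone
  | 1 => e_sq1.trans hone
  | 2 => e_sq2.trans hone
  | 3 => e_sq3.trans hone
  | 4 => e_sq4.trans hone
  | 5 => e_sq5.trans hone
  | 6 => e_sq6.trans hone
  | 7 => e_sq7.trans hone
  | (_ + 8) => e_sq8.trans hone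

theorem w_0_1 : ([0, 1, 0, 1, 0, 1].map M).prod = 1 :=
  braid_word M 0 1 _ _ e_p_0_1 e_q_0_1 (e_r_0_1.trans hone)

theorem w_0_2 : ([0, 2, 0, 2].map M).prod = 1 :=
  comm_word M 0 2 _ e_p_0_2 (e_r_0_2.trans hone)

theorem w_0_3 : ([0, 3, 0, 3].map M).prod = 1 :=
  comm_word M 0 3 _ e_p_0_3 (e_r_0_3.trans hone)

theorem w_0_4 : ([0, 4, 0, 4].map M).prod = 1 :=
  comm_word M 0 4 _ e_p_0_4 (e_r_0_4.trans hone)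

theorem w_0_5 : ([0, 5, 0, 5].map M).prod = 1 :=
  comm_word M 0 5 _ e_p_0_5 (e_r_0_5.trans hone)

theorem w_0_6 : ([0, 6, 0, 6].map M).prod = 1 :=
  comm_word M 0 6 _ e_p_0_6 (e_r_0_6.trans hone)

theorem w_0_7 : ([0, 7, 0, 7].map M).prod = 1 :=
  comm_word M 0 7 _ e_p_0_7 (e_r_0_7.trans hone)

theorem w_0_8 : ([0, 8, 0, 8].map M).prod = 1 :=
  comm_word M 0 8 _ e_p_0_8 (e_r_0_8.trans hone)

theorem w_1_2 : ([1, 2, 1, 2, 1, 2].map M).prod = 1 :=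
  braid_word M 1 2 _ _ e_p_1_2 e_q_1_2 (e_r_1_2.trans hone)

theorem w_1_3 : ([1, 3, 1, 3].map M).prod = 1 :=
  comm_word M 1 3 _ e_p_1_3 (e_r_1_3.trans hone)

theorem w_1_4 : ([1, 4, 1, 4].map M).prod = 1 :=
  comm_word M 1 4 _ e_p_1_4 (e_r_1_4.trans hone)

theorem w_1_5 : ([1, 5, 1, 5].map M).prod = 1 :=
  comm_word M 1 5 _ e_p_1_5 (e_r_1_5.trans hone)

theorem w_1_6 : ([1, 6, 1, 6].map M).prod = 1 :=
  comm_word M 1 6 _ e_p_1_6 (e_r_1_6.trans hone)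

theorem w_1_7 : ([1, 7, 1, 7].map M).prod = 1 :=
  comm_word M 1 7 _ e_p_1_7 (e_r_1_7.trans hone)

theorem w_1_8 : ([1, 8, 1, 8].map M).prod = 1 :=
  comm_word M 1 8 _ e_p_1_8 (e_r_1_8.trans hone)

theorem w_2_3 : ([2, 3, 2, 3, 2, 3].map M).prod = 1 :=
  braid_word M 2 3 _ _ e_p_2_3 e_q_2_3 (e_r_2_3.trans hone)

theorem w_2_4 : ([2, 4, 2, 4].map M).prod = 1 :=
  comm_word M 2 4 _ e_p_2_4 (e_r_2_4.trans hone)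

theorem w_2_5 : ([2, 5, 2, 5].map M).prod = 1 :=
  comm_word M 2 5 _ e_p_2_5 (e_r_2_5.trans hone)

theorem w_2_6 : ([2, 6, 2, 6].map M).prod = 1 :=
  comm_word M 2 6 _ e_p_2_6 (e_r_2_6.trans hone)

theorem w_2_7 : ([2, 7, 2, 7].map M).prod = 1 :=
  comm_word M 2 7 _ e_p_2_7 (e_r_2_7.trans hone)

theorem w_2_8 : ([2, 8, 2, 8].map M).prod = 1 :=
  comm_word M 2 8 _ e_p_2_8 (e_r_2_8.trans hone)

theorem w_3_4 : ([3, 4, 3, 4, 3, 4].map M).prod = 1 :=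
  braid_word M 3 4 _ _ e_p_3_4 e_q_3_4 (e_r_3_4.trans hone)

theorem w_3_5 : ([3, 5, 3, 5].map M).prod = 1 :=
  comm_word M 3 5 _ e_p_3_5 (e_r_3_5.trans hone)

theorem w_3_6 : ([3, 6, 3, 6].map M).prod = 1 :=
  comm_word M 3 6 _ e_p_3_6 (e_r_3_6.trans hone)

theorem w_3_7 : ([3, 7, 3, 7, 3, 7].map M).prod = 1 :=
  braid_word M 3 7 _ _ e_p_3_7 e_q_3_7 (e_r_3_7.trans hone)

theorem w_3_8 : ([3, 8, 3, 8].map M).prod = 1 :=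
  comm_word M 3 8 _ e_p_3_8 (e_r_3_8.trans hone)

theorem w_4_5 : ([4, 5, 4, 5, 4, 5].map M).prod = 1 :=
  braid_word M 4 5 _ _ e_p_4_5 e_q_4_5 (e_r_4_5.trans hone)

theorem w_4_6 : ([4, 6, 4, 6].map M).prod = 1 :=
  comm_word M 4 6 _ e_p_4_6 (e_r_4_6.trans hone)

theorem w_4_7 : ([4, 7, 4, 7].map M).prod = 1 :=
  comm_word M 4 7 _ e_p_4_7 (e_r_4_7.trans hone)

theorem w_4_8 : ([4, 8, 4, 8].map M).prod = 1 :=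
  comm_word M 4 8 _ e_p_4_8 (e_r_4_8.trans hone)

theorem w_5_6 : ([5, 6, 5, 6, 5, 6].map M).prod = 1 :=
  braid_word M 5 6 _ _ e_p_5_6 e_q_5_6 (e_r_5_6.trans hone)

theorem w_5_7 : ([5, 7, 5, 7].map M).prod = 1 :=
  comm_word M 5 7 _ e_p_5_7 (e_r_5_7.trans hone)

theorem w_5_8 : ([5, 8, 5, 8].map M).prod = 1 :=
  comm_word M 5 8 _ e_p_5_8 (e_r_5_8.trans hone)

theorem w_6_7 : ([6, 7, 6, 7].map M).prod = 1 :=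
  comm_word M 6 7 _ e_p_6_7 (e_r_6_7.trans hone)

theorem w_6_8 : ([6, 8, 6, 8].map M).prod = 1 :=
  comm_word M 6 8 _ e_p_6_8 (e_r_6_8.trans hone)

theorem w_7_8 : ([7, 8, 7, 8, 7, 8].map M).prod = 1 :=
  braid_word M 7 8 _ _ e_p_7_8 e_q_7_8 (e_r_7_8.trans hone)

theorem w_sp : ([3, 2, 1, 3, 4, 5, 3, 7, 8, 3, 2, 1, 3, 4, 5, 3, 7, 8, 3, 2, 1, 3, 4, 5, 3, 7, 8, 3, 2, 1, 3, 4, 5, 3, 7, 8, 3, 2, 1, 3, 4, 5, 3, 7, 8, 3, 2, 1, 3, 4, 5, 3, 7, 8, 3, 2, 1, 3, 4, 5, 3, 7, 8, 3, 2, 1, 3, 4, 5, 3, 7, 8, 3, 2, 1, 3, 4, 5, 3, 7, 8, 3, 2, 1, 3, 4, 5, 3, 7, 8].map M).prod = 1 := by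
  have h : ([3, 2, 1, 3, 4, 5, 3, 7, 8, 3, 2, 1, 3, 4, 5, 3, 7, 8, 3, 2, 1, 3, 4, 5, 3, 7, 8, 3, 2, 1, 3, 4, 5, 3, 7, 8, 3, 2, 1, 3, 4, 5, 3, 7, 8, 3, 2, 1, 3, 4, 5, 3, 7, 8, 3, 2, 1, 3, 4, 5, 3, 7, 8, 3, 2, 1, 3, 4, 5, 3, 7, 8, 3, 2, 1, 3, 4, 5, 3, 7, 8, 3, 2, 1, 3, 4, 5, 3, 7, 8] : List ℕ) = (List.replicate 10 [3, 2, 1, 3, 4, 5, 3, 7, 8]).flatten := rfl
  rw [h]
  exact sp_word M 3 2 1 3 4 5 3 7 8 _ _ _ _ _ _ _ _ _ _ _ e_p_7_8 e_sp_y2 e_sp_y3 e_sp_y4 e_sp_y5 e_sp_y6 e_sp_y7 e_sp_y8 e_sp_x2 e_sp_x4 e_sp_x5 (e_sp_r.trans hone)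

theorem w_ra : ([0, 1, 2, 3, 4, 5, 7, 0, 1, 2, 3, 4, 5, 7, 0, 1, 2, 3, 4, 5, 7, 0, 1, 2, 3, 4, 5, 7, 0, 1, 2, 3, 4, 5, 7, 0, 1, 2, 3, 4, 5, 7, 0, 1, 2, 3, 4, 5, 7, 0, 1, 2, 3, 4, 5, 7, 0, 1, 2, 3, 4, 5, 7].map M).prod = 1 := by
  have h : ([0, 1, 2, 3, 4, 5, 7, 0, 1, 2, 3, 4, 5, 7, 0, 1, 2, 3, 4, 5, 7, 0, 1, 2, 3, 4, 5, 7, 0, 1, 2, 3, 4, 5, 7, 0, 1, 2, 3, 4, 5, 7, 0, 1, 2, 3, 4, 5, 7, 0, 1, 2, 3, 4, 5, 7, 0, 1, 2, 3, 4, 5, 7] : List ℕ) = (List.replicate 9 [0, 1, 2, 3, 4, 5, 7]).flatten := rfl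
  rw [h]
  exact r9_word M 0 1 2 3 4 5 7 _ _ _ _ _ _ _ _ _ e_p_5_7 e_ra_y2 e_ra_y3 e_ra_y4 e_ra_y5 e_ra_y6 e_ra_x2 e_ra_x4 e_ra_x8 (e_ra_r.trans hone)

theorem w_rb : ([1, 2, 3, 4, 5, 6, 7, 1, 2, 3, 4, 5, 6, 7, 1, 2, 3, 4, 5, 6, 7, 1, 2, 3, 4, 5, 6, 7, 1, 2, 3, 4, 5, 6, 7, 1, 2, 3, 4, 5, 6, 7, 1, 2, 3, 4, 5, 6, 7, 1, 2, 3, 4, 5, 6, 7, 1, 2, 3, 4, 5, 6, 7].map M).prod = 1 := by
  have h : ([1, 2, 3, 4, 5, 6, 7, 1, 2, 3, 4, 5, 6, 7, 1, 2, 3, 4, 5, 6, 7, 1, 2, 3, 4, 5, 6, 7, 1, 2, 3, 4, 5, 6, 7, 1, 2, 3, 4, 5, 6, 7, 1, 2, 3, 4, 5, 6, 7, 1, 2, 3, 4, 5, 6, 7, 1, 2, 3, 4, 5, 6, 7] : List ℕ) = (List.replicate 9 [1, 2, 3, 4, 5, 6, 7]).flatten := rfl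
  rw [h]
  exact r9_word M 1 2 3 4 5 6 7 _ _ _ _ _ _ _ _ _ e_p_6_7 e_rb_y2 e_rb_y3 e_rb_y4 e_rb_y5 e_rb_y6 e_rb_x2 e_rb_x4 e_rb_x8 (e_rb_r.trans hone)

theorem hwM : ∀ w ∈ Fi22P.words, (w.map M).prod = 1 := by
  intro w hw
  simp only [Fi22P.words, List.mem_cons, List.not_mem_nil, or_false] at hw
  rcases hw with rfl | rfl | rfl | rfl | rfl | rfl | rfl | rfl | rfl | rfl | rfl | rfl | rfl | rfl | rfl | rfl | rfl | rfl | rfl | rfl | rfl | rfl | rfl | rfl | rfl | rfl | rfl | rfl | rfl | rfl | rfl | rfl | rfl | rfl | rfl | rfl | rfl | rfl | rfl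
  · exact w_0_1
  · exact w_0_2
  · exact w_0_3
  · exact w_0_4
  · exact w_0_5
  · exact w_0_6
  · exact w_0_7
  · exact w_0_8
  · exact w_1_2
  · exact w_1_3
  · exact w_1_4
  · exact w_1_5
  · exact w_1_6
  · exact w_1_7
  · exact w_1_8
  · exact w_2_3
  · exact w_2_4
  · exact w_2_5
  · exact w_2_6
  · exact w_2_7
  · exact w_2_8
  · exact w_3_4
  · exact w_3_5
  · exact w_3_6
  · exact w_3_7
  · exact w_3_8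
  · exact w_4_5
  · exact w_4_6
  · exact w_4_7
  · exact w_4_8
  · exact w_5_6
  · exact w_5_7
  · exact w_5_8
  · exact w_6_7
  · exact w_6_8
  · exact w_7_8
  · exact w_sp
  · exact w_ra
  · exact w_rb

/-- the generators as units -/
noncomputable def σ (s : ℕ) : GL (Fin 78) (ZMod 13) := ⟨M s, M s, sq s, sq s⟩

theorem σ_val (s : ℕ) : ((σ s : GL (Fin 78) (ZMod 13)) : Matrix (Fin 78) (Fin 78) (ZMod 13)) = M s := rfl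

theorem hσ (s : ℕ) : σ s * σ s = 1 := Units.ext (sq s)

theorem prod_val (w : List ℕ) :
    (((w.map σ).prod : GL (Fin 78) (ZMod 13)) : Matrix (Fin 78) (Fin 78) (ZMod 13)) = (w.map M).prod := by
  induction w with
  | nil => rfl
  | cons s w ih => rw [List.map_cons, List.prod_cons, Units.val_mul, ih, σ_val, List.map_cons, List.prod_cons]

theorem hw : ∀ w ∈ Fi22P.words, (w.map σ).prod = 1 := by
  intro w hw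
  apply Units.ext
  rw [prod_val, Units.val_one]
  exact hwM w hw

theorem ent0 : ent 78 g0 0 19 = 1 := by decide +kernel

theorem M0_ne : M 0 ≠ 1 := by
  intro h
  have h1 := congrFun (congrFun h ⟨0, by decide⟩) ⟨19, by decide⟩
  rw [Matrix.one_apply_ne (by decide)] at h1
  have h2 : M 0 ⟨0, by decide⟩ ⟨19, by decide⟩ = ((ent 78 g0 0 19 : ℕ) : ZMod 13) := rfl
  rw [h2, ent0, Nat.cast_one] at h1
  exact absurd h1 (by decide)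

theorem σ0_ne : σ 0 ≠ 1 := fun h => M0_ne (congrArg Units.val h)

end Cfsg.Agent.Lib.Helper38.F78
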