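import Cfsg.Agent.Lib.Helper38.Fi22BN0
import Cfsg.Agent.Lib.Helper38.Fi22BN1
import Cfsg.Agent.Lib.Helper38.Fi22BN2
import Cfsg.Agent.Lib.Helper38.Fi22BN3
import Cfsg.Agent.Lib.Helper38.Fi22BN4

set_option maxRecDepth 100000
set_option maxHeartbeats 0

namespace Cfsg.Agent.Lib.Helper38.Fi22B

theorem chkN_all : ∀ v < 14080, cert.chkN v = true := by
  intro v hv
  by_cases h0 : v < 250
  · exact allFrom_iff.mp chkN_0 v (by omega) (by omega)
  by_cases h1 : v < 500
  · exact allFrom_iff.mp chkN_1 v (by omega) (by omega)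
  by_cases h2 : v < 750
  · exact allFrom_iff.mp chkN_2 v (by omega) (by omega)
  by_cases h3 : v < 1000
  · exact allFrom_iff.mp chkN_3 v (by omega) (by omega)
  by_cases h4 : v < 1250
  · exact allFrom_iff.mp chkN_4 v (by omega) (by omega)
  by_cases h5 : v < 1500
  · exact allFrom_iff.mp chkN_5 v (by omega) (by omega)
  by_cases h6 : v < 1750
  · exact allFrom_iff.mp chkN_6 v (by omega) (by omega)
  by_cases h7 : v < 2000
  · exact allFrom_iff.mp chkN_7 v (by omega) (by omega)
  by_cases h8 : v < 2250
  · exact allFrom_iff.mp chkN_8 v (by omega) (by omega)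
  by_cases h9 : v < 2500
  · exact allFrom_iff.mp chkN_9 v (by omega) (by omega)
  by_cases h10 : v < 2750
  · exact allFrom_iff.mp chkN_10 v (by omega) (by omega)
  by_cases h11 : v < 3000
  · exact allFrom_iff.mp chkN_11 v (by omega) (by omega)
  by_cases h12 : v < 3250
  · exact allFrom_iff.mp chkN_12 v (by omega) (by omega)
  by_cases h13 : v < 3500
  · exact allFrom_iff.mp chkN_13 v (by omega) (by omega)
  by_cases h14 : v < 3750
  · exact allFrom_iff.mp chkN_14 v (by omega) (by omega)
  by_cases h15 : v < 4000
  · exact allFrom_iff.mp chkN_15 v (by omega) (by omega)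
  by_cases h16 : v < 4250
  · exact allFrom_iff.mp chkN_16 v (by omega) (by omega)
  by_cases h17 : v < 4500
  · exact allFrom_iff.mp chkN_17 v (by omega) (by omega)
  by_cases h18 : v < 4750
  · exact allFrom_iff.mp chkN_18 v (by omega) (by omega)
  by_cases h19 : v < 5000
  · exact allFrom_iff.mp chkN_19 v (by omega) (by omega)
  by_cases h20 : v < 5250
  · exact allFrom_iff.mp chkN_20 v (by omega) (by omega)
  by_cases h21 : v < 5500
  · exact allFrom_iff.mp chkN_21 v (by omega) (by omega)
  by_cases h22 : v < 5750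
  · exact allFrom_iff.mp chkN_22 v (by omega) (by omega)
  by_cases h23 : v < 6000
  · exact allFrom_iff.mp chkN_23 v (by omega) (by omega)
  by_cases h24 : v < 6250
  · exact allFrom_iff.mp chkN_24 v (by omega) (by omega)
  by_cases h25 : v < 6500
  · exact allFrom_iff.mp chkN_25 v (by omega) (by omega)
  by_cases h26 : v < 6750
  · exact allFrom_iff.mp chkN_26 v (by omega) (by omega)
  by_cases h27 : v < 7000
  · exact allFrom_iff.mp chkN_27 v (by omega) (by omega)
  by_cases h28 : v < 7250
  · exact allFrom_iff.mp chkN_28 v (by omega) (by omega)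
  by_cases h29 : v < 7500
  · exact allFrom_iff.mp chkN_29 v (by omega) (by omega)
  by_cases h30 : v < 7750
  · exact allFrom_iff.mp chkN_30 v (by omega) (by omega)
  by_cases h31 : v < 8000
  · exact allFrom_iff.mp chkN_31 v (by omega) (by omega)
  by_cases h32 : v < 8250
  · exact allFrom_iff.mp chkN_32 v (by omega) (by omega)
  by_cases h33 : v < 8500
  · exact allFrom_iff.mp chkN_33 v (by omega) (by omega)
  by_cases h34 : v < 8750
  · exact allFrom_iff.mp chkN_34 v (by omega) (by omega)
  by_cases h35 : v < 9000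
  · exact allFrom_iff.mp chkN_35 v (by omega) (by omega)
  by_cases h36 : v < 9250
  · exact allFrom_iff.mp chkN_36 v (by omega) (by omega)
  by_cases h37 : v < 9500
  · exact allFrom_iff.mp chkN_37 v (by omega) (by omega)
  by_cases h38 : v < 9750
  · exact allFrom_iff.mp chkN_38 v (by omega) (by omega)
  by_cases h39 : v < 10000
  · exact allFrom_iff.mp chkN_39 v (by omega) (by omega)
  by_cases h40 : v < 10250
  · exact allFrom_iff.mp chkN_40 v (by omega) (by omega)
  by_cases h41 : v < 10500
  · exact allFrom_iff.mp chkN_41 v (by omega) (by omega)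
  by_cases h42 : v < 10750
  · exact allFrom_iff.mp chkN_42 v (by omega) (by omega)
  by_cases h43 : v < 11000
  · exact allFrom_iff.mp chkN_43 v (by omega) (by omega)
  by_cases h44 : v < 11250
  · exact allFrom_iff.mp chkN_44 v (by omega) (by omega)
  by_cases h45 : v < 11500
  · exact allFrom_iff.mp chkN_45 v (by omega) (by omega)
  by_cases h46 : v < 11750
  · exact allFrom_iff.mp chkN_46 v (by omega) (by omega)
  by_cases h47 : v < 12000
  · exact allFrom_iff.mp chkN_47 v (by omega) (by omega)
  by_cases h48 : v < 12250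
  · exact allFrom_iff.mp chkN_48 v (by omega) (by omega)
  by_cases h49 : v < 12500
  · exact allFrom_iff.mp chkN_49 v (by omega) (by omega)
  by_cases h50 : v < 12750
  · exact allFrom_iff.mp chkN_50 v (by omega) (by omega)
  by_cases h51 : v < 13000
  · exact allFrom_iff.mp chkN_51 v (by omega) (by omega)
  by_cases h52 : v < 13250
  · exact allFrom_iff.mp chkN_52 v (by omega) (by omega)
  by_cases h53 : v < 13500
  · exact allFrom_iff.mp chkN_53 v (by omega) (by omega)
  by_cases h54 : v < 13750
  · exact allFrom_iff.mp chkN_54 v (by omega) (by omega)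
  by_cases h55 : v < 14000
  · exact allFrom_iff.mp chkN_55 v (by omega) (by omega)
  exact allFrom_iff.mp chkN_56 v (by omega) (by omega)

end Cfsg.Agent.Lib.Helper38.Fi22B
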