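import Cfsg.Agent.Lib.Helper38.Fi22BData

set_option maxRecDepth 100000
set_option maxHeartbeats 0

namespace Cfsg.Agent.Lib.Helper38.Fi22B

theorem chkV_12 : allFrom 6000 500 cert.chkV = true := by decide +kernel
theorem chkV_13 : allFrom 6500 500 cert.chkV = true := by decide +kernel
theorem chkV_14 : allFrom 7000 500 cert.chkV = true := by decide +kernel
theorem chkV_15 : allFrom 7500 500 cert.chkV = true := by decide +kernel
theorem chkV_16 : allFrom 8000 500 cert.chkV = true := by decide +kernel
theorem chkV_17 : allFrom 8500 500 cert.chkV = true := by decide +kernel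
theorem chkV_18 : allFrom 9000 500 cert.chkV = true := by decide +kernel
theorem chkV_19 : allFrom 9500 500 cert.chkV = true := by decide +kernel
theorem chkV_20 : allFrom 10000 500 cert.chkV = true := by decide +kernel
theorem chkV_21 : allFrom 10500 500 cert.chkV = true := by decide +kernel
theorem chkV_22 : allFrom 11000 500 cert.chkV = true := by decide +kernel
theorem chkV_23 : allFrom 11500 500 cert.chkV = true := by decide +kernel

end Cfsg.Agent.Lib.Helper38.Fi22B
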