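import Cfsg.Agent.Lib.Helper38.Fi22C5V0
import Cfsg.Agent.Lib.Helper38.Fi22C5V1

set_option maxRecDepth 100000
set_option maxHeartbeats 0

namespace Cfsg.Agent.Lib.Helper38.Fi22C5

theorem chkV_all : ∀ v < 9600, cert.chkV v = true := by
  intro v hv
  by_cases h0 : v < 500
  · exact allFrom_iff.mp chkV_0 v (by omega) (by omega)
  by_cases h1 : v < 1000
  · exact allFrom_iff.mp chkV_1 v (by omega) (by omega)
  by_cases h2 : v < 1500
  · exact allFrom_iff.mp chkV_2 v (by omega) (by omega)
  by_cases h3 : v < 2000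
  · exact allFrom_iff.mp chkV_3 v (by omega) (by omega)
  by_cases h4 : v < 2500
  · exact allFrom_iff.mp chkV_4 v (by omega) (by omega)
  by_cases h5 : v < 3000
  · exact allFrom_iff.mp chkV_5 v (by omega) (by omega)
  by_cases h6 : v < 3500
  · exact allFrom_iff.mp chkV_6 v (by omega) (by omega)
  by_cases h7 : v < 4000
  · exact allFrom_iff.mp chkV_7 v (by omega) (by omega)
  by_cases h8 : v < 4500
  · exact allFrom_iff.mp chkV_8 v (by omega) (by omega)
  by_cases h9 : v < 5000
  · exact allFrom_iff.mp chkV_9 v (by omega) (by omega)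
  by_cases h10 : v < 5500
  · exact allFrom_iff.mp chkV_10 v (by omega) (by omega)
  by_cases h11 : v < 6000
  · exact allFrom_iff.mp chkV_11 v (by omega) (by omega)
  by_cases h12 : v < 6500
  · exact allFrom_iff.mp chkV_12 v (by omega) (by omega)
  by_cases h13 : v < 7000
  · exact allFrom_iff.mp chkV_13 v (by omega) (by omega)
  by_cases h14 : v < 7500
  · exact allFrom_iff.mp chkV_14 v (by omega) (by omega)
  by_cases h15 : v < 8000
  · exact allFrom_iff.mp chkV_15 v (by omega) (by omega)
  by_cases h16 : v < 8500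
  · exact allFrom_iff.mp chkV_16 v (by omega) (by omega)
  by_cases h17 : v < 9000
  · exact allFrom_iff.mp chkV_17 v (by omega) (by omega)
  by_cases h18 : v < 9500
  · exact allFrom_iff.mp chkV_18 v (by omega) (by omega)
  exact allFrom_iff.mp chkV_19 v (by omega) (by omega)

end Cfsg.Agent.Lib.Helper38.Fi22C5
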