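import Cfsg.Agent.Lib.Helper38.Fi22x3510Data

set_option maxRecDepth 100000
set_option maxHeartbeats 0

namespace Cfsg.Agent.Lib.Helper38.Fi22x3510

theorem chkN_0 : allFrom 0 300 cert.chkN = true := by decide +kernel
theorem chkN_1 : allFrom 300 300 cert.chkN = true := by decide +kernel
theorem chkN_2 : allFrom 600 300 cert.chkN = true := by decide +kernel
theorem chkN_3 : allFrom 900 300 cert.chkN = true := by decide +kernel
theorem chkN_4 : allFrom 1200 300 cert.chkN = true := by decide +kernel
theorem chkN_5 : allFrom 1500 300 cert.chkN = true := by decide +kernel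
theorem chkN_6 : allFrom 1800 300 cert.chkN = true := by decide +kernel
theorem chkN_7 : allFrom 2100 300 cert.chkN = true := by decide +kernel
theorem chkN_8 : allFrom 2400 300 cert.chkN = true := by decide +kernel
theorem chkN_9 : allFrom 2700 300 cert.chkN = true := by decide +kernel
theorem chkN_10 : allFrom 3000 300 cert.chkN = true := by decide +kernel
theorem chkN_11 : allFrom 3300 210 cert.chkN = true := by decide +kernel

end Cfsg.Agent.Lib.Helper38.Fi22x3510
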