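import Cfsg.Agent.Lib.Helper38.Fi22x3510O0

set_option maxRecDepth 100000
set_option maxHeartbeats 0

namespace Cfsg.Agent.Lib.Helper38.Fi22x3510

theorem chkO_all : ∀ v < 3510, cert.chkO v = true := by
  intro v hv
  by_cases h0 : v < 300
  · exact allFrom_iff.mp chkO_0 v (by omega) (by omega)
  by_cases h1 : v < 600
  · exact allFrom_iff.mp chkO_1 v (by omega) (by omega)
  by_cases h2 : v < 900
  · exact allFrom_iff.mp chkO_2 v (by omega) (by omega)
  by_cases h3 : v < 1200
  · exact allFrom_iff.mp chkO_3 v (by omega) (by omega)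
  by_cases h4 : v < 1500
  · exact allFrom_iff.mp chkO_4 v (by omega) (by omega)
  by_cases h5 : v < 1800
  · exact allFrom_iff.mp chkO_5 v (by omega) (by omega)
  by_cases h6 : v < 2100
  · exact allFrom_iff.mp chkO_6 v (by omega) (by omega)
  by_cases h7 : v < 2400
  · exact allFrom_iff.mp chkO_7 v (by omega) (by omega)
  by_cases h8 : v < 2700
  · exact allFrom_iff.mp chkO_8 v (by omega) (by omega)
  by_cases h9 : v < 3000
  · exact allFrom_iff.mp chkO_9 v (by omega) (by omega)
  by_cases h10 : v < 3300
  · exact allFrom_iff.mp chkO_10 v (by omega) (by omega)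
  exact allFrom_iff.mp chkO_11 v (by omega) (by omega)

end Cfsg.Agent.Lib.Helper38.Fi22x3510
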