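import Cfsg.Agent.Lib.Helper38.Fi23BData

set_option maxRecDepth 100000
set_option maxHeartbeats 0

namespace Cfsg.Agent.Lib.Helper38.Fi23B

theorem chkN_120 : allFrom 30000 250 cert.chkN = true := by decide +kernel
theorem chkN_121 : allFrom 30250 250 cert.chkN = true := by decide +kernel
theorem chkN_122 : allFrom 30500 250 cert.chkN = true := by decide +kernel
theorem chkN_123 : allFrom 30750 250 cert.chkN = true := by decide +kernel
theorem chkN_124 : allFrom 31000 250 cert.chkN = true := by decide +kernel
theorem chkN_125 : allFrom 31250 250 cert.chkN = true := by decide +kernel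
theorem chkN_126 : allFrom 31500 171 cert.chkN = true := by decide +kernel

end Cfsg.Agent.Lib.Helper38.Fi23B
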