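import Cfsg.Agent.Lib.Helper38.Fi23BData

set_option maxRecDepth 100000
set_option maxHeartbeats 0

namespace Cfsg.Agent.Lib.Helper38.Fi23B

theorem chkN_108 : allFrom 27000 250 cert.chkN = true := by decide +kernel
theorem chkN_109 : allFrom 27250 250 cert.chkN = true := by decide +kernel
theorem chkN_110 : allFrom 27500 250 cert.chkN = true := by decide +kernel
theorem chkN_111 : allFrom 27750 250 cert.chkN = true := by decide +kernel
theorem chkN_112 : allFrom 28000 250 cert.chkN = true := by decide +kernel
theorem chkN_113 : allFrom 28250 250 cert.chkN = true := by decide +kernel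
theorem chkN_114 : allFrom 28500 250 cert.chkN = true := by decide +kernel
theorem chkN_115 : allFrom 28750 250 cert.chkN = true := by decide +kernel
theorem chkN_116 : allFrom 29000 250 cert.chkN = true := by decide +kernel
theorem chkN_117 : allFrom 29250 250 cert.chkN = true := by decide +kernel
theorem chkN_118 : allFrom 29500 250 cert.chkN = true := by decide +kernel
theorem chkN_119 : allFrom 29750 250 cert.chkN = true := by decide +kernel

end Cfsg.Agent.Lib.Helper38.Fi23B
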