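import Cfsg.Agent.Lib.Helper38.Fi23BData

set_option maxRecDepth 100000
set_option maxHeartbeats 0

namespace Cfsg.Agent.Lib.Helper38.Fi23B

theorem chkO_84 : allFrom 21000 250 cert.chkO = true := by decide +kernel
theorem chkO_85 : allFrom 21250 250 cert.chkO = true := by decide +kernel
theorem chkO_86 : allFrom 21500 250 cert.chkO = true := by decide +kernel
theorem chkO_87 : allFrom 21750 250 cert.chkO = true := by decide +kernel
theorem chkO_88 : allFrom 22000 250 cert.chkO = true := by decide +kernel
theorem chkO_89 : allFrom 22250 250 cert.chkO = true := by decide +kernel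
theorem chkO_90 : allFrom 22500 250 cert.chkO = true := by decide +kernel
theorem chkO_91 : allFrom 22750 250 cert.chkO = true := by decide +kernel
theorem chkO_92 : allFrom 23000 250 cert.chkO = true := by decide +kernel
theorem chkO_93 : allFrom 23250 250 cert.chkO = true := by decide +kernel
theorem chkO_94 : allFrom 23500 250 cert.chkO = true := by decide +kernel
theorem chkO_95 : allFrom 23750 250 cert.chkO = true := by decide +kernel

end Cfsg.Agent.Lib.Helper38.Fi23B
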