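import Cfsg.Agent.Lib.Helper38.Fi23BO0
import Cfsg.Agent.Lib.Helper38.Fi23BO1
import Cfsg.Agent.Lib.Helper38.Fi23BO2
import Cfsg.Agent.Lib.Helper38.Fi23BO3
import Cfsg.Agent.Lib.Helper38.Fi23BO4
import Cfsg.Agent.Lib.Helper38.Fi23BO5
import Cfsg.Agent.Lib.Helper38.Fi23BO6
import Cfsg.Agent.Lib.Helper38.Fi23BO7
import Cfsg.Agent.Lib.Helper38.Fi23BO8
import Cfsg.Agent.Lib.Helper38.Fi23BO9
import Cfsg.Agent.Lib.Helper38.Fi23BO10

set_option maxRecDepth 100000
set_option maxHeartbeats 0

namespace Cfsg.Agent.Lib.Helper38.Fi23B

theorem chkO_all : ∀ v < 31671, cert.chkO v = true := by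
  intro v hv
  by_cases h0 : v < 250
  · exact allFrom_iff.mp chkO_0 v (by omega) (by omega)
  by_cases h1 : v < 500
  · exact allFrom_iff.mp chkO_1 v (by omega) (by omega)
  by_cases h2 : v < 750
  · exact allFrom_iff.mp chkO_2 v (by omega) (by omega)
  by_cases h3 : v < 1000
  · exact allFrom_iff.mp chkO_3 v (by omega) (by omega)
  by_cases h4 : v < 1250
  · exact allFrom_iff.mp chkO_4 v (by omega) (by omega)
  by_cases h5 : v < 1500
  · exact allFrom_iff.mp chkO_5 v (by omega) (by omega)
  by_cases h6 : v < 1750
  · exact allFrom_iff.mp chkO_6 v (by omega) (by omega)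
  by_cases h7 : v < 2000
  · exact allFrom_iff.mp chkO_7 v (by omega) (by omega)
  by_cases h8 : v < 2250
  · exact allFrom_iff.mp chkO_8 v (by omega) (by omega)
  by_cases h9 : v < 2500
  · exact allFrom_iff.mp chkO_9 v (by omega) (by omega)
  by_cases h10 : v < 2750
  · exact allFrom_iff.mp chkO_10 v (by omega) (by omega)
  by_cases h11 : v < 3000
  · exact allFrom_iff.mp chkO_11 v (by omega) (by omega)
  by_cases h12 : v < 3250
  · exact allFrom_iff.mp chkO_12 v (by omega) (by omega)
  by_cases h13 : v < 3500
  · exact allFrom_iff.mp chkO_13 v (by omega) (by omega)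
  by_cases h14 : v < 3750
  · exact allFrom_iff.mp chkO_14 v (by omega) (by omega)
  by_cases h15 : v < 4000
  · exact allFrom_iff.mp chkO_15 v (by omega) (by omega)
  by_cases h16 : v < 4250
  · exact allFrom_iff.mp chkO_16 v (by omega) (by omega)
  by_cases h17 : v < 4500
  · exact allFrom_iff.mp chkO_17 v (by omega) (by omega)
  by_cases h18 : v < 4750
  · exact allFrom_iff.mp chkO_18 v (by omega) (by omega)
  by_cases h19 : v < 5000
  · exact allFrom_iff.mp chkO_19 v (by omega) (by omega)
  by_cases h20 : v < 5250
  · exact allFrom_iff.mp chkO_20 v (by omega) (by omega)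
  by_cases h21 : v < 5500
  · exact allFrom_iff.mp chkO_21 v (by omega) (by omega)
  by_cases h22 : v < 5750
  · exact allFrom_iff.mp chkO_22 v (by omega) (by omega)
  by_cases h23 : v < 6000
  · exact allFrom_iff.mp chkO_23 v (by omega) (by omega)
  by_cases h24 : v < 6250
  · exact allFrom_iff.mp chkO_24 v (by omega) (by omega)
  by_cases h25 : v < 6500
  · exact allFrom_iff.mp chkO_25 v (by omega) (by omega)
  by_cases h26 : v < 6750
  · exact allFrom_iff.mp chkO_26 v (by omega) (by omega)
  by_cases h27 : v < 7000
  · exact allFrom_iff.mp chkO_27 v (by omega) (by omega)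
  by_cases h28 : v < 7250
  · exact allFrom_iff.mp chkO_28 v (by omega) (by omega)
  by_cases h29 : v < 7500
  · exact allFrom_iff.mp chkO_29 v (by omega) (by omega)
  by_cases h30 : v < 7750
  · exact allFrom_iff.mp chkO_30 v (by omega) (by omega)
  by_cases h31 : v < 8000
  · exact allFrom_iff.mp chkO_31 v (by omega) (by omega)
  by_cases h32 : v < 8250
  · exact allFrom_iff.mp chkO_32 v (by omega) (by omega)
  by_cases h33 : v < 8500
  · exact allFrom_iff.mp chkO_33 v (by omega) (by omega)
  by_cases h34 : v < 8750
  · exact allFrom_iff.mp chkO_34 v (by omega) (by omega)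
  by_cases h35 : v < 9000
  · exact allFrom_iff.mp chkO_35 v (by omega) (by omega)
  by_cases h36 : v < 9250
  · exact allFrom_iff.mp chkO_36 v (by omega) (by omega)
  by_cases h37 : v < 9500
  · exact allFrom_iff.mp chkO_37 v (by omega) (by omega)
  by_cases h38 : v < 9750
  · exact allFrom_iff.mp chkO_38 v (by omega) (by omega)
  by_cases h39 : v < 10000
  · exact allFrom_iff.mp chkO_39 v (by omega) (by omega)
  by_cases h40 : v < 10250
  · exact allFrom_iff.mp chkO_40 v (by omega) (by omega)
  by_cases h41 : v < 10500
  · exact allFrom_iff.mp chkO_41 v (by omega) (by omega)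
  by_cases h42 : v < 10750
  · exact allFrom_iff.mp chkO_42 v (by omega) (by omega)
  by_cases h43 : v < 11000
  · exact allFrom_iff.mp chkO_43 v (by omega) (by omega)
  by_cases h44 : v < 11250
  · exact allFrom_iff.mp chkO_44 v (by omega) (by omega)
  by_cases h45 : v < 11500
  · exact allFrom_iff.mp chkO_45 v (by omega) (by omega)
  by_cases h46 : v < 11750
  · exact allFrom_iff.mp chkO_46 v (by omega) (by omega)
  by_cases h47 : v < 12000
  · exact allFrom_iff.mp chkO_47 v (by omega) (by omega)
  by_cases h48 : v < 12250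
  · exact allFrom_iff.mp chkO_48 v (by omega) (by omega)
  by_cases h49 : v < 12500
  · exact allFrom_iff.mp chkO_49 v (by omega) (by omega)
  by_cases h50 : v < 12750
  · exact allFrom_iff.mp chkO_50 v (by omega) (by omega)
  by_cases h51 : v < 13000
  · exact allFrom_iff.mp chkO_51 v (by omega) (by omega)
  by_cases h52 : v < 13250
  · exact allFrom_iff.mp chkO_52 v (by omega) (by omega)
  by_cases h53 : v < 13500
  · exact allFrom_iff.mp chkO_53 v (by omega) (by omega)
  by_cases h54 : v < 13750
  · exact allFrom_iff.mp chkO_54 v (by omega) (by omega)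
  by_cases h55 : v < 14000
  · exact allFrom_iff.mp chkO_55 v (by omega) (by omega)
  by_cases h56 : v < 14250
  · exact allFrom_iff.mp chkO_56 v (by omega) (by omega)
  by_cases h57 : v < 14500
  · exact allFrom_iff.mp chkO_57 v (by omega) (by omega)
  by_cases h58 : v < 14750
  · exact allFrom_iff.mp chkO_58 v (by omega) (by omega)
  by_cases h59 : v < 15000
  · exact allFrom_iff.mp chkO_59 v (by omega) (by omega)
  by_cases h60 : v < 15250
  · exact allFrom_iff.mp chkO_60 v (by omega) (by omega)
  by_cases h61 : v < 15500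
  · exact allFrom_iff.mp chkO_61 v (by omega) (by omega)
  by_cases h62 : v < 15750
  · exact allFrom_iff.mp chkO_62 v (by omega) (by omega)
  by_cases h63 : v < 16000
  · exact allFrom_iff.mp chkO_63 v (by omega) (by omega)
  by_cases h64 : v < 16250
  · exact allFrom_iff.mp chkO_64 v (by omega) (by omega)
  by_cases h65 : v < 16500
  · exact allFrom_iff.mp chkO_65 v (by omega) (by omega)
  by_cases h66 : v < 16750
  · exact allFrom_iff.mp chkO_66 v (by omega) (by omega)
  by_cases h67 : v < 17000
  · exact allFrom_iff.mp chkO_67 v (by omega) (by omega)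
  by_cases h68 : v < 17250
  · exact allFrom_iff.mp chkO_68 v (by omega) (by omega)
  by_cases h69 : v < 17500
  · exact allFrom_iff.mp chkO_69 v (by omega) (by omega)
  by_cases h70 : v < 17750
  · exact allFrom_iff.mp chkO_70 v (by omega) (by omega)
  by_cases h71 : v < 18000
  · exact allFrom_iff.mp chkO_71 v (by omega) (by omega)
  by_cases h72 : v < 18250
  · exact allFrom_iff.mp chkO_72 v (by omega) (by omega)
  by_cases h73 : v < 18500
  · exact allFrom_iff.mp chkO_73 v (by omega) (by omega)
  by_cases h74 : v < 18750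
  · exact allFrom_iff.mp chkO_74 v (by omega) (by omega)
  by_cases h75 : v < 19000
  · exact allFrom_iff.mp chkO_75 v (by omega) (by omega)
  by_cases h76 : v < 19250
  · exact allFrom_iff.mp chkO_76 v (by omega) (by omega)
  by_cases h77 : v < 19500
  · exact allFrom_iff.mp chkO_77 v (by omega) (by omega)
  by_cases h78 : v < 19750
  · exact allFrom_iff.mp chkO_78 v (by omega) (by omega)
  by_cases h79 : v < 20000
  · exact allFrom_iff.mp chkO_79 v (by omega) (by omega)
  by_cases h80 : v < 20250
  · exact allFrom_iff.mp chkO_80 v (by omega) (by omega)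
  by_cases h81 : v < 20500
  · exact allFrom_iff.mp chkO_81 v (by omega) (by omega)
  by_cases h82 : v < 20750
  · exact allFrom_iff.mp chkO_82 v (by omega) (by omega)
  by_cases h83 : v < 21000
  · exact allFrom_iff.mp chkO_83 v (by omega) (by omega)
  by_cases h84 : v < 21250
  · exact allFrom_iff.mp chkO_84 v (by omega) (by omega)
  by_cases h85 : v < 21500
  · exact allFrom_iff.mp chkO_85 v (by omega) (by omega)
  by_cases h86 : v < 21750
  · exact allFrom_iff.mp chkO_86 v (by omega) (by omega)
  by_cases h87 : v < 22000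
  · exact allFrom_iff.mp chkO_87 v (by omega) (by omega)
  by_cases h88 : v < 22250
  · exact allFrom_iff.mp chkO_88 v (by omega) (by omega)
  by_cases h89 : v < 22500
  · exact allFrom_iff.mp chkO_89 v (by omega) (by omega)
  by_cases h90 : v < 22750
  · exact allFrom_iff.mp chkO_90 v (by omega) (by omega)
  by_cases h91 : v < 23000
  · exact allFrom_iff.mp chkO_91 v (by omega) (by omega)
  by_cases h92 : v < 23250
  · exact allFrom_iff.mp chkO_92 v (by omega) (by omega)
  by_cases h93 : v < 23500
  · exact allFrom_iff.mp chkO_93 v (by omega) (by omega)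
  by_cases h94 : v < 23750
  · exact allFrom_iff.mp chkO_94 v (by omega) (by omega)
  by_cases h95 : v < 24000
  · exact allFrom_iff.mp chkO_95 v (by omega) (by omega)
  by_cases h96 : v < 24250
  · exact allFrom_iff.mp chkO_96 v (by omega) (by omega)
  by_cases h97 : v < 24500
  · exact allFrom_iff.mp chkO_97 v (by omega) (by omega)
  by_cases h98 : v < 24750
  · exact allFrom_iff.mp chkO_98 v (by omega) (by omega)
  by_cases h99 : v < 25000
  · exact allFrom_iff.mp chkO_99 v (by omega) (by omega)
  by_cases h100 : v < 25250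
  · exact allFrom_iff.mp chkO_100 v (by omega) (by omega)
  by_cases h101 : v < 25500
  · exact allFrom_iff.mp chkO_101 v (by omega) (by omega)
  by_cases h102 : v < 25750
  · exact allFrom_iff.mp chkO_102 v (by omega) (by omega)
  by_cases h103 : v < 26000
  · exact allFrom_iff.mp chkO_103 v (by omega) (by omega)
  by_cases h104 : v < 26250
  · exact allFrom_iff.mp chkO_104 v (by omega) (by omega)
  by_cases h105 : v < 26500
  · exact allFrom_iff.mp chkO_105 v (by omega) (by omega)
  by_cases h106 : v < 26750
  · exact allFrom_iff.mp chkO_106 v (by omega) (by omega)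
  by_cases h107 : v < 27000
  · exact allFrom_iff.mp chkO_107 v (by omega) (by omega)
  by_cases h108 : v < 27250
  · exact allFrom_iff.mp chkO_108 v (by omega) (by omega)
  by_cases h109 : v < 27500
  · exact allFrom_iff.mp chkO_109 v (by omega) (by omega)
  by_cases h110 : v < 27750
  · exact allFrom_iff.mp chkO_110 v (by omega) (by omega)
  by_cases h111 : v < 28000
  · exact allFrom_iff.mp chkO_111 v (by omega) (by omega)
  by_cases h112 : v < 28250
  · exact allFrom_iff.mp chkO_112 v (by omega) (by omega)
  by_cases h113 : v < 28500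
  · exact allFrom_iff.mp chkO_113 v (by omega) (by omega)
  by_cases h114 : v < 28750
  · exact allFrom_iff.mp chkO_114 v (by omega) (by omega)
  by_cases h115 : v < 29000
  · exact allFrom_iff.mp chkO_115 v (by omega) (by omega)
  by_cases h116 : v < 29250
  · exact allFrom_iff.mp chkO_116 v (by omega) (by omega)
  by_cases h117 : v < 29500
  · exact allFrom_iff.mp chkO_117 v (by omega) (by omega)
  by_cases h118 : v < 29750
  · exact allFrom_iff.mp chkO_118 v (by omega) (by omega)
  by_cases h119 : v < 30000
  · exact allFrom_iff.mp chkO_119 v (by omega) (by omega)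
  by_cases h120 : v < 30250
  · exact allFrom_iff.mp chkO_120 v (by omega) (by omega)
  by_cases h121 : v < 30500
  · exact allFrom_iff.mp chkO_121 v (by omega) (by omega)
  by_cases h122 : v < 30750
  · exact allFrom_iff.mp chkO_122 v (by omega) (by omega)
  by_cases h123 : v < 31000
  · exact allFrom_iff.mp chkO_123 v (by omega) (by omega)
  by_cases h124 : v < 31250
  · exact allFrom_iff.mp chkO_124 v (by omega) (by omega)
  by_cases h125 : v < 31500
  · exact allFrom_iff.mp chkO_125 v (by omega) (by omega)
  exact allFrom_iff.mp chkO_126 v (by omega) (by omega)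

end Cfsg.Agent.Lib.Helper38.Fi23B
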