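import Cfsg.Agent.Lib.Helper38.Fi23BData

set_option maxRecDepth 100000
set_option maxHeartbeats 0

namespace Cfsg.Agent.Lib.Helper38.Fi23B

theorem chkV_48 : allFrom 24000 500 cert.chkV = true := by decide +kernel
theorem chkV_49 : allFrom 24500 500 cert.chkV = true := by decide +kernel
theorem chkV_50 : allFrom 25000 500 cert.chkV = true := by decide +kernel
theorem chkV_51 : allFrom 25500 500 cert.chkV = true := by decide +kernel
theorem chkV_52 : allFrom 26000 500 cert.chkV = true := by decide +kernel
theorem chkV_53 : allFrom 26500 500 cert.chkV = true := by decide +kernel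
theorem chkV_54 : allFrom 27000 500 cert.chkV = true := by decide +kernel
theorem chkV_55 : allFrom 27500 500 cert.chkV = true := by decide +kernel
theorem chkV_56 : allFrom 28000 500 cert.chkV = true := by decide +kernel
theorem chkV_57 : allFrom 28500 500 cert.chkV = true := by decide +kernel
theorem chkV_58 : allFrom 29000 500 cert.chkV = true := by decide +kernel
theorem chkV_59 : allFrom 29500 500 cert.chkV = true := by decide +kernel

end Cfsg.Agent.Lib.Helper38.Fi23B
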