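import Cfsg.Agent.Lib.Helper38.Fi23BData

set_option maxRecDepth 100000
set_option maxHeartbeats 0

namespace Cfsg.Agent.Lib.Helper38.Fi23B

theorem chkV_84 : allFrom 42000 500 cert.chkV = true := by decide +kernel
theorem chkV_85 : allFrom 42500 500 cert.chkV = true := by decide +kernel
theorem chkV_86 : allFrom 43000 500 cert.chkV = true := by decide +kernel
theorem chkV_87 : allFrom 43500 500 cert.chkV = true := by decide +kernel
theorem chkV_88 : allFrom 44000 500 cert.chkV = true := by decide +kernel
theorem chkV_89 : allFrom 44500 500 cert.chkV = true := by decide +kernel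
theorem chkV_90 : allFrom 45000 500 cert.chkV = true := by decide +kernel
theorem chkV_91 : allFrom 45500 500 cert.chkV = true := by decide +kernel
theorem chkV_92 : allFrom 46000 500 cert.chkV = true := by decide +kernel
theorem chkV_93 : allFrom 46500 500 cert.chkV = true := by decide +kernel
theorem chkV_94 : allFrom 47000 500 cert.chkV = true := by decide +kernel
theorem chkV_95 : allFrom 47500 500 cert.chkV = true := by decide +kernel

end Cfsg.Agent.Lib.Helper38.Fi23B
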