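import Cfsg.Agent.Lib.Helper38.Fi23BData

set_option maxRecDepth 100000
set_option maxHeartbeats 0

namespace Cfsg.Agent.Lib.Helper38.Fi23B

theorem chkV_96 : allFrom 48000 500 cert.chkV = true := by decide +kernel
theorem chkV_97 : allFrom 48500 500 cert.chkV = true := by decide +kernel
theorem chkV_98 : allFrom 49000 237 cert.chkV = true := by decide +kernel

end Cfsg.Agent.Lib.Helper38.Fi23B
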