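import Mathlib
import Cfsg.Prelude.Def_GeometricClasses
import Cfsg.Prelude.Def_LieClassical
import Cfsg.Agent.Lib.Helper71.Asch0
import Cfsg.Agent.Lib.Helper71.Asch8
import Cfsg.Agent.Lib.Helper86.ASB8Defs
import Cfsg.Agent.Lib.Helper86.ASB8Main
import Cfsg.Agent.Lib.Helper57.ASCOREA
import Cfsg.Agent.Lib.Helper82.ASCOREB

/-! Project O9 (helper44, S5835), piece B8X: the tensor-induced branch with its data `m`, `e`, `P`
(the proofs of `Helper86.ASB8Main.B8_of` and `Helper71.ASB8WR.wreath_mem`, keeping the data). -/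

set_option autoImplicit false

namespace Cfsg.Agent.Lib.Helper44.O9

open Matrix Cfsg.Geo Cfsg.Agent.Lib.Helper86.ASB8
open Cfsg.Agent.Lib.Helper71.Asch (Nrm InCls tmat)
open scoped Kronecker

variable {n : ℕ} {F : Type*} [Field F] [Fintype F]

/-- `wreath_mem` of `Helper71.ASB8WR`, keeping the conjugation formula. -/
theorem B8X_wreath {n m k : ℕ} {F : Type*} [Field F] (P : Matrix (Fin n) (Fin k → Fin m) F)
    (Q : Matrix (Fin k → Fin m) (Fin n) F) (hPQ : P * Q = 1) (hQP : Q * P = 1) :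
    ∃ (e : Fin n ≃ (Fin k → Fin m)) (P' : GL (Fin n) F),
      (∀ (h : GL (Fin n) F) (g : GL (Fin k → Fin m) F), g ∈ tensorWreathStandard m k F →
        h.1 = P * g.1 * Q → h ∈ tensorWreathSubgroup m k e P') ∧
      ∀ M : Matrix (Fin k → Fin m) (Fin k → Fin m) F,
        P * M * Q = P'.1 * Matrix.reindex e.symm e.symm M * (P'⁻¹ : GL (Fin n) F).1 := by
  have hcard : Fintype.card (Fin n) = Fintype.card (Fin k → Fin m) := by
    have le : ((Fin k → Fin m) → F) ≃ₗ[F] (Fin n → F) :=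
      LinearEquiv.ofLinearMap (Matrix.toLin' P) (Matrix.toLin' Q)
        (by rw [← Matrix.toLin'_mul, hPQ, Matrix.toLin'_one])
        (by rw [← Matrix.toLin'_mul, hQP, Matrix.toLin'_one])
    have h1 := le.finrank_eq
    rw [Module.finrank_fintype_fun_eq_card, Module.finrank_fintype_fun_eq_card] at h1
    exact h1.symm
  let e : Fin n ≃ (Fin k → Fin m) := Fintype.equivOfCardEq hcard
  have h1 : P.submatrix id e * Q.submatrix e id = 1 := by
    rw [Matrix.submatrix_mul_equiv, hPQ, Matrix.submatrix_one _ Function.injective_id]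
  have h2 : Q.submatrix e id * P.submatrix id e = 1 := by
    rw [← Matrix.submatrix_mul _ _ _ _ _ Function.bijective_id, hQP, Matrix.submatrix_one_equiv]
  have hconj : ∀ M : Matrix (Fin k → Fin m) (Fin k → Fin m) F,
      P * M * Q = P.submatrix id e * Matrix.reindex e.symm e.symm M * Q.submatrix e id := by
    intro M
    rw [Matrix.reindex_apply, Equiv.symm_symm, Matrix.submatrix_mul_equiv,
      Matrix.submatrix_mul_equiv, Matrix.submatrix_id_id]
  refine ⟨e, ⟨P.submatrix id e, Q.submatrix e id, h1, h2⟩, ?_, ?_⟩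
  · intro h g hg hh
    rw [Cfsg.Agent.Lib.Helper71.Asch.mem_tensorWreathSubgroup_iff]
    refine ⟨g, hg, ?_⟩
    rw [hh]
    exact hconj g.1
  · intro M
    exact hconj M

theorem B8X (hn : 3 ≤ n) (H L : Subgroup (GL (Fin n) F))
    (hLa : ActsAbsolutelyIrreducibly (matrixSet L))
    (k : ℕ) (Ps : Fin k → Subgroup (GL (Fin n) F)) (hk : 2 ≤ k)
    (hns : ∀ i, ¬ Ps i ≤ scalars (Fin n) F)
    (hcomm : ∀ i j, i ≠ j → ∀ x ∈ Ps i, ∀ y ∈ Ps j, x * y = y * x)
    (hsup : L = ⨆ i, Ps i)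
    (hperm : ∀ h ∈ H, ∃ σ : Equiv.Perm (Fin k), ∀ i,
      (Ps i).map (MulAut.conj h).toMonoidHom = Ps (σ i))
    (htrans : ∀ i j, ∃ h ∈ H, (Ps i).map (MulAut.conj h).toMonoidHom = Ps j) :
    ∃ (m : ℕ) (e : Fin n ≃ (Fin k → Fin m)) (P : GL (Fin n) F), 2 ≤ m ∧
      H ≤ tensorWreathSubgroup m k e P ∧
      ∀ (i : Fin k) (X : Matrix (Fin n) (Fin n) F),
        X ∈ Submodule.span F (matrixSet (Ps i)) ↔
          ∃ A : Matrix (Fin m) (Fin m) F, X = P.1 *
            Matrix.reindex e.symm e.symm (Cfsg.Agent.Lib.Helper86.ASB8.iota i A) *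
            (P⁻¹ : GL (Fin n) F).1 := by
  have hcoreA : ∀ G N : Subgroup (GL (Fin n) F), ActsIrreducibly (matrixSet G) → N ≤ G → Nrm G N →
      (∃ (t m : ℕ) (D : Fin t → Submodule F (Fin n → F)), IsMDecomposition m D ∧
        G ≤ decompositionStabilizer D ∧
        (∀ i, ∀ X : Matrix (Fin n) (Fin n) F, (∀ x ∈ N, X * x.1 = x.1 * X) →
          (D i).map (Matrix.toLin' X) ≤ D i) ∧
        (∀ i, ∀ x ∈ N, (D i).map (Matrix.toLin' x.1) ≤ D i)) ∨
      (∃ (d k : ℕ) (e : Fin n ≃ Fin d × Fin k) (P : GL (Fin n) F) (R : Subgroup (GL (Fin d) F)),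
        ActsIrreducibly (matrixSet R) ∧ (∀ x ∈ N, ∃ y ∈ R, x.1 = tmat e P y.1 1) ∧
        (∀ y ∈ R, ∃ x ∈ N, x.1 = tmat e P y.1 1)) :=
    fun G N hG hNG hN => Cfsg.Agent.Lib.Helper57.ASCOREA.coreA (by omega) G N hG hNG hN
  have hcoreB : ∀ G N : Subgroup (GL (Fin n) F), N ≤ G → Nrm G N → ∀ {d k : ℕ}
      (e : Fin n ≃ Fin d × Fin k) (P : GL (Fin n) F) (R : Subgroup (GL (Fin d) F)),
      ActsIrreducibly (matrixSet R) → (∀ x ∈ N, ∃ y ∈ R, x.1 = tmat e P y.1 1) →
      (∀ y ∈ R, ∃ x ∈ N, x.1 = tmat e P y.1 1) → ¬ ActsAbsolutelyIrreducibly (matrixSet R) →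
      ∃ (r : ℕ) (K : Subalgebra F (Matrix (Fin n) (Fin n) F)), r.Prime ∧ IsFieldSubalgebra r K ∧
        G ≤ subalgebraNormalizer K ∧
        (∀ z ∈ K, (∀ x ∈ N, z * x.1 = x.1 * z) ∧
          ∀ X : Matrix (Fin n) (Fin n) F, (∀ x ∈ N, X * x.1 = x.1 * X) → z * X = X * z) :=
    fun G N hNG hN {_ _} e P R hR h1 h2 hna =>
      Cfsg.Agent.Lib.Helper82.ASCOREB.coreB (by omega) G N hNG hN e P R hR h1 h2 hna
  classical
  have hn1 : 1 ≤ n := by omega
  -- matrix units for each `i`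
  have hU : ∀ i, ∃ (d : ℕ) (E : Fin d → Fin d → Matrix (Fin n) (Fin n) F), IsMU E ∧
      ∀ X : Matrix (Fin n) (Fin n) F, X ∈ Submodule.span F (matrixSet (Ps i)) ↔
        ∃ A : Matrix (Fin d) (Fin d) F, X = ∑ a, ∑ b, A a b • E a b := by
    intro i
    obtain ⟨d, k', e, P, R, hR, h1, h2⟩ := Cfsg.Agent.Lib.Helper86.ASB8HOM.hom hn1 L hLa k Ps hcomm hsup hcoreA hcoreB i
    obtain ⟨E, hE, hs⟩ := Cfsg.Agent.Lib.Helper82.ASB8UNITS.units e P R (Ps i) (Cfsg.Agent.Lib.Helper83.ASB8BURN.burnside R hR) h1 h2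
    exact ⟨d, E, hE, hs⟩
  -- the common size `m`
  obtain ⟨m, E₀, hE₀, hs₀⟩ := hU ⟨0, by omega⟩
  have hU' : ∀ i, ∃ (E : Fin m → Fin m → Matrix (Fin n) (Fin n) F), IsMU E ∧
      ∀ X : Matrix (Fin n) (Fin n) F, X ∈ Submodule.span F (matrixSet (Ps i)) ↔
        ∃ A : Matrix (Fin m) (Fin m) F, X = ∑ a, ∑ b, A a b • E a b := by
    intro i
    obtain ⟨d, E, hE, hs⟩ := hU i
    obtain ⟨h, -, hh⟩ := htrans ⟨0, by omega⟩ i
    have hd : m = d := Cfsg.Agent.Lib.Helper59.ASB8DIM.dim_eq hn1 E₀ E hE₀ hE (Ps ⟨0, by omega⟩) (Ps i) h hh hs₀ hs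
    subst hd
    exact ⟨E, hE, hs⟩
  choose E hE hs using hU'
  have hm2 : 2 ≤ m :=
    Cfsg.Agent.Lib.Helper59.ASB8SCAL.two_le_of_not_scalar hn1 (E ⟨0, by omega⟩) (hE _) (Ps ⟨0, by omega⟩) (hs _) (hns _)
  have hEmem : ∀ i a b, E i a b ∈ Submodule.span F (matrixSet (Ps i)) := by
    intro i a b
    rw [hs i]
    refine ⟨Matrix.single a b 1, ?_⟩
    rw [Finset.sum_eq_single a, Finset.sum_eq_single b]
    · simp
    · intro b' _ hb'
      simp [hb'.symm]
    · simp
    · intro a' _ ha'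
      apply Finset.sum_eq_zero
      intro b' _
      simp [ha'.symm]
    · simp
  have hspan_comm : ∀ i j, i ≠ j → ∀ X ∈ Submodule.span F (matrixSet (Ps i)),
      ∀ Y ∈ Submodule.span F (matrixSet (Ps j)), X * Y = Y * X := by
    intro i j hij X hX Y hY
    induction hX using Submodule.span_induction with
    | mem X hX =>
      obtain ⟨x, hx, rfl⟩ := hX
      induction hY using Submodule.span_induction with
      | mem Y hY =>
        obtain ⟨y, hy, rfl⟩ := hY
        have := hcomm i j hij x hx y hy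
        rw [← Units.val_mul, ← Units.val_mul, this]
      | zero => simp
      | add Y₁ Y₂ _ _ h₁ h₂ => rw [mul_add, add_mul, h₁, h₂]
      | smul c Y₁ _ h₁ => rw [Matrix.mul_smul, Matrix.smul_mul, h₁]
    | zero => simp
    | add X₁ X₂ _ _ h₁ h₂ => rw [mul_add, add_mul, h₁, h₂]
    | smul c X₁ _ h₁ => rw [Matrix.mul_smul, Matrix.smul_mul, h₁]
  have hEcomm : ∀ i j, i ≠ j → ∀ a b c d, E i a b * E j c d = E j c d * E i a b :=
    fun i j hij a b c d => hspan_comm i j hij _ (hEmem i a b) _ (hEmem j c d)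
  obtain ⟨B, hB, hBE⟩ := Cfsg.Agent.Lib.Helper82.ASB8BIG.big_units E hE hEcomm
  have hBcomm : ∀ M : Matrix (Fin n) (Fin n) F, (∀ x y, M * B x y = B x y * M) →
      ∃ c : F, M = c • (1 : Matrix (Fin n) (Fin n) F) := by
    intro M hM
    apply hLa.2
    have h1 : ∀ i a b, M * E i a b = E i a b * M := by
      intro i a b
      rw [hBE i a b, Finset.mul_sum, Finset.sum_mul]
      apply Finset.sum_congr rfl
      intro x _
      split_ifs
      · exact hM _ _
      · simp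
    have h2 : ∀ i, ∀ X ∈ Submodule.span F (matrixSet (Ps i)), M * X = X * M := by
      intro i X hX
      obtain ⟨A, rfl⟩ := (hs i X).mp hX
      simp only [Finset.mul_sum, Finset.sum_mul, Matrix.mul_smul, Matrix.smul_mul, h1]
    rintro s ⟨x, hx, rfl⟩
    have hx' : x ∈ ⨆ i, Ps i := hsup ▸ hx
    refine Subgroup.iSup_induction Ps (C := fun x => M * x.1 = x.1 * M) hx' ?_ ?_ ?_
    · intro i y hy
      exact h2 i _ (Submodule.subset_span ⟨y, hy, rfl⟩)
    · simp
    · intro y z hy hz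
      rw [Units.val_mul, ← mul_assoc, hy, mul_assoc, hz, mul_assoc]
  obtain ⟨P, Q, hPQ, hQP, hBPQ⟩ := Cfsg.Agent.Lib.Helper34.ASB8MU.mu_conj hn1 B hB hBcomm
  have hEP : ∀ i a b, E i a b = P * iota i (Matrix.single a b (1 : F)) * Q := by
    intro i a b
    rw [hBE i a b, Cfsg.Agent.Lib.Helper86.ASB8IOTA.iota_single, Matrix.mul_sum, Matrix.sum_mul]
    apply Finset.sum_congr rfl
    intro x _
    split_ifs
    · exact hBPQ _ _
    · simp
  have hsP : ∀ i (X : Matrix (Fin n) (Fin n) F), X ∈ Submodule.span F (matrixSet (Ps i)) ↔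
      ∃ A : Matrix (Fin m) (Fin m) F, X = P * iota i A * Q := by
    intro i X
    rw [hs i]
    have key : ∀ A : Matrix (Fin m) (Fin m) F,
        ∑ a, ∑ b, A a b • E i a b = P * iota i A * Q := by
      intro A
      rw [Cfsg.Agent.Lib.Helper86.ASB8IOTA.iota_eq_sum i A]
      simp only [Matrix.mul_sum, Matrix.sum_mul, Matrix.mul_smul, Matrix.smul_mul, hEP]
    constructor
    · rintro ⟨A, rfl⟩
      exact ⟨A, key A⟩
    · rintro ⟨A, rfl⟩
      exact ⟨A, (key A).symm⟩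
  obtain ⟨e, P', hW, hconjP⟩ := B8X_wreath P Q hPQ hQP
  have hHW : H ≤ tensorWreathSubgroup m k e P' := by
    intro h hh
    obtain ⟨σ, hσ⟩ := hperm h hh
    have hg1 : Q * h.1 * P * (Q * (h⁻¹ : GL (Fin n) F).1 * P) = 1 := by
      calc Q * h.1 * P * (Q * (h⁻¹ : GL (Fin n) F).1 * P)
          = Q * (h.1 * (P * Q) * (h⁻¹ : GL (Fin n) F).1) * P := by
            simp only [Matrix.mul_assoc]
        _ = 1 := by
            rw [hPQ, Matrix.mul_one, ← Units.val_mul, mul_inv_cancel, Units.val_one,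
              Matrix.mul_one, hQP]
    have hg2 : Q * (h⁻¹ : GL (Fin n) F).1 * P * (Q * h.1 * P) = 1 := by
      calc Q * (h⁻¹ : GL (Fin n) F).1 * P * (Q * h.1 * P)
          = Q * ((h⁻¹ : GL (Fin n) F).1 * (P * Q) * h.1) * P := by
            simp only [Matrix.mul_assoc]
        _ = 1 := by
            rw [hPQ, Matrix.mul_one, ← Units.val_mul, inv_mul_cancel, Units.val_one,
              Matrix.mul_one, hQP]
    apply hW h ⟨Q * h.1 * P, Q * (h⁻¹ : GL (Fin n) F).1 * P, hg1, hg2⟩ ?_ ?_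
    · apply Cfsg.Agent.Lib.Helper86.ASB8Main.norm_wreath (by omega) (by omega) _ σ
      intro i A
      have hX : P * iota i A * Q ∈ Submodule.span F (matrixSet (Ps i)) :=
        (hsP i _).mpr ⟨A, rfl⟩
      have hconj : ∀ X ∈ Submodule.span F (matrixSet (Ps i)),
          h.1 * X * (h⁻¹ : GL (Fin n) F).1 ∈ Submodule.span F (matrixSet (Ps (σ i))) := by
        intro X hX
        induction hX using Submodule.span_induction with
        | mem X hX =>
          obtain ⟨x, hx, rfl⟩ := hX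
          apply Submodule.subset_span
          refine ⟨h * x * h⁻¹, ?_, by simp⟩
          rw [← hσ i]
          exact ⟨x, hx, by simp [MulAut.conj_apply]⟩
        | zero => simp
        | add X₁ X₂ _ _ h₁ h₂ =>
          rw [mul_add, add_mul]
          exact Submodule.add_mem _ h₁ h₂
        | smul c X₁ _ h₁ =>
          rw [Matrix.mul_smul, Matrix.smul_mul]
          exact Submodule.smul_mem _ c h₁
      obtain ⟨A', hA'⟩ := (hsP (σ i) _).mp (hconj _ hX)
      refine ⟨A', ?_⟩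
      show Q * h.1 * P * iota i A * (Q * (h⁻¹ : GL (Fin n) F).1 * P) = iota (σ i) A'
      calc Q * h.1 * P * iota i A * (Q * (h⁻¹ : GL (Fin n) F).1 * P)
          = Q * (h.1 * (P * iota i A * Q) * (h⁻¹ : GL (Fin n) F).1) * P := by
            simp only [Matrix.mul_assoc]
        _ = Q * (P * iota (σ i) A' * Q) * P := by rw [hA']
        _ = (Q * P) * iota (σ i) A' * (Q * P) := by simp only [Matrix.mul_assoc]
        _ = iota (σ i) A' := by rw [hQP, Matrix.one_mul, Matrix.mul_one]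
    · show h.1 = P * (Q * h.1 * P) * Q
      calc h.1 = (P * Q) * h.1 * (P * Q) := by rw [hPQ, Matrix.one_mul, Matrix.mul_one]
        _ = P * (Q * h.1 * P) * Q := by simp only [Matrix.mul_assoc]
  refine ⟨m, e, P', hm2, hHW, ?_⟩
  intro i X
  rw [hsP i X]
  constructor
  · rintro ⟨A, rfl⟩
    exact ⟨A, hconjP _⟩
  · rintro ⟨A, rfl⟩
    exact ⟨A, (hconjP _).symm⟩

end Cfsg.Agent.Lib.Helper44.O9
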