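import Cfsg.Agent.Lib.Helper38.OutCert
import Cfsg.Agent.Lib.Helper88.OutA

/-!
Further generic lemmas for the automorphism argument (S2080): iterated words, the chain state,
fixed points of a word, cycles of a word on the points fixed by two transpositions, points with a
unique pattern.
-/

set_option autoImplicit false

namespace Cfsg.Agent.Lib.Helper38

namespace Cert

variable (C : Cert)

/-- the `m`-th iterate of the word `w` on a point -/
noncomputable def itp (w : List ℕ) : ℕ → ℕ → ℕ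
  | 0, c => c
  | m + 1, c => itp w m (C.pw w c)

/-- the state of the chain: the words of `prs` are conjugates of `z` with the given points, and an
inner correction of `α` fixes all of them -/
def St {G : Type} [Group G] (γ : ℕ → G) (φ : G →* Equiv.Perm ℕ) (z : G) (α : G ≃* G)
    (prs : List (List ℕ × ℕ)) : Prop :=
  (∀ p ∈ prs, (∀ s ∈ p.1, s < C.g) ∧
    ∃ gp : G, (p.1.map γ).prod = gp * z * gp⁻¹ ∧ φ gp 0 = p.2) ∧
  ∃ u : G, ∀ x ∈ prs.map (fun p => (p.1.map γ).prod), u * α x * u⁻¹ = x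

/-- the check for the cycles of `x0w` on the points fixed by `zw` and the letter `jl` -/
noncomputable def chkCyc (zw x0w : List ℕ) (jl yl q0 : ℕ) (cyc : List ℕ)
    (tbl : List (ℕ × List ℕ × ℕ)) : Bool :=
  allB C.n (fun q => sel (band (Nat.beq (C.tn q jl) q) (Nat.beq (C.pw zw q) q))
    (bor (cyc.any (fun m => Nat.beq q (C.itp x0w m q0)))
      (tbl.any (fun e => band (Nat.beq e.1 q) (band (Nat.beq (C.pw e.2.1 0) q)
        (band (Nat.blt (C.pw (e.2.1 ++ (zw ++ e.2.1.reverse)) (C.itp x0w e.2.2 q)) C.n)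
          (sel (Nat.beq (C.tn (C.itp x0w e.2.2 q0) yl) (C.itp x0w e.2.2 q0))
            (sel (Nat.beq (C.pw (e.2.1 ++ (zw ++ e.2.1.reverse)) (C.itp x0w e.2.2 q))
              (C.itp x0w e.2.2 q)) false true)
            (Nat.beq (C.pw (e.2.1 ++ (zw ++ e.2.1.reverse)) (C.itp x0w e.2.2 q))
              (C.itp x0w e.2.2 q))))))))
    true)

variable {C}

theorem phi_pow {G : Type*} [Group G] {γ : ℕ → G} (hC : Checks C) (φ : G →* Equiv.Perm ℕ)
    (hφ : ∀ s < C.g, φ (γ s) = C.σ s) (w : List ℕ) (hw : ∀ s ∈ w, s < C.g) :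
    ∀ (m c : ℕ), c < C.n → φ ((w.map γ).prod ^ m) c = C.itp w m c ∧ C.itp w m c < C.n
  | 0, c, hc => ⟨by rw [pow_zero, map_one, Equiv.Perm.one_apply]; rfl, hc⟩
  | m + 1, c, hc => by
    have h1 := pw_lt hC w c hw hc
    have h2 := phi_pow hC φ hφ w hw m (C.pw w c) h1
    refine ⟨?_, h2.2⟩
    rw [pow_succ, map_mul, Equiv.Perm.mul_apply, phi_list hC φ hφ w c h1]
    exact h2.1

/-- the stabiliser of the point `0` is the centraliser of `z` -/
theorem hst_of_cen {G : Type*} [Group G] {γ : ℕ → G} {H : Subgroup G} (hP : Pres C γ H)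
    (hC : Checks C) (φ : G →* Equiv.Perm ℕ) (hφ : ∀ s < C.g, φ (γ s) = C.σ s) (z : G)
    (hcen : Subgroup.centralizer ({z} : Set G) = H) : ∀ g : G, φ g 0 = 0 ↔ g * z = z * g := by
  intro g
  have hH0 := phi_fix hP hC φ hφ
  have hn : 0 < C.n := (C.chkG_spec hC.hG).2.2.1
  have key : φ g 0 = 0 ↔ g ∈ H := by
    constructor
    · intro h
      have h1 := (F_equiv hP hC φ hφ hH0 g hn).1
      rw [h, F_zero hC, MulAction.Quotient.smul_mk, smul_eq_mul, mul_one] at h1
      have h2 := QuotientGroup.eq.mp h1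
      simpa using h2
    · exact hH0 g
  rw [key, ← hcen, Subgroup.mem_centralizer_iff]
  constructor
  · intro h
    exact (h z rfl).symm
  · intro h x hx
    rw [Set.mem_singleton_iff.mp hx]
    exact h.symm

/-- **One step of the chain**, from Boolean checks. -/
theorem level_step {G : Type} [Group G] {γ : ℕ → G} {H : Subgroup G} (hγ : ∀ s, γ s * γ s = 1)
    (hP : Pres C γ H) (hC : Checks C)
    (φ : G →* Equiv.Perm ℕ) (hφ : ∀ s < C.g, φ (γ s) = C.σ s)
    (base : List ℕ) (hbase : ∀ g : G, (∀ p ∈ base, φ g p = p) → g = 1)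
    (zw : List ℕ) (hz : (zw.map γ).prod * (zw.map γ).prod = 1)
    (hst : ∀ g : G, φ g 0 = 0 ↔ g * (zw.map γ).prod = (zw.map γ).prod * g)
    (α : G ≃* G) (hα : ∃ g0 : G, α ((zw.map γ).prod) = g0 * (zw.map γ).prod * g0⁻¹)
    (prs : List (List ℕ × ℕ)) (W X : List ℕ) (a : ℕ) (L : List ℕ) (R : ℕ)
    (hW : ∀ s ∈ W, s < C.g)
    (hanchor : base.all (fun b => band (Nat.blt b C.n)
      (Nat.beq (C.pw (W ++ (X ++ (zw ++ X.reverse))) b) b)) = true)
    (hX : band (Nat.blt (C.pw X 0) C.n) (Nat.beq (C.pw X 0) a) = true)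
    (hne : prs.all (fun p => sel (Nat.beq p.2 a) false true) = true)
    (hcomm : L.all (fun s => prs.all (fun p => base.all (fun b => band (Nat.blt b C.n)
      (Nat.beq (C.pw (([s] ++ p.1) ++ ([s] ++ p.1.reverse)) b) b)))) = true)
    (h1 : C.chkRank R a L = true)
    (h2 : C.chkPat (prs.map (fun p => (p.1, Nat.beq (C.pw p.1 a) a))) (prs.map Prod.snd) R a = true)
    (h : St C γ φ ((zw.map γ).prod) α prs) : St C γ φ ((zw.map γ).prod) α ((W, a) :: prs) := by
  obtain ⟨hprs, hu⟩ := h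
  obtain ⟨gA, hgA, hgA0⟩ := anchor_of_word hγ hC φ hφ base hbase zw hz W X a hanchor hX
  refine ⟨?_, ?_⟩
  · intro p hp
    rcases List.mem_cons.mp hp with rfl | hp
    · exact ⟨hW, gA, hgA, hgA0⟩
    · exact hprs p hp
  · have hcert := level hP hC φ hφ _ hst prs hprs a L R
      (comm_all hγ hC φ hφ base hbase L prs hcomm) h1 h2 gA hgA0
    have hA : (W.map γ).prod ∉ prs.map (fun p => (p.1.map γ).prod) := by
      intro hmem
      obtain ⟨p, hp, hpe⟩ := List.mem_map.mp hmem
      obtain ⟨-, gp, hgp, hgp0⟩ := hprs p hp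
      have h3 := List.all_eq_true.mp hne p hp
      have h5 : gp * (zw.map γ).prod * gp⁻¹ = gA * (zw.map γ).prod * gA⁻¹ := by
        rw [← hgp, ← hgA]; exact hpe
      have h4 := (Helper88.OutA.conj_eq_iff φ _ hst gp gA).mp h5
      rw [hgp0, hgA0] at h4
      rw [sel_eq_ite, if_pos (beq_iff.mpr h4)] at h3
      exact Bool.false_ne_true h3
    exact Helper88.OutA.step φ _ hst α hα _ _ gA hgA hA hcert hu

/-- the points fixed by a word, from a Boolean check -/
theorem fix_of_chk {G : Type*} [Group G] {γ : ℕ → G} {H : Subgroup G} (hP : Pres C γ H)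
    (hC : Checks C) (φ : G →* Equiv.Perm ℕ) (hφ : ∀ s < C.g, φ (γ s) = C.σ s)
    (w : List ℕ) (hw : ∀ s ∈ w, s < C.g) (F : List ℕ)
    (h : allB C.n (fun q => bor (F.any (fun e => Nat.beq q e))
      (sel (Nat.beq (C.pw w q) q) false true)) = true)
    (g : G) (hg : φ ((w.map γ).prod) (φ g 0) = φ g 0) : φ g 0 ∈ F := by
  have hq := pt_lt hP hC φ hφ g
  have h1 := allB_iff.mp h _ hq
  rw [phi_list hC φ hφ w _ (pw_lt hC w _ hw hq)] at hg
  rw [bor_iff] at h1
  rcases h1 with h1 | h1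
  · obtain ⟨e, he, he2⟩ := List.any_eq_true.mp h1
    rw [beq_iff] at he2
    rw [he2]
    exact he
  · rw [sel_eq_ite, if_pos (beq_iff.mpr hg)] at h1
    exact absurd h1 Bool.false_ne_true

/-- the hypothesis `hE` of `kzero`, from a Boolean check -/
theorem hE_of_chk {G : Type} [Group G] {γ : ℕ → G} {H : Subgroup G} (hγ : ∀ s, γ s * γ s = 1)
    (hP : Pres C γ H) (hC : Checks C) (φ : G →* Equiv.Perm ℕ) (hφ : ∀ s < C.g, φ (γ s) = C.σ s)
    (zw x0w : List ℕ) (hzw : ∀ s ∈ zw, s < C.g) (hx0w : ∀ s ∈ x0w, s < C.g)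
    (jl yl : ℕ) (hjl : jl < C.g) (hyl : yl < C.g) (q0 : ℕ) (gY : G) (hgY : φ gY 0 = q0)
    (cyc : List ℕ) (tbl : List (ℕ × List ℕ × ℕ))
    (h : C.chkCyc zw x0w jl yl q0 cyc tbl = true) :
    ∀ g : G, φ ((zw.map γ).prod) (φ g 0) = φ g 0 → φ (γ jl) (φ g 0) = φ g 0 →
      (∃ m : ℕ, φ g 0 = φ (((x0w.map γ).prod) ^ m) (φ gY 0)) ∨
      ∃ (W : G) (m : ℕ), φ W 0 = φ g 0 ∧
        ¬ (φ (γ yl) (φ (((x0w.map γ).prod) ^ m) (φ gY 0)) = φ (((x0w.map γ).prod) ^ m) (φ gY 0) ↔
           φ (W * (zw.map γ).prod * W⁻¹) (φ (((x0w.map γ).prod) ^ m) (φ g 0)) =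
             φ (((x0w.map γ).prod) ^ m) (φ g 0)) := by
  intro g hz hj
  have hq : φ g 0 < C.n := pt_lt hP hC φ hφ g
  have hq0 : q0 < C.n := by rw [← hgY]; exact pt_lt hP hC φ hφ gY
  have hInv := hInv_of hC
  rw [phi_list hC φ hφ zw _ (pw_lt hC zw _ hzw hq)] at hz
  rw [hφ jl hjl, (C.σ_of_lt hInv hjl hq).1] at hj
  have h1 := allB_iff.mp h _ hq
  rw [sel_eq_ite, if_pos (band_iff.mpr ⟨beq_iff.mpr hj, beq_iff.mpr hz⟩), bor_iff] at h1
  rcases h1 with h1 | h1
  · obtain ⟨m, -, hm⟩ := List.any_eq_true.mp h1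
    rw [beq_iff] at hm
    exact Or.inl ⟨m, by rw [hgY, (phi_pow hC φ hφ x0w hx0w m q0 hq0).1]; exact hm⟩
  · obtain ⟨e, -, he⟩ := List.any_eq_true.mp h1
    rw [band_iff, band_iff, band_iff, beq_iff, beq_iff, blt_iff] at he
    obtain ⟨-, he2, he3, he4⟩ := he
    refine Or.inr ⟨(e.2.1.map γ).prod, e.2.2, ?_, ?_⟩
    · rw [phi_list hC φ hφ e.2.1 0 (by rw [he2]; exact hq), he2]
    · have p1 := phi_pow hC φ hφ x0w hx0w e.2.2 q0 hq0
      have p2 := phi_pow hC φ hφ x0w hx0w e.2.2 _ hq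
      rw [hgY, p1.1, p2.1, hφ yl hyl, (C.σ_of_lt hInv hyl p1.2).1]
      have hw : (e.2.1.map γ).prod * (zw.map γ).prod * ((e.2.1.map γ).prod)⁻¹ =
          ((e.2.1 ++ (zw ++ e.2.1.reverse)).map γ).prod := by
        rw [List.map_append, List.prod_append, List.map_append, List.prod_append,
          prod_reverse_inv hγ, mul_assoc]
      rw [hw, phi_list hC φ hφ _ _ he3]
      intro hiff
      by_cases hb : C.tn (C.itp x0w e.2.2 q0) yl = C.itp x0w e.2.2 q0
      · rw [sel_eq_ite, if_pos (beq_iff.mpr hb), sel_eq_ite,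
          if_pos (beq_iff.mpr (hiff.mp hb))] at he4
        exact Bool.false_ne_true he4
      · rw [sel_eq_ite, if_neg (by rw [beq_iff]; exact hb), beq_iff] at he4
        exact hb (hiff.mpr he4)

/-- an element commuting with blocks commutes with their products -/
theorem comm_flatten {G : Type*} [Group G] (γ : ℕ → G) (k : G) (B : ℕ → List ℕ) :
    ∀ (cs : List ℕ), (∀ c ∈ cs, k * ((B c).map γ).prod = ((B c).map γ).prod * k) →
    k * (((cs.map B).flatten).map γ).prod = (((cs.map B).flatten).map γ).prod * k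
  | [], _ => by simp
  | c :: cs, h => by
    have h1 := h c List.mem_cons_self
    have h2 := comm_flatten γ k B cs (fun c' hc' => h c' (List.mem_cons_of_mem _ hc'))
    rw [List.map_cons, List.flatten_cons, List.map_append, List.prod_append, ← mul_assoc, h1,
      mul_assoc, h2, mul_assoc]

/-- an element commuting with the test words fixes a point which is the only one with its
pattern -/
theorem fix_of_unique_pat {G : Type} [Group G] {γ : ℕ → G} {H : Subgroup G} (hP : Pres C γ H)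
    (hC : Checks C) (φ : G →* Equiv.Perm ℕ) (hφ : ∀ s < C.g, φ (γ s) = C.σ s) (k : G)
    (B : ℕ → List ℕ) (al : List ℕ)
    (hal : ∀ c ∈ al, k * ((B c).map γ).prod = ((B c).map γ).prod * k)
    (tests : List (List ℕ)) (htests : ∀ cs ∈ tests, ∀ c ∈ cs, c ∈ al)
    (hrange : ∀ cs ∈ tests, ∀ s ∈ (cs.map B).flatten, s < C.g)
    (a : ℕ) (gA : G) (hgA : φ gA 0 = a)
    (h : C.chkPat (tests.map (fun cs => ((cs.map B).flatten,
      Nat.beq (C.pw ((cs.map B).flatten) a) a))) [] 0 a = true) :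
    φ k a = a := by
  have ha : a < C.n := by rw [← hgA]; exact pt_lt hP hC φ hφ gA
  have hq : φ k a < C.n := by
    rw [← hgA, ← Equiv.Perm.mul_apply, ← map_mul]; exact pt_lt hP hC φ hφ (k * gA)
  have hpat : C.pat (tests.map (fun cs => ((cs.map B).flatten,
      Nat.beq (C.pw ((cs.map B).flatten) a) a))) [] (φ k a) = true := by
    apply pat_of
    · intro e he
      exact absurd he List.not_mem_nil
    · intro pt hpt
      obtain ⟨cs, hcs, rfl⟩ := List.mem_map.mp hpt
      show C.pw ((cs.map B).flatten) (φ k a) = φ k a ↔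
        Nat.beq (C.pw ((cs.map B).flatten) a) a = true
      rw [beq_iff]
      have hl := hrange cs hcs
      have hc := comm_flatten γ k B cs (fun c hc => hal c (htests cs hcs c hc))
      rw [← phi_list hC φ hφ _ _ (pw_lt hC _ _ hl hq), ← phi_list hC φ hφ _ _ (pw_lt hC _ _ hl ha)]
      have e1 : φ ((((cs.map B).flatten).map γ).prod) (φ k a) =
          φ k (φ ((((cs.map B).flatten).map γ).prod) a) := by
        rw [← Equiv.Perm.mul_apply, ← map_mul, ← hc, map_mul, Equiv.Perm.mul_apply]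
      rw [e1]
      exact (φ k).injective.eq_iff
  rcases chkPat_spec h hq hpat with h3 | h3
  · exact h3
  · exfalso
    have h4 : rk 0 (φ k a) = 0 := by
      show (0 >>> (8 * φ k a)) &&& 255 = 0
      rw [Nat.zero_shiftRight, Nat.zero_and]
    omega

/-- one stage for `hone`: the element `k` commutes with one more letter -/
theorem hone_stage {G : Type} [Group G] {γ : ℕ → G} {H : Subgroup G} (hP : Pres C γ H)
    (hC : Checks C) (φ : G →* Equiv.Perm ℕ) (hφ : ∀ s < C.g, φ (γ s) = C.σ s) (z : G)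
    (hst : ∀ g : G, φ g 0 = 0 ↔ g * z = z * g) (k : G)
    (B : ℕ → List ℕ) (al : List ℕ)
    (hal : ∀ c ∈ al, k * ((B c).map γ).prod = ((B c).map γ).prod * k)
    (tests : List (List ℕ)) (htests : ∀ cs ∈ tests, ∀ c ∈ cs, c ∈ al)
    (hrange : ∀ cs ∈ tests, ∀ s ∈ (cs.map B).flatten, s < C.g)
    (s a : ℕ) (hanch : ∃ gp : G, ((B s).map γ).prod = gp * z * gp⁻¹ ∧ φ gp 0 = a)
    (h : C.chkPat (tests.map (fun cs => ((cs.map B).flatten,
      Nat.beq (C.pw ((cs.map B).flatten) a) a))) [] 0 a = true) :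
    ∀ c ∈ s :: al, k * ((B c).map γ).prod = ((B c).map γ).prod * k := by
  obtain ⟨gA, hgA, hgA0⟩ := hanch
  have hfix := fix_of_unique_pat hP hC φ hφ k B al hal tests htests hrange a gA hgA0 h
  intro c hc
  rcases List.mem_cons.mp hc with rfl | hc
  · rw [hgA]
    exact (Helper88.OutA.comm_iff_fix φ z hst gA k).mpr (by rw [hgA0]; exact hfix)
  · exact hal c hc

/-- an element commuting with a generating set is central -/
theorem central_of_gens {G : Type*} [Group G] (S : Set G) (hS : Subgroup.closure S = ⊤) (k : G)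
    (h : ∀ x ∈ S, k * x = x * k) : ∀ x : G, k * x = x * k := by
  intro x
  have hx : x ∈ Subgroup.closure S := by rw [hS]; trivial
  have hle : Subgroup.closure S ≤ Subgroup.centralizer {k} := by
    rw [Subgroup.closure_le]
    intro y hy
    rw [SetLike.mem_coe, Subgroup.mem_centralizer_iff]
    intro t ht
    rw [Set.mem_singleton_iff.mp ht]
    exact h y hy
  have h2 := hle hx
  rw [Subgroup.mem_centralizer_iff] at h2
  exact h2 k rfl

end Cert

end Cfsg.Agent.Lib.Helper38
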