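import Cfsg.Agent.S0472
import Cfsg.Agent.Lib.Helper38.OutCert2
import Cfsg.Agent.Lib.Helper38.Out23Data

/-!
The anchors of the chain for S2080 and the blocks of the test words.
-/

namespace Cfsg.Agent.Lib.Helper38.Out23

open Cfsg.Agent.Lib.Helper38 Cfsg.Agent.S1697

/-- the anchors before level 1 -/
def prs0 : List (List ℕ × ℕ) := [(zw, 0)]

/-- the anchors after level 1 -/
def prs1 : List (List ℕ × ℕ) := ([7], 8006) :: prs0

/-- the anchors after level 2 -/
def prs2 : List (List ℕ × ℕ) := ([6], 8005) :: prs1

/-- the anchors after level 3 -/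
def prs3 : List (List ℕ × ℕ) := ([5], 8002) :: prs2

/-- the anchors after level 4 -/
def prs4 : List (List ℕ × ℕ) := ([0], 11589) :: prs3

/-- the anchors after level 5 -/
def prs5 : List (List ℕ × ℕ) := ([1], 8004) :: prs4

/-- the anchors after level 6 -/
def prs6 : List (List ℕ × ℕ) := ([2], 8003) :: prs5

/-- the anchors after level 7 -/
def prs7 : List (List ℕ × ℕ) := ([3], 8000) :: prs6

/-- the anchors after level 8 -/
def prs8 : List (List ℕ × ℕ) := ([8], 7999) :: prs7

/-- the anchors after level 9 -/
def prs9 : List (List ℕ × ℕ) := ([9], 8007) :: prs8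

/-- the anchors after level 10 -/
def prs10 : List (List ℕ × ℕ) := ([4], 8001) :: prs9

/-- the blocks of the test words -/
def blk : ℕ → List ℕ
  | 10 => x0w
  | 11 => x0w.reverse
  | 12 => zw
  | s => [s]


end Cfsg.Agent.Lib.Helper38.Out23
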