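import Cfsg.Agent.S0472
import Cfsg.Agent.Lib.Helper38.OutCert2
import Cfsg.Agent.Lib.Helper38.Out23Data
import Cfsg.Agent.Lib.Helper38.Out23Prs

/-!
Kernel checks for S2080 (the automorphisms of Fi23), part B.
Generated by `tools/helper38/out23/gen_chk.py`.
-/

set_option maxRecDepth 100000
set_option maxHeartbeats 0

namespace Cfsg.Agent.Lib.Helper38.Out23

open Cfsg.Agent.Lib.Helper38 Cfsg.Agent.S1697

theorem chkR2 : Fi23B.cert.chkRank R2 8005 L2 = true := by decide +kernel

theorem chkP2 : Fi23B.cert.chkPat (prs1.map (fun p => (p.1, Nat.beq (Fi23B.cert.pw p.1 8005) 8005)))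
    (prs1.map Prod.snd) R2 8005 = true := by decide +kernel


end Cfsg.Agent.Lib.Helper38.Out23
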