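import Cfsg.Agent.S0472
import Cfsg.Agent.Lib.Helper38.OutCert2
import Cfsg.Agent.Lib.Helper38.Out23Data
import Cfsg.Agent.Lib.Helper38.Out23Prs

/-!
Kernel checks for S2080 (the automorphisms of Fi23), part C.
Generated by `tools/helper38/out23/gen_chk.py`.
-/

set_option maxRecDepth 100000
set_option maxHeartbeats 0

namespace Cfsg.Agent.Lib.Helper38.Out23

open Cfsg.Agent.Lib.Helper38 Cfsg.Agent.S1697

theorem chkR3 : Fi23B.cert.chkRank R3 8002 L3 = true := by decide +kernel

theorem chkP3 : Fi23B.cert.chkPat (prs2.map (fun p => (p.1, Nat.beq (Fi23B.cert.pw p.1 8002) 8002)))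
    (prs2.map Prod.snd) R3 8002 = true := by decide +kernel

theorem chkR4 : Fi23B.cert.chkRank R4 11589 L4 = true := by decide +kernel

theorem chkP4 : Fi23B.cert.chkPat (prs3.map (fun p => (p.1, Nat.beq (Fi23B.cert.pw p.1 11589) 11589)))
    (prs3.map Prod.snd) R4 11589 = true := by decide +kernel

theorem chkR5 : Fi23B.cert.chkRank R5 8004 L5 = true := by decide +kernel

theorem chkP5 : Fi23B.cert.chkPat (prs4.map (fun p => (p.1, Nat.beq (Fi23B.cert.pw p.1 8004) 8004)))
    (prs4.map Prod.snd) R5 8004 = true := by decide +kernel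

theorem chkR6 : Fi23B.cert.chkRank R6 8003 L6 = true := by decide +kernel

theorem chkP6 : Fi23B.cert.chkPat (prs5.map (fun p => (p.1, Nat.beq (Fi23B.cert.pw p.1 8003) 8003)))
    (prs5.map Prod.snd) R6 8003 = true := by decide +kernel

theorem chkR7 : Fi23B.cert.chkRank R7 8000 L7 = true := by decide +kernel

theorem chkP7 : Fi23B.cert.chkPat (prs6.map (fun p => (p.1, Nat.beq (Fi23B.cert.pw p.1 8000) 8000)))
    (prs6.map Prod.snd) R7 8000 = true := by decide +kernel

theorem chkR8 : Fi23B.cert.chkRank R8 7999 L8 = true := by decide +kernel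

theorem chkP8 : Fi23B.cert.chkPat (prs7.map (fun p => (p.1, Nat.beq (Fi23B.cert.pw p.1 7999) 7999)))
    (prs7.map Prod.snd) R8 7999 = true := by decide +kernel

theorem chkR9 : Fi23B.cert.chkRank R9 8007 L9 = true := by decide +kernel

theorem chkP9 : Fi23B.cert.chkPat (prs8.map (fun p => (p.1, Nat.beq (Fi23B.cert.pw p.1 8007) 8007)))
    (prs8.map Prod.snd) R9 8007 = true := by decide +kernel

theorem chkR10 : Fi23B.cert.chkRank R10 8001 L10 = true := by decide +kernel

theorem chkP10 : Fi23B.cert.chkPat (prs9.map (fun p => (p.1, Nat.beq (Fi23B.cert.pw p.1 8001) 8001)))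
    (prs9.map Prod.snd) R10 8001 = true := by decide +kernel


end Cfsg.Agent.Lib.Helper38.Out23
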