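import Cfsg.Agent.S0472
import Cfsg.Agent.Lib.Helper38.OutCert2
import Cfsg.Agent.Lib.Helper38.Out23Data
import Cfsg.Agent.Lib.Helper38.Out23Prs

/-!
Kernel checks for S2080 (the automorphisms of Fi23), part D.
Generated by `tools/helper38/out23/gen_chk.py`.
-/

set_option maxRecDepth 100000
set_option maxHeartbeats 0

namespace Cfsg.Agent.Lib.Helper38.Out23

open Cfsg.Agent.Lib.Helper38 Cfsg.Agent.S1697

theorem chkCyc_all : Fi23B.cert.chkCyc zw x0w 7 0 11589 cyc etbl = true := by decide +kernel

theorem chkF_all : allB Fi23B.cert.n (fun q => bor ([0, 1, 8006].any (fun e => Nat.beq q e))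
    (sel (Nat.beq (Fi23B.cert.pw x0w q) q) false true)) = true := by decide +kernel

theorem chkH1 : Fi23B.cert.chkPat (T1.map (fun cs => ((cs.map blk).flatten,
    Nat.beq (Fi23B.cert.pw ((cs.map blk).flatten) 8004) 8004))) [] 0 8004 = true := by decide +kernel

theorem chkH2 : Fi23B.cert.chkPat (T2.map (fun cs => ((cs.map blk).flatten,
    Nat.beq (Fi23B.cert.pw ((cs.map blk).flatten) 8003) 8003))) [] 0 8003 = true := by decide +kernel

theorem chkH3 : Fi23B.cert.chkPat (T3.map (fun cs => ((cs.map blk).flatten,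
    Nat.beq (Fi23B.cert.pw ((cs.map blk).flatten) 8000) 8000))) [] 0 8000 = true := by decide +kernel

theorem chkH6 : Fi23B.cert.chkPat (T6.map (fun cs => ((cs.map blk).flatten,
    Nat.beq (Fi23B.cert.pw ((cs.map blk).flatten) 8005) 8005))) [] 0 8005 = true := by decide +kernel

theorem chkH4 : Fi23B.cert.chkPat (T4.map (fun cs => ((cs.map blk).flatten,
    Nat.beq (Fi23B.cert.pw ((cs.map blk).flatten) 8001) 8001))) [] 0 8001 = true := by decide +kernel

theorem chkH5 : Fi23B.cert.chkPat (T5.map (fun cs => ((cs.map blk).flatten,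
    Nat.beq (Fi23B.cert.pw ((cs.map blk).flatten) 8002) 8002))) [] 0 8002 = true := by decide +kernel

theorem chkH8 : Fi23B.cert.chkPat (T8.map (fun cs => ((cs.map blk).flatten,
    Nat.beq (Fi23B.cert.pw ((cs.map blk).flatten) 7999) 7999))) [] 0 7999 = true := by decide +kernel

theorem chkH9 : Fi23B.cert.chkPat (T9.map (fun cs => ((cs.map blk).flatten,
    Nat.beq (Fi23B.cert.pw ((cs.map blk).flatten) 8007) 8007))) [] 0 8007 = true := by decide +kernel


end Cfsg.Agent.Lib.Helper38.Out23
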