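import Cfsg.Agent.Lib.Helper38.CosetTransp
import Cfsg.Agent.Lib.Helper38.CosetOrbit

/-!
Rank tables and pattern checks on the final table of a certificate: the subgroup generated by some
letters is transitive on the points with a given pattern of fixed words (used for the chain argument
for automorphisms, S2080).
-/

namespace Cfsg.Agent.Lib.Helper38

namespace Cert

variable (C : Cert)

/-- the rank of a point in a packed table (8 bits per point) -/
noncomputable def rk (R q : ℕ) : ℕ := Nat.land (Nat.shiftRight R (Nat.mul 8 q)) 255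

/-- some letter of `L` moves `q` to a point of smaller rank which is ranked or is `a` -/
noncomputable def chkDesc (R a : ℕ) (L : List ℕ) (q : ℕ) : Bool :=
  L.any (fun s => band (Nat.blt s C.g) (band (Nat.blt (rk R (C.tn q s)) (rk R q))
    (bor (Nat.blt 0 (rk R (C.tn q s))) (Nat.beq (C.tn q s) a))))

/-- every ranked point descends -/
noncomputable def chkRank (R a : ℕ) (L : List ℕ) : Bool :=
  allB C.n (fun q => bor (Nat.beq (rk R q) 0) (C.chkDesc R a L q))

/-- the pattern of a point: it is none of the points `EX`, and each word of `PT` fixes it or not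
as prescribed -/
noncomputable def pat (PT : List (List ℕ × Bool)) (EX : List ℕ) (q : ℕ) : Bool :=
  band (EX.all (fun e => sel (Nat.beq q e) false true))
    (PT.all (fun p => sel p.2 (Nat.beq (C.pw p.1 q) q) (sel (Nat.beq (C.pw p.1 q) q) false true)))

/-- every point with the pattern is `a` or is ranked -/
noncomputable def chkPat (PT : List (List ℕ × Bool)) (EX : List ℕ) (R a : ℕ) : Bool :=
  allB C.n (fun q => sel (C.pat PT EX q) (bor (Nat.beq q a) (Nat.blt 0 (rk R q))) true)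

variable {C}

theorem pw_lt (hC : Checks C) : ∀ (w : List ℕ) (c : ℕ), (∀ s ∈ w, s < C.g) → c < C.n →
    C.pw w c < C.n
  | [], c, _, hc => hc
  | s :: w, c, hw, hc => by
    have e : C.pw (s :: w) c = C.pstep (C.pw w c) s := rfl
    have h1 := pw_lt hC w c (fun t ht => hw t (List.mem_cons_of_mem _ ht)) hc
    have hs : s < C.g := hw s List.mem_cons_self
    rw [e]
    unfold Cert.pstep
    rw [sel_eq_ite, if_pos (by rw [band_iff, blt_iff, blt_iff]; exact ⟨h1, hs⟩)]
    exact (C.σ_of_lt (hInv_of hC) hs h1).2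

theorem pat_of {PT : List (List ℕ × Bool)} {EX : List ℕ} {q : ℕ} (h1 : ∀ e ∈ EX, q ≠ e)
    (h2 : ∀ p ∈ PT, (C.pw p.1 q = q ↔ p.2 = true)) : C.pat PT EX q = true := by
  unfold pat
  rw [band_iff, List.all_eq_true, List.all_eq_true]
  refine ⟨fun e he => ?_, fun p hp => ?_⟩
  · rw [sel_eq_ite, if_neg (by rw [beq_iff]; exact h1 e he)]
  · have h3 := h2 p hp
    cases hb : p.2 with
    | true =>
      rw [sel_true, beq_iff]
      exact h3.mpr hb
    | false =>
      rw [sel_false, sel_eq_ite, if_neg]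
      rw [beq_iff]
      intro h4
      have := h3.mp h4
      rw [hb] at this
      exact Bool.false_ne_true this

theorem chkPat_spec {PT : List (List ℕ × Bool)} {EX : List ℕ} {R a : ℕ}
    (h : C.chkPat PT EX R a = true) {q : ℕ} (hq : q < C.n) (hp : C.pat PT EX q = true) :
    q = a ∨ 0 < rk R q := by
  unfold chkPat at h
  rw [allB_iff] at h
  have h1 := h q hq
  rw [hp, sel_true, bor_iff, beq_iff, blt_iff] at h1
  exact h1

/-- a ranked point is moved to `a` by a product of the letters of `L` -/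
theorem rank_reach {G : Type*} [Group G] {γ : ℕ → G} (hC : Checks C) (φ : G →* Equiv.Perm ℕ)
    (hφ : ∀ s < C.g, φ (γ s) = C.σ s) {R a : ℕ} {L : List ℕ} (h : C.chkRank R a L = true)
    (M : Subgroup G) (hM : ∀ s ∈ L, γ s ∈ M) :
    ∀ (d q : ℕ), q < C.n → rk R q < d → (q = a ∨ 0 < rk R q) → ∃ w ∈ M, φ w q = a
  | 0, _, _, hd, _ => absurd hd (Nat.not_lt_zero _)
  | d + 1, q, hq, hd, hqa => by
    by_cases e : q = a
    · exact ⟨1, one_mem _, by rw [map_one, Equiv.Perm.one_apply, e]⟩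
    · have hpos : 0 < rk R q := hqa.resolve_left e
      have h' := allB_iff.mp (show allB C.n _ = true from h)
      have h1 := h' q hq
      rw [bor_iff, beq_iff] at h1
      rcases h1 with h1 | h1
      · omega
      · obtain ⟨s, hs, hs2⟩ := List.any_eq_true.mp h1
        simp only [band_iff, bor_iff, blt_iff, beq_iff] at hs2
        obtain ⟨hsg, hlt, hnext⟩ := hs2
        have hσ := C.σ_of_lt (hInv_of hC) hsg hq
        obtain ⟨w, hw, hwq⟩ := rank_reach hC φ hφ h M hM d (C.tn q s) hσ.2 (by omega) hnext.symm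
        refine ⟨w * γ s, mul_mem hw (hM s hs), ?_⟩
        rw [map_mul, Equiv.Perm.mul_apply, hφ s hsg, hσ.1, hwq]

/-- conjugates of `z` with the same point are equal -/
theorem conj_eq_of_pt {G : Type*} [Group G] {φ : G →* Equiv.Perm ℕ} {z : G}
    (hst : ∀ g : G, φ g 0 = 0 ↔ g * z = z * g) {g g' : G} (h : φ g 0 = φ g' 0) :
    g * z * g⁻¹ = g' * z * g'⁻¹ := by
  have h1 : φ (g'⁻¹ * g) 0 = 0 := by
    rw [map_mul, Equiv.Perm.mul_apply, h, ← Equiv.Perm.mul_apply, ← map_mul, inv_mul_cancel,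
      map_one, Equiv.Perm.one_apply]
  have h2 := (hst _).mp h1
  calc g * z * g⁻¹ = g' * ((g'⁻¹ * g) * z) * g⁻¹ := by group
    _ = g' * (z * (g'⁻¹ * g)) * g⁻¹ := by rw [h2]
    _ = g' * z * g'⁻¹ := by group

/-- the point of a conjugate of `z` lies in the table -/
theorem pt_lt {G : Type*} [Group G] {γ : ℕ → G} {H : Subgroup G} (hP : Pres C γ H) (hC : Checks C)
    (φ : G →* Equiv.Perm ℕ) (hφ : ∀ s < C.g, φ (γ s) = C.σ s) (g : G) : φ g 0 < C.n :=
  (F_equiv hP hC φ hφ (phi_fix hP hC φ hφ) g (C.chkG_spec hC.hG).2.2.1).2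

/-- **One level of the chain.** -/
theorem level {G : Type} [Group G] {γ : ℕ → G} {H : Subgroup G} (hP : Pres C γ H) (hC : Checks C)
    (φ : G →* Equiv.Perm ℕ) (hφ : ∀ s < C.g, φ (γ s) = C.σ s)
    (z : G) (hst : ∀ g : G, φ g 0 = 0 ↔ g * z = z * g)
    (prs : List (List ℕ × ℕ))
    (hprs : ∀ p ∈ prs, (∀ s ∈ p.1, s < C.g) ∧
      ∃ gp : G, (p.1.map γ).prod = gp * z * gp⁻¹ ∧ φ gp 0 = p.2)
    (a : ℕ) (L : List ℕ) (R : ℕ)
    (hcomm : ∀ s ∈ L, ∀ p ∈ prs, γ s * (p.1.map γ).prod = (p.1.map γ).prod * γ s)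
    (h1 : C.chkRank R a L = true)
    (h2 : C.chkPat (prs.map (fun p => (p.1, Nat.beq (C.pw p.1 a) a))) (prs.map Prod.snd) R a = true)
    (gA : G) (hgA : φ gA 0 = a) :
    ∀ g : G, (∀ x ∈ prs.map (fun p => (p.1.map γ).prod), g * z * g⁻¹ ≠ x ∧
        (φ x (φ g 0) = φ g 0 ↔ φ x (φ gA 0) = φ gA 0)) →
      ∃ w : G, (∀ x ∈ prs.map (fun p => (p.1.map γ).prod), w * x = x * w) ∧
        φ w (φ g 0) = φ gA 0 := by
  intro g hg
  have hq : φ g 0 < C.n := pt_lt hP hC φ hφ g
  have ha : a < C.n := by rw [← hgA]; exact pt_lt hP hC φ hφ gA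
  have hpat : C.pat (prs.map (fun p => (p.1, Nat.beq (C.pw p.1 a) a))) (prs.map Prod.snd)
      (φ g 0) = true := by
    apply pat_of
    · intro e he
      obtain ⟨p, hp, rfl⟩ := List.mem_map.mp he
      obtain ⟨-, gp, hgp, hpt⟩ := hprs p hp
      intro heq
      apply (hg _ (List.mem_map.mpr ⟨p, hp, rfl⟩)).1
      rw [hgp]
      exact conj_eq_of_pt hst (heq.trans hpt.symm)
    · intro pt hpt
      obtain ⟨p, hp, rfl⟩ := List.mem_map.mp hpt
      obtain ⟨hl, -, -, -⟩ := hprs p hp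
      have hx := (hg _ (List.mem_map.mpr ⟨p, hp, rfl⟩)).2
      rw [hgA, phi_list hC φ hφ p.1 _ (pw_lt hC p.1 _ hl hq),
        phi_list hC φ hφ p.1 _ (pw_lt hC p.1 _ hl ha)] at hx
      show C.pw p.1 (φ g 0) = φ g 0 ↔ Nat.beq (C.pw p.1 a) a = true
      rw [beq_iff]
      exact hx
  let M : Subgroup G := Subgroup.centralizer {x | x ∈ prs.map (fun p => (p.1.map γ).prod)}
  have hM : ∀ s ∈ L, γ s ∈ M := by
    intro s hs
    rw [Subgroup.mem_centralizer_iff]
    intro x hx
    obtain ⟨p, hp, rfl⟩ := List.mem_map.mp hx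
    exact (hcomm s hs p hp).symm
  obtain ⟨w, hw, hwq⟩ := rank_reach hC φ hφ h1 M hM (rk R (φ g 0) + 1) (φ g 0) hq
    (Nat.lt_succ_self _) (chkPat_spec h2 hq hpat)
  refine ⟨w, fun x hx => ?_, by rw [hwq, hgA]⟩
  exact ((Subgroup.mem_centralizer_iff.mp hw) x hx).symm

/-- a letter commutes with a word, checked on a base -/
theorem comm_of_word {G : Type*} [Group G] {γ : ℕ → G} (hγ : ∀ s, γ s * γ s = 1) (s : ℕ)
    (w : List ℕ) (h : ((([s] ++ w) ++ ([s] ++ w.reverse)).map γ).prod = 1) :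
    γ s * (w.map γ).prod = (w.map γ).prod * γ s := by
  simp only [List.map_append, List.prod_append, List.map_cons, List.map_nil, List.prod_cons,
    List.prod_nil, mul_one, prod_reverse_inv hγ] at h
  have h1 : γ s * (w.map γ).prod = (γ s * ((w.map γ).prod)⁻¹)⁻¹ := eq_inv_of_mul_eq_one_left h
  rw [h1, mul_inv_rev, inv_inv, inv_eq_of_mul_eq_one_left (hγ s)]

/-- the letters of `L` commute with the words of `prs`, checked on a base -/
theorem comm_all {G : Type*} [Group G] {γ : ℕ → G} (hγ : ∀ s, γ s * γ s = 1) (hC : Checks C)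
    (φ : G →* Equiv.Perm ℕ) (hφ : ∀ s < C.g, φ (γ s) = C.σ s) (base : List ℕ)
    (hbase : ∀ g : G, (∀ p ∈ base, φ g p = p) → g = 1) (L : List ℕ) (prs : List (List ℕ × ℕ))
    (h : L.all (fun s => prs.all (fun p => base.all (fun b => band (Nat.blt b C.n)
      (Nat.beq (C.pw (([s] ++ p.1) ++ ([s] ++ p.1.reverse)) b) b)))) = true) :
    ∀ s ∈ L, ∀ p ∈ prs, γ s * (p.1.map γ).prod = (p.1.map γ).prod * γ s := by
  intro s hs p hp
  have h1 := List.all_eq_true.mp (List.all_eq_true.mp h s hs) p hp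
  exact comm_of_word hγ s p.1 (list_one_of_base hC φ hφ base hbase _ h1)

/-- an anchor: the word `W` is the conjugate of `z = zw` by the word `X`, checked on a base -/
theorem anchor_of_word {G : Type*} [Group G] {γ : ℕ → G} (hγ : ∀ s, γ s * γ s = 1) (hC : Checks C)
    (φ : G →* Equiv.Perm ℕ) (hφ : ∀ s < C.g, φ (γ s) = C.σ s) (base : List ℕ)
    (hbase : ∀ g : G, (∀ p ∈ base, φ g p = p) → g = 1) (zw : List ℕ)
    (hz : (zw.map γ).prod * (zw.map γ).prod = 1) (W X : List ℕ) (e : ℕ)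
    (h : base.all (fun b => band (Nat.blt b C.n)
      (Nat.beq (C.pw (W ++ (X ++ (zw ++ X.reverse))) b) b)) = true)
    (hX : band (Nat.blt (C.pw X 0) C.n) (Nat.beq (C.pw X 0) e) = true) :
    ∃ gp : G, (W.map γ).prod = gp * (zw.map γ).prod * gp⁻¹ ∧ φ gp 0 = e := by
  have h1 := list_one_of_base hC φ hφ base hbase _ h
  rw [band_iff, blt_iff, beq_iff] at hX
  refine ⟨(X.map γ).prod, ?_, by rw [phi_list hC φ hφ X 0 hX.1, hX.2]⟩
  simp only [List.map_append, List.prod_append, prod_reverse_inv hγ] at h1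
  have h2 : (W.map γ).prod = ((X.map γ).prod * ((zw.map γ).prod * ((X.map γ).prod)⁻¹))⁻¹ :=
    eq_inv_of_mul_eq_one_left h1
  rw [h2, mul_inv_rev, mul_inv_rev, inv_inv, inv_eq_of_mul_eq_one_left hz, mul_assoc]

end Cert

end Cfsg.Agent.Lib.Helper38
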