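import Mathlib

/-!
# Project RC (helper48, S1152 + S1157), piece RC-ISO

`C_G(J) ≃* Z₂ × S / ker φ` for an involution `J` centralising the image of `φ`, not in that image,
when `|C_G(J)| = 2 |range φ|`.
-/

set_option autoImplicit false

namespace Cfsg.Agent.Lib.Helper48.RC

/-- the homomorphism `Z₂ → C`, `ε ↦ c ^ ε`, for an element `c` with `c * c = 1` -/
def iso_prod_z {C : Type*} [Group C] (c : C) (hc : c * c = 1) : Multiplicative (ZMod 2) →* C where
  toFun ε := if Multiplicative.toAdd ε = 0 then 1 else c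
  map_one' := by simp
  map_mul' := by
    intro a b
    have key : ∀ x y : ZMod 2, (x + y = 0 ↔ (x = 0 ↔ y = 0)) := by decide
    show (if Multiplicative.toAdd a + Multiplicative.toAdd b = 0 then 1 else c) =
      (if Multiplicative.toAdd a = 0 then 1 else c) * (if Multiplicative.toAdd b = 0 then 1 else c)
    by_cases hx : Multiplicative.toAdd a = 0 <;> by_cases hy : Multiplicative.toAdd b = 0 <;>
      simp [key, hx, hy, hc]

theorem iso_prod_z_apply {C : Type*} [Group C] (c : C) (hc : c * c = 1)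
    (ε : Multiplicative (ZMod 2)) : iso_prod_z c hc ε = 1 ∨ iso_prod_z c hc ε = c := by
  show (if Multiplicative.toAdd ε = 0 then 1 else c) = 1 ∨
    (if Multiplicative.toAdd ε = 0 then 1 else c) = c
  split_ifs
  · exact Or.inl rfl
  · exact Or.inr rfl

-- piece RC-ISO
theorem iso_prod {G S : Type*} [Group G] [Finite G] [Group S] (φ : S →* G) (J : G)
    (hJ1 : J ≠ 1) (hJ2 : J * J = 1) (hc : ∀ s, φ s * J = J * φ s) (hJ : J ∉ φ.range)
    (hcard : Nat.card (Subgroup.centralizer {J}) = 2 * Nat.card φ.range) :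
    Nonempty (Subgroup.centralizer {J} ≃* Multiplicative (ZMod 2) × (S ⧸ φ.ker)) := by
  have hJC : J ∈ Subgroup.centralizer ({J} : Set G) := by
    rw [Subgroup.mem_centralizer_iff]
    intro h hh
    rw [Set.mem_singleton_iff] at hh
    rw [hh]
  have hφC : ∀ s, φ s ∈ Subgroup.centralizer ({J} : Set G) := by
    intro s
    rw [Subgroup.mem_centralizer_iff]
    intro h hh
    rw [Set.mem_singleton_iff] at hh
    rw [hh]
    exact (hc s).symm
  -- the two factors
  let Jc : Subgroup.centralizer ({J} : Set G) := ⟨J, hJC⟩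
  have hJc2 : Jc * Jc = 1 := Subtype.ext hJ2
  have hJcen : ∀ x : Subgroup.centralizer ({J} : Set G), Jc * x = x * Jc := by
    intro x
    apply Subtype.ext
    exact (Subgroup.mem_centralizer_iff.mp x.2) J rfl
  let φ' : S →* Subgroup.centralizer ({J} : Set G) := φ.codRestrict _ hφC
  have hker : φ.ker ≤ φ'.ker := by
    intro s hs
    rw [MonoidHom.mem_ker] at hs ⊢
    apply Subtype.ext
    exact hs
  let ψ₂ : S ⧸ φ.ker →* Subgroup.centralizer ({J} : Set G) := QuotientGroup.lift φ.ker φ' hker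
  let ψ₁ : Multiplicative (ZMod 2) →* Subgroup.centralizer ({J} : Set G) := iso_prod_z Jc hJc2
  have hcomm : ∀ (ε : Multiplicative (ZMod 2)) (x : S ⧸ φ.ker), Commute (ψ₁ ε) (ψ₂ x) := by
    intro ε x
    rcases iso_prod_z_apply Jc hJc2 ε with h | h
    · show ψ₁ ε * ψ₂ x = ψ₂ x * ψ₁ ε
      rw [show ψ₁ ε = 1 from h, one_mul, mul_one]
    · show ψ₁ ε * ψ₂ x = ψ₂ x * ψ₁ ε
      rw [show ψ₁ ε = Jc from h]
      exact hJcen _
  let Φ : Multiplicative (ZMod 2) × (S ⧸ φ.ker) →* Subgroup.centralizer ({J} : Set G) :=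
    ψ₁.noncommCoprod ψ₂ hcomm
  have hΦ : ∀ ε x, Φ (ε, x) = ψ₁ ε * ψ₂ x := fun ε x => MonoidHom.noncommCoprod_apply _ _ _ _
  have hψ₂ : ∀ s : S, ((ψ₂ (QuotientGroup.mk s) : Subgroup.centralizer ({J} : Set G)) : G) = φ s :=
    fun s => rfl
  -- injectivity
  have hinj : Function.Injective Φ := by
    rw [injective_iff_map_eq_one]
    rintro ⟨ε, x⟩ h
    rw [hΦ] at h
    obtain ⟨s, rfl⟩ := QuotientGroup.mk_surjective x
    have hs : ∀ g : G, ((ψ₁ ε : Subgroup.centralizer ({J} : Set G)) : G) = g → g * φ s = 1 := by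
      intro g hg
      have h2 := congrArg (Subtype.val) h
      rw [Subgroup.coe_mul, hψ₂, hg] at h2
      exact h2
    have hε : ψ₁ ε = 1 := by
      rcases iso_prod_z_apply Jc hJc2 ε with h1 | h1
      · exact h1
      · exfalso
        apply hJ
        have h3 := hs J (by rw [show ψ₁ ε = Jc from h1])
        refine ⟨s, ?_⟩
        have h4 : φ s = J⁻¹ := eq_inv_of_mul_eq_one_right h3
        rw [h4]
        exact inv_eq_of_mul_eq_one_left hJ2
    have hs1 : φ s = 1 := by
      have h3 := hs 1 (by rw [hε]; rfl)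
      rw [one_mul] at h3
      exact h3
    have hx : (QuotientGroup.mk s : S ⧸ φ.ker) = 1 := by
      rw [QuotientGroup.eq_one_iff]
      exact MonoidHom.mem_ker.mpr hs1
    have hε0 : ε = 1 := by
      obtain ⟨a, rfl⟩ := Multiplicative.ofAdd.surjective ε
      by_contra hne
      have h5 : Multiplicative.toAdd (Multiplicative.ofAdd a) ≠ 0 := by
        intro h6
        apply hne
        rw [toAdd_ofAdd] at h6
        rw [h6]
        rfl
      have h7 : ψ₁ (Multiplicative.ofAdd a) = Jc := by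
        show (if Multiplicative.toAdd (Multiplicative.ofAdd a) = 0 then 1 else Jc) = Jc
        rw [if_neg h5]
      rw [h7] at hε
      exact hJ1 (congrArg Subtype.val hε)
    rw [hε0, hx]
    rfl
  -- cardinalities
  have hfin : Finite (S ⧸ φ.ker) := Finite.of_equiv _ (QuotientGroup.quotientKerEquivRange φ).symm.toEquiv
  have hcq : Nat.card (S ⧸ φ.ker) = Nat.card φ.range :=
    Nat.card_congr (QuotientGroup.quotientKerEquivRange φ).toEquiv
  have hc2 : Nat.card (Multiplicative (ZMod 2)) = 2 := by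
    rw [Nat.card_congr Multiplicative.toAdd, Nat.card_zmod]
  have hbij : Function.Bijective Φ := by
    apply hinj.bijective_of_nat_card_le
    rw [Nat.card_prod, hc2, hcq, hcard]
  exact ⟨(MulEquiv.ofBijective Φ hbij).symm⟩

end Cfsg.Agent.Lib.Helper48.RC
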