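import Mathlib

/-!
# Project RC (helper48, S1152 + S1157), piece RC-N24G

Transport of the order of the normalizer of a Sylow 2-subgroup of `C_G(J)` to `N_G(S) ⊓ C_G(J)`.
-/

set_option autoImplicit false

namespace Cfsg.Agent.Lib.Helper48.RC

-- piece RC-N24G
theorem normalizer_inter_card {G : Type*} [Group G] [Finite G] (J : G)
    (h24 : ∀ S' : Sylow 2 (Subgroup.centralizer {J}),
      Nat.card (Subgroup.normalizer ((S' : Subgroup ↥(Subgroup.centralizer {J})) :
        Set ↥(Subgroup.centralizer {J}))) = 24)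
    (S : Sylow 2 G) (hJS : J ∈ S) (hab : ∀ x ∈ S, ∀ y ∈ S, x * y = y * x) :
    Nat.card ↥(Subgroup.normalizer ((S : Subgroup G) : Set G) ⊓ Subgroup.centralizer {J}) = 24 := by
  have hSC : (S : Subgroup G) ≤ Subgroup.centralizer {J} := by
    intro x hx
    rw [Subgroup.mem_centralizer_iff]
    intro h hh
    rw [Set.mem_singleton_iff] at hh
    subst hh
    exact hab h hJS x hx
  have h1 := h24 (S.subtype hSC)
  rw [Sylow.coe_subtype, ← Subgroup.subgroupOf_normalizer_eq hSC] at h1
  rw [← h1, ← Subgroup.inf_subgroupOf_right]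
  exact (Nat.card_congr (Subgroup.subgroupOfEquivOfLe inf_le_right).toEquiv).symm

end Cfsg.Agent.Lib.Helper48.RC
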