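import Cfsg.Agent.Lib.Helper38.Sp4AV
import Cfsg.Agent.Lib.Helper38.Sp4AN
import Cfsg.Agent.Lib.Helper38.Sp4BV
import Cfsg.Agent.Lib.Helper38.Sp4BN
import Cfsg.Agent.Lib.Helper38.Sp4CV
import Cfsg.Agent.Lib.Helper38.Sp4CN
import Cfsg.Agent.Lib.Helper38.Sp4Pres
import Cfsg.Agent.Lib.Helper39.OrdGen

/-!
The group presented by `Sp4.W0` has order `979200`, and four of the `255` cosets of its subgroup
`⟨a, c, d, e, f⟩` form a base.
-/

set_option autoImplicit false
set_option maxRecDepth 100000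
set_option maxHeartbeats 0

namespace Cfsg.Agent.Lib.Helper38.Sp4

open Cfsg.Agent.Lib.Helper38 Cfsg.Agent.Lib.Helper39.Ord

/-- the presented group -/
abbrev P : Type := WP 6 W0

/-- the generators -/
noncomputable abbrev δ : ℕ → P := WP.gen 6 W0

theorem A_chkG : Sp4A.cert.chkG = true := by decide +kernel

theorem A_words : (List.range Sp4A.cert.nrel).map Sp4A.cert.wordL = W0 := by decide +kernel

theorem A_hP : Cert.Pres Sp4A.cert (WP.gen 6 W0) (Sp4A.cert.subgp (WP.gen 6 W0)) :=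
  WP.pres Sp4A.cert W0 A_words Sp4A.chkN_all

theorem A_hC : Cert.Checks Sp4A.cert := ⟨Sp4A.chkV_all, Sp4A.chkN_all, A_chkG⟩

theorem B_chkG : Sp4B.cert.chkG = true := by decide +kernel

theorem B_words : (List.range Sp4B.cert.nrel).map Sp4B.cert.wordL = W1 := by decide +kernel

theorem B_hP : Cert.Pres Sp4B.cert (WP.gen 6 W1) (Sp4B.cert.subgp (WP.gen 6 W1)) :=
  WP.pres Sp4B.cert W1 B_words Sp4B.chkN_all

theorem B_hC : Cert.Checks Sp4B.cert := ⟨Sp4B.chkV_all, Sp4B.chkN_all, B_chkG⟩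

theorem C_chkG : Sp4C.cert.chkG = true := by decide +kernel

theorem C_words : (List.range Sp4C.cert.nrel).map Sp4C.cert.wordL = W2 := by decide +kernel

theorem C_hP : Cert.Pres Sp4C.cert (WP.gen 6 W2) (Sp4C.cert.subgp (WP.gen 6 W2)) :=
  WP.pres Sp4C.cert W2 C_words Sp4C.chkN_all

theorem C_hC : Cert.Checks Sp4C.cert := ⟨Sp4C.chkV_all, Sp4C.chkN_all, C_chkG⟩

theorem fin2 : Finite (WP 6 W2) ∧ Nat.card (WP 6 W2) = 48 :=
  ub_bot C_hP C_hC (by decide)

theorem fin1 : Finite (WP 6 W1) ∧ Nat.card (WP 6 W1) ≤ 80 * 48 := by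
  have := fin2.1
  have h := ub_step B_hP B_hC W1 (fun w hw => WP.gen_word 6 W1 hw) 6 W2 (actL [0, 2, 3, 4])
    (actL_ge _ 6 (by decide)) (by decide +kernel) (Cert.hsub_of (by decide +kernel))
  exact ⟨h.1, h.2.trans (Nat.mul_le_mul_left _ fin2.2.le)⟩

theorem fin0 : Finite P ∧ Nat.card P ≤ 255 * (80 * 48) := by
  have := fin1.1
  have h := ub_step A_hP A_hC W0 (fun w hw => WP.gen_word 6 W0 hw) 6 W1 (actL [0, 1, 2, 3, 4])
    (actL_ge _ 6 (by decide)) (by decide +kernel) (Cert.hsub_of (by decide +kernel))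
  exact ⟨h.1, h.2.trans (Nat.mul_le_mul_left _ fin1.2)⟩

instance finP : Finite P := fin0.1

/-- the subgroup `⟨a, c, d, e, f⟩` -/
noncomputable abbrev H0 : Subgroup P := Sp4A.cert.subgp δ

/-- the labelling of the cosets of `H0` -/
noncomputable abbrev F0 : ℕ → P ⧸ H0 := Sp4A.cert.F δ H0

theorem hA : TAct Sp4A.cert δ F0 := tact_of A_hP A_hC

/-- the base points with their orbit lengths -/
def chainL : List (ℕ × ℕ) := [(0, 255), (1, 64), (3, 15), (4, 4)]

/-- words fixing the first 1 base points -/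
def cw1 : List (List ℕ) := [[0], [1], [2], [3], [4]]

/-- the orbit tree of the base point number 1 -/
def ct1 : List (ℕ × ℕ × ℕ) := [(2, 1, 0), (3, 1, 2), (4, 1, 4), (5, 2, 2), (6, 2, 4), (7, 3, 1), (8, 3, 3), (11, 5, 1), (12, 5, 3), (13, 7, 2), (14, 7, 3), (20, 11, 2), (21, 11, 3), (22, 13, 1), (23, 13, 3), (24, 13, 4), (26, 14, 2), (31, 20, 1), (32, 20, 3), (33, 20, 4), (35, 21, 2), (36, 22, 3), (37, 22, 4), (39, 23, 2), (40, 23, 4), (46, 26, 1), (47, 26, 4), (56, 31, 3), (57, 31, 4), (59, 32, 2), (60, 32, 4), (66, 35, 1), (67, 35, 4), (69, 36, 2), (70, 36, 4), (72, 37, 2), (77, 39, 1), (78, 39, 4), (80, 40, 2), (89, 46, 2), (90, 46, 4), (115, 56, 2), (116, 56, 4), (118, 57, 2), (122, 59, 1), (92, 59, 4), (124, 60, 2), (133, 66, 2), (134, 66, 4), (143, 72, 1), (144, 72, 3), (154, 77, 4), (156, 78, 2), (200, 118, 1), (201, 118, 3), (169, 122, 4), (173, 92, 2), (88, 143, 2), (129, 143, 3), (166, 200, 2), (178, 200, 3), (167, 88, 4),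 (235, 166, 4)]

/-- words fixing the first 2 base points -/
def cw2 : List (List ℕ) := [[1], [3, 0], [2, 4, 2, 0]]

/-- the orbit tree of the base point number 2 -/
def ct2 : List (ℕ × ℕ × ℕ) := [(7, 3, 0), (12, 3, 1), (4, 3, 2), (21, 7, 1), (24, 7, 2), (67, 21, 2), (37, 24, 0), (60, 24, 1), (134, 67, 0), (78, 67, 1), (116, 37, 1), (154, 134, 1), (69, 134, 2), (89, 116, 2)]

/-- words fixing the first 3 base points -/
def cw3 : List (List ℕ) := [[4, 2, 1, 2, 4], [3, 2, 4, 2, 3, 0]]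

/-- the orbit tree of the base point number 3 -/
def ct3 : List (ℕ × ℕ × ℕ) := [(24, 4, 0), (12, 4, 1), (67, 24, 1)]

theorem lv0 : 255 ≤ (MulAction.orbit (PSt P F0 []) (F0 0)).ncard := top_orbit hA 0

theorem lv1 : 64 ≤ (MulAction.orbit (PSt P F0 [0]) (F0 1)).ncard :=
  reach_tree hA [0] cw1 (by decide +kernel) 1 (by decide) ct1 (by decide +kernel) (by decide)

theorem lv2 : 15 ≤ (MulAction.orbit (PSt P F0 [1, 0]) (F0 3)).ncard :=
  reach_tree hA [1, 0] cw2 (by decide +kernel) 3 (by decide) ct2 (by decide +kernel) (by decide)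

theorem lv3 : 4 ≤ (MulAction.orbit (PSt P F0 [3, 1, 0]) (F0 4)).ncard :=
  reach_tree hA [3, 1, 0] cw3 (by decide +kernel) 4 (by decide) ct3 (by decide +kernel) (by decide)

theorem chain : ChainF P F0 [] chainL := by
  simp only [chainL, ChainF]
  exact ⟨lv0, lv1, lv2, lv3, trivial⟩

theorem prodL : (chainL.map Prod.snd).prod = 979200 := by decide +kernel

theorem ob : Nat.card P = (chainL.map Prod.snd).prod ∧
    ∀ g : P, (∀ p ∈ chainL.map Prod.fst, g • F0 p = F0 p) → g = 1 :=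
  order_baseF F0 chainL chain (by rw [prodL]; exact fin0.2)

/-- **The order.** -/
theorem card_P : Nat.card P = 979200 := ob.1.trans prodL

/-- an element fixing all cosets is trivial -/
theorem faithful (g : P) (h : ∀ c < 255, g • F0 c = F0 c) : g = 1 :=
  ob.2 g (fun p hp => h p (by
    have : p ∈ [0, 1, 3, 4] := hp
    revert p
    decide))

end Cfsg.Agent.Lib.Helper38.Sp4
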