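import Cfsg.Agent.S0245
import Cfsg.Agent.Lib.Helper38.Sp4Ord
import Cfsg.Agent.Lib.Helper38.Sp4Mat

/-!
The group presented by `Sp4.W0` is isomorphic to the symplectic group `Sp₄(4)`: the cosets of
`⟨a, c, d, e, f⟩` are labelled by the nonzero vectors compatibly with the matrices of the
generators, so that the kernel of `θ` fixes all cosets; and the two groups have the same order.
-/

set_option autoImplicit false
set_option maxRecDepth 100000
set_option maxHeartbeats 0

namespace Cfsg.Agent.Lib.Helper38.Sp4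

open Cfsg.Agent.Lib.Helper38 Cfsg.Agent.Lib.Helper39.Ord

/-- the codes of the vectors labelling the cosets, packed -/
def VT : ℕ := 0x3103320f23023d0e783e46cf2b21293706252f103062734243fe26666a0b686327677c0736f77bfbcef134707f7135747533bc397258556c3bb42cc17afdc30cc24ecbc0a9a10aab82082ee250646f616b1ce12dedd90911143c22604a4b47faf2241df4d86ee8e3eae0e6898b655954bf3a0df33fffcaf8d41e38b0f5517779767d18e7d2b7bab25dae951ab881eec5cdf9c7cca56dadc6a78ec4a38a88ece569e9ddefd51f15202a85874fb3f619f0dcd3ace4a4835cb9941bfcd0dfbbb67ebea299d6b19c9b8dc9c8af868480ebd1dea028a88fb598d7a69d9adbbd9097924d49488cdaaa9196935a9e454140044c5b9f525f0544535e12571356161701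

/-- the code of the vector labelling the coset `c` -/
def vcd (c : ℕ) : ℕ := VT / 256 ^ c % 256

/-- the cosets labelled by the vectors, packed -/
def IT : ℕ := 0x89e5c144d79f6d87d951829b8b9ed54f5b70aa6030965d987b945f4b97b3ac95422e5c4e231aa99a273b5a864d7a2f43f3d66e6bbc8836356c676f64c0bec3bb8e3e22cc41784772794029c552773a833475684cb719ba2b66266a4a633db92d0d14253938243c2820177446161f18212a65371b926293615433553249b67131d23f7ddcd8c27ff6807ececfe8cad1d3b09969c7aee25ee0dde391b1dfe9afa30b0776480e1590c90503c88f080c81b253bd1e0fa1a21d1ca0f41309e6e712118af5f8a5c68dcb84efdad0d4cdfcfeeaecb4abc4f256f02cdee4ed9dfaa4f15759859cad4573507c010258a60406a7ebfbf78cbfe1b8a8b5dbee0a10fdf900ff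

/-- the number of a field element -/
def toN : F4 → ℕ
  | F4.z => 0
  | F4.o => 1
  | F4.w => 2
  | F4.v => 3

/-- the coset labelled by a vector -/
def idxOf (y : ι → F4) : ℕ :=
  IT / 256 ^ (toN (y (Sum.inl 0)) + 4 * toN (y (Sum.inl 1)) + 16 * toN (y (Sum.inr 0)) +
    64 * toN (y (Sum.inr 1))) % 256

theorem idx_vcd : ∀ c < 255, idxOf (vc (vcd c)) = c := by decide +kernel

theorem vec_step : ∀ c < 255, ∀ s < 6, mvB (cd s) (vcd c) (vcd (Sp4A.cert.tn c s)) = true := by
  decide +kernel

/-- the action of the presented group on the vectors -/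
noncomputable def ρ (g : P) (y : ι → F4) : ι → F4 := (mat (θ g)).mulVec y

theorem ρ_one (y : ι → F4) : ρ 1 y = y := by
  unfold ρ
  rw [map_one, map_one, Matrix.one_mulVec]

theorem ρ_mul (g h : P) (y : ι → F4) : ρ (g * h) y = ρ g (ρ h y) := by
  unfold ρ
  rw [map_mul, map_mul, Matrix.mulVec_mulVec]

theorem ρ_gen (s c : ℕ) (hc : c < 255) (hs : s < 6) :
    ρ (δ s) (vc (vcd c)) = vc (vcd (Sp4A.cert.tn c s)) := by
  unfold ρ
  rw [θ_gen, mat_sp]
  exact mv_spec _ _ _ (vec_step c hc s hs)

/-- the labelling of the cosets by the vectors is compatible with the two actions -/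
theorem equivariant : ∀ g : P, ∀ c < 255, ∀ c' < 255, g • F0 c = F0 c' →
    ρ g (vc (vcd c)) = vc (vcd c') := by
  intro g
  have hg : g ∈ Subgroup.closure (δ '' {s | s < 6}) := by
    rw [WP.closure_gen]; exact Subgroup.mem_top g
  induction hg using Subgroup.closure_induction with
  | mem y hy =>
    obtain ⟨s, hs, rfl⟩ := hy
    intro c hc c' hc' h
    rw [hA.step c hc s hs] at h
    have e := hA.inj _ (hA.lt c hc s hs) _ hc' h
    rw [ρ_gen s c hc hs, e]
  | one =>
    intro c hc c' hc' h
    rw [one_smul] at h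
    rw [ρ_one, hA.inj c hc c' hc' h]
  | mul a b _ _ ha hb =>
    intro c hc c' hc' h
    obtain ⟨c'', hc'', e⟩ := hA.surj (b • F0 c)
    rw [mul_smul, ← e] at h
    rw [ρ_mul, hb c hc c'' hc'' e.symm, ha c'' hc'' c' hc' h]
  | inv a _ ha =>
    intro c hc c' hc' h
    have h2 : a • F0 c' = F0 c := by rw [← h, smul_inv_smul]
    have h3 := ha c' hc' c hc h2
    rw [← h3, ← ρ_mul, inv_mul_cancel, ρ_one]

theorem ker_θ (g : P) (h : θ g = 1) : g = 1 := by
  apply faithful
  intro c hc
  obtain ⟨c', hc', e⟩ := hA.surj (g • F0 c)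
  have h1 := equivariant g c hc c' hc' e.symm
  have h2 : ρ g (vc (vcd c)) = vc (vcd c) := by
    unfold ρ
    rw [h, map_one, Matrix.one_mulVec]
  rw [h2] at h1
  have h3 := congrArg idxOf h1
  rw [idx_vcd c hc, idx_vcd c' hc'] at h3
  rw [← e, h3]

theorem θ_inj : Function.Injective θ := (injective_iff_map_eq_one θ).mpr ker_θ

theorem card_Sp : Nat.card (Matrix.symplecticGroup (Fin 2) F4) = 979200 := by
  have h := Cfsg.Agent.S0245.result (F := F4) (q := 4) F4.card 2
  rw [h]
  decide

theorem θ_bij : Function.Bijective θ := by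
  have hfin : Finite (Matrix.symplecticGroup (Fin 2) F4) :=
    Nat.finite_of_card_ne_zero (by rw [card_Sp]; norm_num)
  exact θ_inj.bijective_of_nat_card_le (by rw [card_Sp, card_P])

/-- the presented group is the symplectic group -/
noncomputable def equivSp : P ≃* Matrix.symplecticGroup (Fin 2) F4 := MulEquiv.ofBijective θ θ_bij

end Cfsg.Agent.Lib.Helper38.Sp4
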