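import Cfsg.Agent.Lib.Helper38.Suz22880Data

set_option maxRecDepth 100000
set_option maxHeartbeats 0

namespace Cfsg.Agent.Lib.Helper38.Suz22880

theorem chkN_84 : allFrom 21000 250 cert.chkN = true := by decide +kernel
theorem chkN_85 : allFrom 21250 250 cert.chkN = true := by decide +kernel
theorem chkN_86 : allFrom 21500 250 cert.chkN = true := by decide +kernel
theorem chkN_87 : allFrom 21750 250 cert.chkN = true := by decide +kernel
theorem chkN_88 : allFrom 22000 250 cert.chkN = true := by decide +kernel
theorem chkN_89 : allFrom 22250 250 cert.chkN = true := by decide +kernel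
theorem chkN_90 : allFrom 22500 250 cert.chkN = true := by decide +kernel
theorem chkN_91 : allFrom 22750 130 cert.chkN = true := by decide +kernel

end Cfsg.Agent.Lib.Helper38.Suz22880
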