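import Cfsg.Agent.Lib.Helper38.CosetWP

/-!
A presentation of the unitary group `U₆(2)` on eight 3-transpositions `c, d, e, f, g, h, i, u`
(in the Fischer group `Fi₂₂`: the generators `c, …, i` and `u = bacb·dcedhdecd·bcab`, modulo the
central involution `a` of their centraliser), and the presentations of the chain of subgroups
`⟨c, d, e, f, h, i, u⟩`, `⟨d, e, f, h, i, u⟩`, `⟨d, e, f, h, i⟩`.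
-/

namespace Cfsg.Agent.Lib.Helper38.U6

/-- the relator words of the presentation of `U₆(2)` on `c, d, e, f, g, h, i, u` -/
def W0 : List (List ℕ) := [
  [0, 1, 0, 1, 0, 1],
  [0, 2, 0, 2],
  [0, 3, 0, 3],
  [0, 4, 0, 4],
  [0, 5, 0, 5],
  [0, 6, 0, 6],
  [0, 7, 0, 7],
  [1, 2, 1, 2, 1, 2],
  [1, 3, 1, 3],
  [1, 4, 1, 4],
  [1, 5, 1, 5, 1, 5],
  [1, 6, 1, 6],
  [1, 7, 1, 7],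
  [2, 3, 2, 3, 2, 3],
  [2, 4, 2, 4],
  [2, 5, 2, 5],
  [2, 6, 2, 6],
  [2, 7, 2, 7],
  [3, 4, 3, 4, 3, 4],
  [3, 5, 3, 5],
  [3, 6, 3, 6],
  [3, 7, 3, 7, 3, 7],
  [4, 5, 4, 5],
  [4, 6, 4, 6],
  [4, 7, 4, 7],
  [5, 6, 5, 6, 5, 6],
  [5, 7, 5, 7],
  [6, 7, 6, 7, 6, 7],
  [1, 2, 3, 6, 5, 1, 2, 7, 3, 6, 5, 1, 2, 7, 3, 6, 7, 5, 6, 1, 2, 3, 7, 5],
  [0, 1, 2, 1, 3, 2, 1, 5, 1, 2, 3, 7, 3, 2, 1, 5, 0, 1, 2, 3, 5, 1, 0, 2, 7, 1, 5, 3, 2, 1],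
  [0, 1, 2, 3, 4, 5, 6, 0, 1, 2, 3, 4, 5, 6, 0, 1, 2, 3, 4, 5, 6, 0, 1, 2, 3, 4, 5, 6, 0, 1, 2, 3, 4, 5, 6, 0, 1, 2, 3, 4, 5, 6, 0, 1, 2, 3, 4, 5, 6, 0, 1, 2, 3, 4, 5, 6, 0, 1, 2, 3, 4, 5, 6],
  [1, 2, 1, 3, 2, 1, 5, 1, 2, 3, 7, 3, 2, 1, 5, 4, 3, 2, 1, 5, 7, 3, 2, 4, 3, 7, 1, 2, 3, 4]]

/-- the relators not involving `g` -/
def W1 : List (List ℕ) := [
  [0, 1, 0, 1, 0, 1],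
  [0, 2, 0, 2],
  [0, 3, 0, 3],
  [0, 5, 0, 5],
  [0, 6, 0, 6],
  [0, 7, 0, 7],
  [1, 2, 1, 2, 1, 2],
  [1, 3, 1, 3],
  [1, 5, 1, 5, 1, 5],
  [1, 6, 1, 6],
  [1, 7, 1, 7],
  [2, 3, 2, 3, 2, 3],
  [2, 5, 2, 5],
  [2, 6, 2, 6],
  [2, 7, 2, 7],
  [3, 5, 3, 5],
  [3, 6, 3, 6],
  [3, 7, 3, 7, 3, 7],
  [5, 6, 5, 6, 5, 6],
  [5, 7, 5, 7],
  [6, 7, 6, 7, 6, 7],
  [1, 2, 3, 6, 5, 1, 2, 7, 3, 6, 5, 1, 2, 7, 3, 6, 7, 5, 6, 1, 2, 3, 7, 5],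
  [0, 1, 2, 1, 3, 2, 1, 5, 1, 2, 3, 7, 3, 2, 1, 5, 0, 1, 2, 3, 5, 1, 0, 2, 7, 1, 5, 3, 2, 1],
  [4]]

/-- the relators involving `d, e, f, h, i, u` only -/
def W2 : List (List ℕ) := [
  [1, 2, 1, 2, 1, 2],
  [1, 3, 1, 3],
  [1, 5, 1, 5, 1, 5],
  [1, 6, 1, 6],
  [1, 7, 1, 7],
  [2, 3, 2, 3, 2, 3],
  [2, 5, 2, 5],
  [2, 6, 2, 6],
  [2, 7, 2, 7],
  [3, 5, 3, 5],
  [3, 6, 3, 6],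
  [3, 7, 3, 7, 3, 7],
  [5, 6, 5, 6, 5, 6],
  [5, 7, 5, 7],
  [6, 7, 6, 7, 6, 7],
  [1, 2, 3, 6, 5, 1, 2, 7, 3, 6, 5, 1, 2, 7, 3, 6, 7, 5, 6, 1, 2, 3, 7, 5],
  [0],
  [4]]

/-- the relators involving `d, e, f, h, i` only -/
def W3 : List (List ℕ) := [
  [1, 2, 1, 2, 1, 2],
  [1, 3, 1, 3],
  [1, 5, 1, 5, 1, 5],
  [1, 6, 1, 6],
  [2, 3, 2, 3, 2, 3],
  [2, 5, 2, 5],
  [2, 6, 2, 6],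
  [3, 5, 3, 5],
  [3, 6, 3, 6],
  [5, 6, 5, 6, 5, 6],
  [0],
  [4],
  [7]]

end Cfsg.Agent.Lib.Helper38.U6
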