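import Mathlib
import Cfsg.Agent.Lib.Helper22.W2Defs

/-!
# Project W2 (S4707, architect helper22), piece CORE

Pure combinatorics: the integer matrix `a i v` (`v ≠ 0`) has rows `i₀` (all `-1`), `i₁`, `i₂`
(summing to `1`), Gram matrix `2 + [v = v'] + [v = -v']`; then one row is `1`, the other `0`, and the
remaining rows are `± 1` on exactly one class `{v, -v}` each; the degree equation pins down the row
of the class `± 1`.
-/

set_option autoImplicit false

namespace Cfsg.Agent.Lib.Helper38.W2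

open Cfsg Cfsg.Agent.Lib.Helper22.W2
open scoped ComplexConjugate

universe u

theorem core_single {ι : Type*} [DecidableEq ι] (T : Finset ι) (f : ι → ℤ)
    (h : ∑ i ∈ T, f i * f i = 1) :
    ∃ j ∈ T, (f j = 1 ∨ f j = -1) ∧ ∀ i ∈ T, i ≠ j → f i = 0 := by
  have hex : ∃ j ∈ T, f j ≠ 0 := by
    by_contra hne
    push Not at hne
    rw [Finset.sum_eq_zero (fun i hi => by rw [hne i hi, mul_zero])] at h
    exact zero_ne_one h
  obtain ⟨j, hj, hfj⟩ := hex
  rw [← Finset.add_sum_erase T _ hj] at h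
  have hnn : 0 ≤ ∑ i ∈ T.erase j, f i * f i :=
    Finset.sum_nonneg (fun i _ => mul_self_nonneg _)
  have h1 : 0 + 1 ≤ f j * f j := Int.add_one_le_iff.2 (mul_self_pos.2 hfj)
  have h2 : f j * f j = 1 := by linarith
  have h3 : ∑ i ∈ T.erase j, f i * f i = 0 := by linarith
  refine ⟨j, hj, mul_self_eq_one_iff.1 h2, ?_⟩
  intro i hi hij
  have := (Finset.sum_eq_zero_iff_of_nonneg (fun i _ => mul_self_nonneg (f i))).1 h3 i
    (Finset.mem_erase.2 ⟨hij, hi⟩)
  exact mul_self_eq_zero.1 this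

theorem core_int {ι : Type*} [Fintype ι] [DecidableEq ι] (p : ℕ) [Fact p.Prime] (hp : 5 < p)
    (A : ι → ZMod p → ℤ) (C D : ι → ℤ) (i₀ i₁ i₂ : ι) (h01 : i₁ ≠ i₀) (h02 : i₂ ≠ i₀)
    (h12 : i₁ ≠ i₂)
    (hC : ∀ i, 0 ≤ C i) (hD : ∀ i, 0 < D i)
    (hsym : ∀ i v, A i (-v) = A i v)
    (hgram : ∀ v v' : ZMod p, v ≠ 0 → v' ≠ 0 →
      ∑ i, A i v * A i v' = (if v = v' then 1 else 0) + (if v = -v' then 1 else 0) + 2)
    (hdeg0 : ∀ v : ZMod p, v ≠ 0 → ∑ i, D i * A i v = 0)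
    (hdeg : ∀ i, D i = (p : ℤ) * C i + ∑ v : ZMod p, (if v = 0 then 0 else A i v))
    (h0a : ∀ v : ZMod p, v ≠ 0 → A i₀ v = -1) (h0d : D i₀ = 1)
    (h12a : ∀ v : ZMod p, v ≠ 0 → A i₁ v + A i₂ v = 1) (h12c : C i₁ + C i₂ = 1)
    (hx1 : A i₁ 1 ≠ 0) :
    ∃ j : ι, D j = (p : ℤ) - 2 ∧
      ∀ v : ZMod p, v ≠ 0 → A j v = if v = 1 ∨ v = -1 then -1 else 0 := by
  have : Nonempty ι := ⟨i₀⟩
  have hp2 : (2 : ZMod p) ≠ 0 := by
    intro h
    have h' : ((2 : ℕ) : ZMod p) = 0 := by exact_mod_cast h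
    rw [ZMod.natCast_eq_zero_iff] at h'
    have := Nat.le_of_dvd (by norm_num) h'
    omega
  have hneg : ∀ v : ZMod p, v ≠ 0 → v ≠ -v := by
    intro v hv h
    have h2 : (2 : ZMod p) * v = 0 := by
      rw [two_mul]
      nth_rewrite 1 [h]
      exact neg_add_cancel v
    rcases mul_eq_zero.1 h2 with h3 | h3
    · exact hp2 h3
    · exact hv h3
  have h1ne : (1 : ZMod p) ≠ 0 := one_ne_zero
  set T : Finset ι := ((Finset.univ.erase i₀).erase i₁).erase i₂ with hT
  have hsplit : ∀ f : ι → ℤ, ∑ i, f i = f i₀ + f i₁ + f i₂ + ∑ i ∈ T, f i := by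
    intro f
    have m0 : i₀ ∈ (Finset.univ : Finset ι) := Finset.mem_univ _
    have m1 : i₁ ∈ (Finset.univ : Finset ι).erase i₀ := Finset.mem_erase.2 ⟨h01, Finset.mem_univ _⟩
    have m2 : i₂ ∈ ((Finset.univ : Finset ι).erase i₀).erase i₁ :=
      Finset.mem_erase.2 ⟨h12.symm, Finset.mem_erase.2 ⟨h02, Finset.mem_univ _⟩⟩
    rw [← Finset.add_sum_erase _ f m0, ← Finset.add_sum_erase _ f m1,
      ← Finset.add_sum_erase _ f m2]
    ring
  -- the pattern at `v`
  have hsq : ∀ v : ZMod p, v ≠ 0 →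
      (A i₁ v = 0 ∨ A i₁ v = 1) ∧ ∑ i ∈ T, A i v * A i v = 1 := by
    intro v hv
    have h := hgram v v hv hv
    rw [if_pos rfl, if_neg (hneg v hv), hsplit, h0a v hv] at h
    have hy : A i₂ v = 1 - A i₁ v := by linarith [h12a v hv]
    have hnn : 0 ≤ ∑ i ∈ T, A i v * A i v := Finset.sum_nonneg (fun i _ => mul_self_nonneg _)
    rw [hy] at h
    have hx : A i₁ v = 0 ∨ A i₁ v = 1 := by
      have h1 : A i₁ v * (A i₁ v - 1) ≤ 0 := by
        by_contra hc
        have h1' : 0 + 1 ≤ A i₁ v * (A i₁ v - 1) := Int.add_one_le_iff.2 (not_le.1 hc)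
        linarith
      have h2 : 0 ≤ A i₁ v := by nlinarith
      have h3 : A i₁ v ≤ 1 := by nlinarith
      omega
    refine ⟨hx, ?_⟩
    rcases hx with hx | hx <;> rw [hx] at h <;> linarith
  have hj : ∀ v : ZMod p, v ≠ 0 →
      ∃ j ∈ T, (A j v = 1 ∨ A j v = -1) ∧ ∀ i ∈ T, i ≠ j → A i v = 0 :=
    fun v hv => core_single T (fun i => A i v) (hsq v hv).2
  choose! J hJT hJe hJz using hj
  have hcross : ∀ v v' : ZMod p, v ≠ 0 → v' ≠ 0 → v ≠ v' → v ≠ -v' →
      (J v ≠ J v' → A i₁ v = A i₁ v') ∧ (J v = J v' → A i₁ v ≠ A i₁ v') := by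
    intro v v' hv hv' hne hne'
    have h := hgram v v' hv hv'
    rw [if_neg hne, if_neg hne', hsplit, h0a v hv, h0a v' hv'] at h
    have hy : A i₂ v = 1 - A i₁ v := by linarith [h12a v hv]
    have hy' : A i₂ v' = 1 - A i₁ v' := by linarith [h12a v' hv']
    rw [hy, hy'] at h
    constructor
    · intro hJ
      have hS : ∑ i ∈ T, A i v * A i v' = 0 := by
        apply Finset.sum_eq_zero
        intro i hi
        by_cases hi1 : i = J v
        · rw [hJz v' hv' i hi (by rw [hi1]; exact hJ), mul_zero]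
        · rw [hJz v hv i hi hi1, zero_mul]
      rw [hS] at h
      rcases (hsq v hv).1 with hx | hx <;> rcases (hsq v' hv').1 with hx' | hx' <;>
        rw [hx, hx'] at h ⊢ <;> norm_num at h
    · intro hJ hxx
      have hS : ∑ i ∈ T, A i v * A i v' = A (J v) v * A (J v) v' := by
        apply Finset.sum_eq_single (J v)
        · intro i hi hi1
          rw [hJz v hv i hi hi1, zero_mul]
        · intro hnot
          exact absurd (hJT v hv) hnot
      rw [hS, hxx] at h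
      have e1 := hJe v hv
      have e2 := hJe v' hv'
      rw [← hJ] at e2
      rcases (hsq v' hv').1 with hx' | hx' <;> rcases e1 with he | he <;>
        rcases e2 with he' | he' <;> rw [hx', he, he'] at h <;> norm_num at h
  have hpat : ∀ v v' : ZMod p, v ≠ 0 → v' ≠ 0 → A i₁ v = A i₁ v' := by
    intro v v' hv hv'
    by_contra hxx
    have hne : v ≠ v' := fun h => hxx (by rw [h])
    have hne' : v ≠ -v' := fun h => hxx (by rw [h, hsym])
    have hJ : J v = J v' := by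
      by_contra hJ
      exact hxx ((hcross v v' hv hv' hne hne').1 hJ)
    have hcard : ({0, v, -v, v', -v'} : Finset (ZMod p)).card <
        (Finset.univ : Finset (ZMod p)).card := by
      rw [Finset.card_univ, ZMod.card]
      exact lt_of_le_of_lt Finset.card_le_five hp
    obtain ⟨u, -, hu⟩ := Finset.exists_mem_notMem_of_card_lt_card hcard
    simp only [Finset.mem_insert, Finset.mem_singleton, not_or] at hu
    obtain ⟨hu0, huv, huv', huv2, huv2'⟩ := hu
    have hxu := (hsq u hu0).1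
    have hxv := (hsq v hv).1
    have hxv' := (hsq v' hv').1
    have c1 := hcross u v hu0 hv huv huv'
    have c2 := hcross u v' hu0 hv' huv2 huv2'
    have hor : A i₁ u = A i₁ v ∨ A i₁ u = A i₁ v' := by omega
    rcases hor with h | h
    · have n1 : J u ≠ J v := fun hJ' => c1.2 hJ' h
      have e1 : J u = J v' := by
        by_contra hJ'
        exact hxx (by rw [← h]; exact c2.1 hJ')
      exact n1 (e1.trans hJ.symm)
    · have n1 : J u ≠ J v' := fun hJ' => c2.2 hJ' h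
      have e1 : J u = J v := by
        by_contra hJ'
        exact hxx (by rw [← h]; exact (c1.1 hJ').symm)
      exact n1 (e1.trans hJ)
  have hA1 : ∀ v : ZMod p, v ≠ 0 → A i₁ v = 1 := by
    intro v hv
    have h := hpat v 1 hv h1ne
    rcases (hsq 1 h1ne).1 with h' | h'
    · exact absurd h' hx1
    · rw [h, h']
  have hA2 : ∀ v : ZMod p, v ≠ 0 → A i₂ v = 0 := by
    intro v hv
    linarith [h12a v hv, hA1 v hv]
  have hJne : ∀ v v' : ZMod p, v ≠ 0 → v' ≠ 0 → v ≠ v' → v ≠ -v' → J v ≠ J v' :=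
    fun v v' hv hv' hne hne' hJ => (hcross v v' hv hv' hne hne').2 hJ (hpat v v' hv hv')
  have hd1 : D i₁ = (p : ℤ) * C i₁ + ((p : ℤ) - 1) := by
    rw [hdeg i₁]
    congr 1
    have hrw : ∀ v : ZMod p, (if v = 0 then (0 : ℤ) else A i₁ v) = 1 - (if v = 0 then 1 else 0) := by
      intro v
      split_ifs with h
      · simp
      · rw [hA1 v h]; simp
    rw [Finset.sum_congr rfl (fun v _ => hrw v), Finset.sum_sub_distrib]
    simp [ZMod.card]
  have hd2 : D i₂ = (p : ℤ) * C i₂ := by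
    rw [hdeg i₂]
    have : ∑ v : ZMod p, (if v = 0 then (0 : ℤ) else A i₂ v) = 0 := by
      apply Finset.sum_eq_zero
      intro v _
      split_ifs with h
      · rfl
      · exact hA2 v h
    rw [this, add_zero]
  have hC2 : C i₂ ≠ 0 := by
    intro h
    have := hD i₂
    rw [hd2, h, mul_zero] at this
    exact lt_irrefl _ this
  have hC1 : C i₁ = 0 := by
    have := hC i₁
    have := hC i₂
    omega
  have hD1 : D i₁ = (p : ℤ) - 1 := by
    rw [hd1, hC1]; ring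
  have hJ1T := hJT 1 h1ne
  have h := hdeg0 1 h1ne
  rw [hsplit, h0d, h0a 1 h1ne, hA1 1 h1ne, hA2 1 h1ne] at h
  have hS : ∑ i ∈ T, D i * A i 1 = D (J 1) * A (J 1) 1 := by
    apply Finset.sum_eq_single (J 1)
    · intro i hi hi1
      rw [hJz 1 h1ne i hi hi1, mul_zero]
    · intro hnot
      exact absurd hJ1T hnot
  rw [hS, hD1] at h
  have hpZ : (5 : ℤ) < (p : ℤ) := by exact_mod_cast hp
  have hε : A (J 1) 1 = -1 := by
    rcases hJe 1 h1ne with he | he
    · exfalso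
      rw [he] at h
      have := hD (J 1)
      linarith
    · exact he
  refine ⟨J 1, ?_, ?_⟩
  · rw [hε] at h
    linarith
  · intro v hv
    split_ifs with hv1
    · rcases hv1 with rfl | rfl
      · exact hε
      · rw [hsym]; exact hε
    · rw [not_or] at hv1
      exact hJz v hv (J 1) hJ1T (hJne v 1 hv h1ne hv1.1 hv1.2).symm

/-- PIECE CORE -/
theorem core {ι : Type*} [Fintype ι] [DecidableEq ι] (p : ℕ) [Fact p.Prime] (hp : 5 < p)
    (a : ι → ZMod p → ℂ) (c d : ι → ℂ) (i₀ i₁ i₂ : ι) (h01 : i₁ ≠ i₀) (h02 : i₂ ≠ i₀)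
    (h12 : i₁ ≠ i₂)
    (haz : ∀ i v, ∃ n : ℤ, a i v = (n : ℂ))
    (hcn : ∀ i, ∃ n : ℕ, c i = (n : ℂ))
    (hdn : ∀ i, ∃ n : ℕ, 0 < n ∧ d i = (n : ℂ))
    (hsym : ∀ i v, a i (-v) = a i v)
    (hgram : ∀ v v' : ZMod p, v ≠ 0 → v' ≠ 0 →
      ∑ i, a i v * a i v' = (if v = v' then 1 else 0) + (if v = -v' then 1 else 0) + 2)
    (hdeg0 : ∀ v : ZMod p, v ≠ 0 → ∑ i, d i * a i v = 0)
    (hdeg : ∀ i, d i = (p : ℂ) * c i + ∑ v : ZMod p, (if v = 0 then 0 else a i v))
    (h0a : ∀ v : ZMod p, v ≠ 0 → a i₀ v = -1) (h0d : d i₀ = 1)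
    (h12a : ∀ v : ZMod p, v ≠ 0 → a i₁ v + a i₂ v = 1) (h12c : c i₁ + c i₂ = 1) :
    ∃ j : ι, d j = (p : ℂ) - 2 ∧
      ∀ v : ZMod p, v ≠ 0 → a j v = if v = 1 ∨ v = -1 then -1 else 0 := by

  classical
  choose A hA using haz
  choose C hC using hcn
  choose D hD0 hD using hdn
  have hsymZ : ∀ i v, A i (-v) = A i v := by
    intro i v
    have := hsym i v
    rw [hA, hA] at this
    exact_mod_cast this
  have hgramZ : ∀ v v' : ZMod p, v ≠ 0 → v' ≠ 0 →
      ∑ i, A i v * A i v' = (if v = v' then 1 else 0) + (if v = -v' then 1 else 0) + 2 := by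
    intro v v' hv hv'
    have := hgram v v' hv hv'
    simp only [hA] at this
    exact_mod_cast this
  have hdeg0Z : ∀ v : ZMod p, v ≠ 0 → ∑ i, (D i : ℤ) * A i v = 0 := by
    intro v hv
    have := hdeg0 v hv
    simp only [hA, hD] at this
    exact_mod_cast this
  have hdegZ : ∀ i, (D i : ℤ) = (p : ℤ) * (C i : ℤ) +
      ∑ v : ZMod p, (if v = 0 then 0 else A i v) := by
    intro i
    have := hdeg i
    simp only [hA, hD, hC] at this
    exact_mod_cast this
  have h0aZ : ∀ v : ZMod p, v ≠ 0 → A i₀ v = -1 := by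
    intro v hv
    have := h0a v hv
    rw [hA] at this
    exact_mod_cast this
  have h0dZ : (D i₀ : ℤ) = 1 := by
    have := h0d
    rw [hD] at this
    exact_mod_cast this
  have h12aZ : ∀ v : ZMod p, v ≠ 0 → A i₁ v + A i₂ v = 1 := by
    intro v hv
    have := h12a v hv
    rw [hA, hA] at this
    exact_mod_cast this
  have h12cZ : (C i₁ : ℤ) + (C i₂ : ℤ) = 1 := by
    have := h12c
    rw [hC, hC] at this
    exact_mod_cast this
  have key : ∀ j₁ j₂ : ι, j₁ ≠ i₀ → j₂ ≠ i₀ → j₁ ≠ j₂ →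
      (∀ v : ZMod p, v ≠ 0 → A j₁ v + A j₂ v = 1) → (C j₁ : ℤ) + (C j₂ : ℤ) = 1 →
      A j₁ 1 ≠ 0 →
      ∃ j : ι, (D j : ℤ) = (p : ℤ) - 2 ∧
        ∀ v : ZMod p, v ≠ 0 → A j v = if v = 1 ∨ v = -1 then -1 else 0 :=
    fun j₁ j₂ g1 g2 g12 ga gc gx =>
      core_int p hp A (fun i => (C i : ℤ)) (fun i => (D i : ℤ)) i₀ j₁ j₂ g1 g2 g12
        (fun i => Int.natCast_nonneg _) (fun i => by exact_mod_cast hD0 i) hsymZ hgramZ hdeg0Z
        hdegZ h0aZ h0dZ ga gc gx
  have fin : ∃ j : ι, (D j : ℤ) = (p : ℤ) - 2 ∧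
      ∀ v : ZMod p, v ≠ 0 → A j v = if v = 1 ∨ v = -1 then -1 else 0 := by
    by_cases hx : A i₁ 1 = 0
    · refine key i₂ i₁ h02 h01 h12.symm (fun v hv => by rw [add_comm]; exact h12aZ v hv)
        (by rw [add_comm]; exact h12cZ) ?_
      have := h12aZ 1 one_ne_zero
      rw [hx, zero_add] at this
      rw [this]
      exact one_ne_zero
    · exact key i₁ i₂ h01 h02 h12 h12aZ h12cZ hx
  obtain ⟨j, hj1, hj2⟩ := fin
  refine ⟨j, ?_, ?_⟩
  · rw [hD j]
    have := congrArg (fun z : ℤ => (z : ℂ)) hj1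
    simpa using this
  · intro v hv
    rw [hA j v, hj2 v hv]
    split_ifs <;> simp

end Cfsg.Agent.Lib.Helper38.W2
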