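import Cfsg.Agent.Lib.Helper38.Y5AData

set_option maxRecDepth 100000
set_option maxHeartbeats 0

namespace Cfsg.Agent.Lib.Helper38.Y5A

theorem chkV_60 : allFrom 30000 500 cert.chkV = true := by decide +kernel
theorem chkV_61 : allFrom 30500 500 cert.chkV = true := by decide +kernel
theorem chkV_62 : allFrom 31000 500 cert.chkV = true := by decide +kernel
theorem chkV_63 : allFrom 31500 500 cert.chkV = true := by decide +kernel
theorem chkV_64 : allFrom 32000 500 cert.chkV = true := by decide +kernel
theorem chkV_65 : allFrom 32500 500 cert.chkV = true := by decide +kernel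
theorem chkV_66 : allFrom 33000 500 cert.chkV = true := by decide +kernel
theorem chkV_67 : allFrom 33500 500 cert.chkV = true := by decide +kernel
theorem chkV_68 : allFrom 34000 500 cert.chkV = true := by decide +kernel
theorem chkV_69 : allFrom 34500 500 cert.chkV = true := by decide +kernel
theorem chkV_70 : allFrom 35000 500 cert.chkV = true := by decide +kernel
theorem chkV_71 : allFrom 35500 500 cert.chkV = true := by decide +kernel

end Cfsg.Agent.Lib.Helper38.Y5A
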