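import Cfsg.Agent.Lib.Helper38.Y5AData

set_option maxRecDepth 100000
set_option maxHeartbeats 0

namespace Cfsg.Agent.Lib.Helper38.Y5A

theorem chkV_72 : allFrom 36000 500 cert.chkV = true := by decide +kernel
theorem chkV_73 : allFrom 36500 500 cert.chkV = true := by decide +kernel
theorem chkV_74 : allFrom 37000 500 cert.chkV = true := by decide +kernel
theorem chkV_75 : allFrom 37500 500 cert.chkV = true := by decide +kernel
theorem chkV_76 : allFrom 38000 500 cert.chkV = true := by decide +kernel
theorem chkV_77 : allFrom 38500 500 cert.chkV = true := by decide +kernel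
theorem chkV_78 : allFrom 39000 500 cert.chkV = true := by decide +kernel
theorem chkV_79 : allFrom 39500 500 cert.chkV = true := by decide +kernel
theorem chkV_80 : allFrom 40000 500 cert.chkV = true := by decide +kernel
theorem chkV_81 : allFrom 40500 500 cert.chkV = true := by decide +kernel
theorem chkV_82 : allFrom 41000 500 cert.chkV = true := by decide +kernel
theorem chkV_83 : allFrom 41500 500 cert.chkV = true := by decide +kernel

end Cfsg.Agent.Lib.Helper38.Y5A
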