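import Cfsg.Agent.Lib.Helper38.Y5AV0
import Cfsg.Agent.Lib.Helper38.Y5AV1
import Cfsg.Agent.Lib.Helper38.Y5AV2
import Cfsg.Agent.Lib.Helper38.Y5AV3
import Cfsg.Agent.Lib.Helper38.Y5AV4
import Cfsg.Agent.Lib.Helper38.Y5AV5
import Cfsg.Agent.Lib.Helper38.Y5AV6
import Cfsg.Agent.Lib.Helper38.Y5AV7

set_option maxRecDepth 100000
set_option maxHeartbeats 0

namespace Cfsg.Agent.Lib.Helper38.Y5A

theorem chkV_all : ∀ v < 46188, cert.chkV v = true := by
  intro v hv
  by_cases h0 : v < 500
  · exact allFrom_iff.mp chkV_0 v (by omega) (by omega)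
  by_cases h1 : v < 1000
  · exact allFrom_iff.mp chkV_1 v (by omega) (by omega)
  by_cases h2 : v < 1500
  · exact allFrom_iff.mp chkV_2 v (by omega) (by omega)
  by_cases h3 : v < 2000
  · exact allFrom_iff.mp chkV_3 v (by omega) (by omega)
  by_cases h4 : v < 2500
  · exact allFrom_iff.mp chkV_4 v (by omega) (by omega)
  by_cases h5 : v < 3000
  · exact allFrom_iff.mp chkV_5 v (by omega) (by omega)
  by_cases h6 : v < 3500
  · exact allFrom_iff.mp chkV_6 v (by omega) (by omega)
  by_cases h7 : v < 4000
  · exact allFrom_iff.mp chkV_7 v (by omega) (by omega)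
  by_cases h8 : v < 4500
  · exact allFrom_iff.mp chkV_8 v (by omega) (by omega)
  by_cases h9 : v < 5000
  · exact allFrom_iff.mp chkV_9 v (by omega) (by omega)
  by_cases h10 : v < 5500
  · exact allFrom_iff.mp chkV_10 v (by omega) (by omega)
  by_cases h11 : v < 6000
  · exact allFrom_iff.mp chkV_11 v (by omega) (by omega)
  by_cases h12 : v < 6500
  · exact allFrom_iff.mp chkV_12 v (by omega) (by omega)
  by_cases h13 : v < 7000
  · exact allFrom_iff.mp chkV_13 v (by omega) (by omega)
  by_cases h14 : v < 7500
  · exact allFrom_iff.mp chkV_14 v (by omega) (by omega)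
  by_cases h15 : v < 8000
  · exact allFrom_iff.mp chkV_15 v (by omega) (by omega)
  by_cases h16 : v < 8500
  · exact allFrom_iff.mp chkV_16 v (by omega) (by omega)
  by_cases h17 : v < 9000
  · exact allFrom_iff.mp chkV_17 v (by omega) (by omega)
  by_cases h18 : v < 9500
  · exact allFrom_iff.mp chkV_18 v (by omega) (by omega)
  by_cases h19 : v < 10000
  · exact allFrom_iff.mp chkV_19 v (by omega) (by omega)
  by_cases h20 : v < 10500
  · exact allFrom_iff.mp chkV_20 v (by omega) (by omega)
  by_cases h21 : v < 11000
  · exact allFrom_iff.mp chkV_21 v (by omega) (by omega)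
  by_cases h22 : v < 11500
  · exact allFrom_iff.mp chkV_22 v (by omega) (by omega)
  by_cases h23 : v < 12000
  · exact allFrom_iff.mp chkV_23 v (by omega) (by omega)
  by_cases h24 : v < 12500
  · exact allFrom_iff.mp chkV_24 v (by omega) (by omega)
  by_cases h25 : v < 13000
  · exact allFrom_iff.mp chkV_25 v (by omega) (by omega)
  by_cases h26 : v < 13500
  · exact allFrom_iff.mp chkV_26 v (by omega) (by omega)
  by_cases h27 : v < 14000
  · exact allFrom_iff.mp chkV_27 v (by omega) (by omega)
  by_cases h28 : v < 14500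
  · exact allFrom_iff.mp chkV_28 v (by omega) (by omega)
  by_cases h29 : v < 15000
  · exact allFrom_iff.mp chkV_29 v (by omega) (by omega)
  by_cases h30 : v < 15500
  · exact allFrom_iff.mp chkV_30 v (by omega) (by omega)
  by_cases h31 : v < 16000
  · exact allFrom_iff.mp chkV_31 v (by omega) (by omega)
  by_cases h32 : v < 16500
  · exact allFrom_iff.mp chkV_32 v (by omega) (by omega)
  by_cases h33 : v < 17000
  · exact allFrom_iff.mp chkV_33 v (by omega) (by omega)
  by_cases h34 : v < 17500
  · exact allFrom_iff.mp chkV_34 v (by omega) (by omega)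
  by_cases h35 : v < 18000
  · exact allFrom_iff.mp chkV_35 v (by omega) (by omega)
  by_cases h36 : v < 18500
  · exact allFrom_iff.mp chkV_36 v (by omega) (by omega)
  by_cases h37 : v < 19000
  · exact allFrom_iff.mp chkV_37 v (by omega) (by omega)
  by_cases h38 : v < 19500
  · exact allFrom_iff.mp chkV_38 v (by omega) (by omega)
  by_cases h39 : v < 20000
  · exact allFrom_iff.mp chkV_39 v (by omega) (by omega)
  by_cases h40 : v < 20500
  · exact allFrom_iff.mp chkV_40 v (by omega) (by omega)
  by_cases h41 : v < 21000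
  · exact allFrom_iff.mp chkV_41 v (by omega) (by omega)
  by_cases h42 : v < 21500
  · exact allFrom_iff.mp chkV_42 v (by omega) (by omega)
  by_cases h43 : v < 22000
  · exact allFrom_iff.mp chkV_43 v (by omega) (by omega)
  by_cases h44 : v < 22500
  · exact allFrom_iff.mp chkV_44 v (by omega) (by omega)
  by_cases h45 : v < 23000
  · exact allFrom_iff.mp chkV_45 v (by omega) (by omega)
  by_cases h46 : v < 23500
  · exact allFrom_iff.mp chkV_46 v (by omega) (by omega)
  by_cases h47 : v < 24000
  · exact allFrom_iff.mp chkV_47 v (by omega) (by omega)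
  by_cases h48 : v < 24500
  · exact allFrom_iff.mp chkV_48 v (by omega) (by omega)
  by_cases h49 : v < 25000
  · exact allFrom_iff.mp chkV_49 v (by omega) (by omega)
  by_cases h50 : v < 25500
  · exact allFrom_iff.mp chkV_50 v (by omega) (by omega)
  by_cases h51 : v < 26000
  · exact allFrom_iff.mp chkV_51 v (by omega) (by omega)
  by_cases h52 : v < 26500
  · exact allFrom_iff.mp chkV_52 v (by omega) (by omega)
  by_cases h53 : v < 27000
  · exact allFrom_iff.mp chkV_53 v (by omega) (by omega)
  by_cases h54 : v < 27500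
  · exact allFrom_iff.mp chkV_54 v (by omega) (by omega)
  by_cases h55 : v < 28000
  · exact allFrom_iff.mp chkV_55 v (by omega) (by omega)
  by_cases h56 : v < 28500
  · exact allFrom_iff.mp chkV_56 v (by omega) (by omega)
  by_cases h57 : v < 29000
  · exact allFrom_iff.mp chkV_57 v (by omega) (by omega)
  by_cases h58 : v < 29500
  · exact allFrom_iff.mp chkV_58 v (by omega) (by omega)
  by_cases h59 : v < 30000
  · exact allFrom_iff.mp chkV_59 v (by omega) (by omega)
  by_cases h60 : v < 30500
  · exact allFrom_iff.mp chkV_60 v (by omega) (by omega)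
  by_cases h61 : v < 31000
  · exact allFrom_iff.mp chkV_61 v (by omega) (by omega)
  by_cases h62 : v < 31500
  · exact allFrom_iff.mp chkV_62 v (by omega) (by omega)
  by_cases h63 : v < 32000
  · exact allFrom_iff.mp chkV_63 v (by omega) (by omega)
  by_cases h64 : v < 32500
  · exact allFrom_iff.mp chkV_64 v (by omega) (by omega)
  by_cases h65 : v < 33000
  · exact allFrom_iff.mp chkV_65 v (by omega) (by omega)
  by_cases h66 : v < 33500
  · exact allFrom_iff.mp chkV_66 v (by omega) (by omega)
  by_cases h67 : v < 34000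
  · exact allFrom_iff.mp chkV_67 v (by omega) (by omega)
  by_cases h68 : v < 34500
  · exact allFrom_iff.mp chkV_68 v (by omega) (by omega)
  by_cases h69 : v < 35000
  · exact allFrom_iff.mp chkV_69 v (by omega) (by omega)
  by_cases h70 : v < 35500
  · exact allFrom_iff.mp chkV_70 v (by omega) (by omega)
  by_cases h71 : v < 36000
  · exact allFrom_iff.mp chkV_71 v (by omega) (by omega)
  by_cases h72 : v < 36500
  · exact allFrom_iff.mp chkV_72 v (by omega) (by omega)
  by_cases h73 : v < 37000
  · exact allFrom_iff.mp chkV_73 v (by omega) (by omega)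
  by_cases h74 : v < 37500
  · exact allFrom_iff.mp chkV_74 v (by omega) (by omega)
  by_cases h75 : v < 38000
  · exact allFrom_iff.mp chkV_75 v (by omega) (by omega)
  by_cases h76 : v < 38500
  · exact allFrom_iff.mp chkV_76 v (by omega) (by omega)
  by_cases h77 : v < 39000
  · exact allFrom_iff.mp chkV_77 v (by omega) (by omega)
  by_cases h78 : v < 39500
  · exact allFrom_iff.mp chkV_78 v (by omega) (by omega)
  by_cases h79 : v < 40000
  · exact allFrom_iff.mp chkV_79 v (by omega) (by omega)
  by_cases h80 : v < 40500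
  · exact allFrom_iff.mp chkV_80 v (by omega) (by omega)
  by_cases h81 : v < 41000
  · exact allFrom_iff.mp chkV_81 v (by omega) (by omega)
  by_cases h82 : v < 41500
  · exact allFrom_iff.mp chkV_82 v (by omega) (by omega)
  by_cases h83 : v < 42000
  · exact allFrom_iff.mp chkV_83 v (by omega) (by omega)
  by_cases h84 : v < 42500
  · exact allFrom_iff.mp chkV_84 v (by omega) (by omega)
  by_cases h85 : v < 43000
  · exact allFrom_iff.mp chkV_85 v (by omega) (by omega)
  by_cases h86 : v < 43500
  · exact allFrom_iff.mp chkV_86 v (by omega) (by omega)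
  by_cases h87 : v < 44000
  · exact allFrom_iff.mp chkV_87 v (by omega) (by omega)
  by_cases h88 : v < 44500
  · exact allFrom_iff.mp chkV_88 v (by omega) (by omega)
  by_cases h89 : v < 45000
  · exact allFrom_iff.mp chkV_89 v (by omega) (by omega)
  by_cases h90 : v < 45500
  · exact allFrom_iff.mp chkV_90 v (by omega) (by omega)
  by_cases h91 : v < 46000
  · exact allFrom_iff.mp chkV_91 v (by omega) (by omega)
  exact allFrom_iff.mp chkV_92 v (by omega) (by omega)

end Cfsg.Agent.Lib.Helper38.Y5A
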