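import Cfsg.Agent.Lib.Helper38.Y5PAData

set_option maxRecDepth 100000
set_option maxHeartbeats 0

namespace Cfsg.Agent.Lib.Helper38.Y5PA

theorem chkN_24 : allFrom 6000 250 cert.chkN = true := by decide +kernel
theorem chkN_25 : allFrom 6250 250 cert.chkN = true := by decide +kernel
theorem chkN_26 : allFrom 6500 250 cert.chkN = true := by decide +kernel
theorem chkN_27 : allFrom 6750 250 cert.chkN = true := by decide +kernel
theorem chkN_28 : allFrom 7000 250 cert.chkN = true := by decide +kernel
theorem chkN_29 : allFrom 7250 250 cert.chkN = true := by decide +kernel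
theorem chkN_30 : allFrom 7500 250 cert.chkN = true := by decide +kernel
theorem chkN_31 : allFrom 7750 250 cert.chkN = true := by decide +kernel
theorem chkN_32 : allFrom 8000 250 cert.chkN = true := by decide +kernel
theorem chkN_33 : allFrom 8250 250 cert.chkN = true := by decide +kernel
theorem chkN_34 : allFrom 8500 250 cert.chkN = true := by decide +kernel
theorem chkN_35 : allFrom 8750 250 cert.chkN = true := by decide +kernel

end Cfsg.Agent.Lib.Helper38.Y5PA
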