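import Cfsg.Agent.Lib.Helper38.Y5PAData

set_option maxRecDepth 100000
set_option maxHeartbeats 0

namespace Cfsg.Agent.Lib.Helper38.Y5PA

theorem chkN_108 : allFrom 27000 250 cert.chkN = true := by decide +kernel
theorem chkN_109 : allFrom 27250 250 cert.chkN = true := by decide +kernel
theorem chkN_110 : allFrom 27500 250 cert.chkN = true := by decide +kernel
theorem chkN_111 : allFrom 27750 250 cert.chkN = true := by decide +kernel
theorem chkN_112 : allFrom 28000 160 cert.chkN = true := by decide +kernel

end Cfsg.Agent.Lib.Helper38.Y5PA
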