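import Cfsg.Agent.Lib.Helper38.Y5PAData

set_option maxRecDepth 100000
set_option maxHeartbeats 0

namespace Cfsg.Agent.Lib.Helper38.Y5PA

theorem chkV_120 : allFrom 60000 500 cert.chkV = true := by decide +kernel
theorem chkV_121 : allFrom 60500 500 cert.chkV = true := by decide +kernel
theorem chkV_122 : allFrom 61000 500 cert.chkV = true := by decide +kernel
theorem chkV_123 : allFrom 61500 500 cert.chkV = true := by decide +kernel
theorem chkV_124 : allFrom 62000 500 cert.chkV = true := by decide +kernel
theorem chkV_125 : allFrom 62500 500 cert.chkV = true := by decide +kernel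
theorem chkV_126 : allFrom 63000 500 cert.chkV = true := by decide +kernel
theorem chkV_127 : allFrom 63500 500 cert.chkV = true := by decide +kernel
theorem chkV_128 : allFrom 64000 500 cert.chkV = true := by decide +kernel
theorem chkV_129 : allFrom 64500 500 cert.chkV = true := by decide +kernel
theorem chkV_130 : allFrom 65000 500 cert.chkV = true := by decide +kernel
theorem chkV_131 : allFrom 65500 500 cert.chkV = true := by decide +kernel

end Cfsg.Agent.Lib.Helper38.Y5PA
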