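import Cfsg.Agent.Lib.Helper38.Y5PAData

set_option maxRecDepth 100000
set_option maxHeartbeats 0

namespace Cfsg.Agent.Lib.Helper38.Y5PA

theorem chkV_144 : allFrom 72000 500 cert.chkV = true := by decide +kernel
theorem chkV_145 : allFrom 72500 500 cert.chkV = true := by decide +kernel
theorem chkV_146 : allFrom 73000 500 cert.chkV = true := by decide +kernel
theorem chkV_147 : allFrom 73500 500 cert.chkV = true := by decide +kernel
theorem chkV_148 : allFrom 74000 500 cert.chkV = true := by decide +kernel
theorem chkV_149 : allFrom 74500 500 cert.chkV = true := by decide +kernel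
theorem chkV_150 : allFrom 75000 500 cert.chkV = true := by decide +kernel
theorem chkV_151 : allFrom 75500 500 cert.chkV = true := by decide +kernel
theorem chkV_152 : allFrom 76000 500 cert.chkV = true := by decide +kernel
theorem chkV_153 : allFrom 76500 443 cert.chkV = true := by decide +kernel

end Cfsg.Agent.Lib.Helper38.Y5PA
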