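import Cfsg.Agent.Lib.Helper38.Y5PAData

set_option maxRecDepth 100000
set_option maxHeartbeats 0

namespace Cfsg.Agent.Lib.Helper38.Y5PA

theorem chkV_96 : allFrom 48000 500 cert.chkV = true := by decide +kernel
theorem chkV_97 : allFrom 48500 500 cert.chkV = true := by decide +kernel
theorem chkV_98 : allFrom 49000 500 cert.chkV = true := by decide +kernel
theorem chkV_99 : allFrom 49500 500 cert.chkV = true := by decide +kernel
theorem chkV_100 : allFrom 50000 500 cert.chkV = true := by decide +kernel
theorem chkV_101 : allFrom 50500 500 cert.chkV = true := by decide +kernel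
theorem chkV_102 : allFrom 51000 500 cert.chkV = true := by decide +kernel
theorem chkV_103 : allFrom 51500 500 cert.chkV = true := by decide +kernel
theorem chkV_104 : allFrom 52000 500 cert.chkV = true := by decide +kernel
theorem chkV_105 : allFrom 52500 500 cert.chkV = true := by decide +kernel
theorem chkV_106 : allFrom 53000 500 cert.chkV = true := by decide +kernel
theorem chkV_107 : allFrom 53500 500 cert.chkV = true := by decide +kernel

end Cfsg.Agent.Lib.Helper38.Y5PA
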